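import Cfsg.Agent.R2.Spec.P1.TopDef
import Cfsg.Agent.H403.LinTor

/-!
# S3435, box X5 (helper12): products of two tori in `PSL`, `PSU`

* `torL` : `k + b < n`: an element `x` with `orderOf x * c = lcm (AA k, AA b)`, `c ∣ gcd (n, q ∓ 1)`, and `c = 1` if
  `k + b + 2 ≤ n`.
-/

set_option autoImplicit false
set_option linter.unusedSectionVars false

namespace Cfsg.Agent.R2.Spec.X5

open Cfsg Cfsg.Agent.H426.LieFam Cfsg.Agent.R2.Spec Cfsg.Agent.R2.Spec.P1
open Cfsg.Agent.H403 Matrix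
open Cfsg.Agent.H403.NumTop

universe u

section

variable {F : Type*} [Field F] [Fintype F] {e : Bool} {n q : ℕ} {L : Type*} [Group L]

/-- unitary if `e = false` -/
def UM (e : Bool) (q : ℕ) {ι : Type*} [Fintype ι] [DecidableEq ι] (M : Matrix ι ι F) : Prop :=
  e = false → Mᵀ * M.map (fun x => x ^ q) = 1

theorem IsL_exists (h : IsL L e n q F) (hF : Fintype.card F = q ^ (cond e 0 1 + 1)) (hn : 3 ≤ n)
    {M : Matrix (Fin n) (Fin n) F} (hd : M.det = 1) (hU : UM e q M) :
    ∃ g : L, (∀ j, M ^ j = 1 → g ^ j = 1) ∧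
      (∀ j, g ^ j = 1 → ∃ c : F, M ^ j = Matrix.diagonal (fun _ => c) ∧ c ^ n = 1 ∧ c ^ AA e 1 q = 1) := by
  cases e with
  | true =>
    obtain ⟨f⟩ := h
    have hF' : Fintype.card F = q := by simpa using hF
    let A : Matrix.SpecialLinearGroup (Fin n) F := ⟨M, hd⟩
    refine ⟨f.symm (QuotientGroup.mk A : Matrix.SpecialLinearGroup (Fin n) F ⧸ _), ?_, ?_⟩
    · intro j hj
      rw [← map_pow, ← QuotientGroup.mk_pow]
      have : A ^ j = 1 := by
        apply Subtype.ext
        rw [Matrix.SpecialLinearGroup.coe_pow]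
        exact hj
      rw [this]
      exact map_one _
    · intro j hj
      rw [← map_pow, map_eq_one_iff _ f.symm.injective, ← QuotientGroup.mk_pow, QuotientGroup.eq_one_iff,
        Matrix.SpecialLinearGroup.mem_center_iff] at hj
      obtain ⟨c, hc1, hc⟩ := hj
      rw [Matrix.SpecialLinearGroup.coe_pow] at hc
      rw [Fintype.card_fin] at hc1
      have hc0 : c ≠ 0 := by
        rintro rfl
        rw [zero_pow (by omega)] at hc1
        exact zero_ne_one hc1
      refine ⟨c, hc.symm, hc1, ?_⟩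
      rw [AA_one]
      show c ^ (q - 1) = 1
      rw [← hF']
      exact FiniteField.pow_card_sub_one_eq_one _ hc0
  | false =>
    obtain ⟨f⟩ := h
    have hF' : Fintype.card F = q ^ 2 := by simpa using hF
    have hM := hU rfl
    have hpres : ∀ u v : Fin n → F, hermForm n F q (M *ᵥ u) (M *ᵥ v) = hermForm n F q u v :=
      (ClassicalGeometry.HermParabolic.preserves_iff hF' M).2 hM
    let A : Cfsg.SU n F q := ⟨⟨M, hd⟩, hpres⟩
    have hpow : ∀ k, (((A ^ k : Cfsg.SU n F q) : Matrix.SpecialLinearGroup (Fin n) F) : Matrix (Fin n) (Fin n) F) =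
        M ^ k := fun k => by rw [Subgroup.coe_pow, Matrix.SpecialLinearGroup.coe_pow]
    refine ⟨f.symm (QuotientGroup.mk A : Cfsg.PSU n F q), ?_, ?_⟩
    · intro j hj
      rw [← map_pow, ← QuotientGroup.mk_pow]
      have : A ^ j = 1 := by
        apply Subtype.ext
        apply Subtype.ext
        rw [hpow]
        exact hj
      rw [this]
      exact map_one _
    · intro j hj
      rw [← map_pow, map_eq_one_iff _ f.symm.injective, ← QuotientGroup.mk_pow, QuotientGroup.eq_one_iff] at hj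
      obtain ⟨c, hcn, hcq, hc⟩ := (LieClassical.SUBasic.mem_center_SU_iff hF' hn _).1 hj
      refine ⟨c, ?_, hcn, ?_⟩
      · rw [← hpow, hc, LieClassical.SUBasic.coe_suScalar q c hcn hcq]
      · rw [AA_one]
        exact hcq

theorem UM.block {ι κ : Type*} [Fintype ι] [DecidableEq ι] [Fintype κ] [DecidableEq κ] (hq : q ≠ 0)
    {A : Matrix ι ι F} {B : Matrix κ κ F} (hA : UM e q A) (hB : UM e q B) : UM e q (fromBlocks A 0 0 B) := by
  intro he
  have h2 : (fromBlocks A 0 0 B).map (fun x => x ^ q) = fromBlocks (A.map fun x => x ^ q) 0 0 (B.map fun x => x ^ q) := by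
    ext i j
    rcases i with i | i <;> rcases j with j | j
    · rfl
    · simp [zero_pow hq]
    · simp [zero_pow hq]
    · rfl
  rw [h2, fromBlocks_transpose, fromBlocks_multiply]
  simp only [Matrix.transpose_zero, Matrix.zero_mul, add_zero, Matrix.mul_zero, zero_add, hA he, hB he]
  exact fromBlocks_one

theorem UM.reindex {ι κ : Type*} [Fintype ι] [DecidableEq ι] [Fintype κ] [DecidableEq κ] (σ : ι ≃ κ)
    {A : Matrix ι ι F} (hA : UM e q A) : UM e q (reindexAlgEquiv F F σ A) := by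
  intro he
  have h3 : (reindexAlgEquiv F F σ A)ᵀ * (reindexAlgEquiv F F σ A).map (fun x => x ^ q) =
      reindexAlgEquiv F F σ (Aᵀ * A.map (fun x => x ^ q)) := by
    rw [map_mul]
    congr 1
  rw [h3, hA he, map_one]

theorem fromBlocks_pow' {ι κ : Type*} [Fintype ι] [DecidableEq ι] [Fintype κ] [DecidableEq κ]
    (A : Matrix ι ι F) (B : Matrix κ κ F) (j : ℕ) : (fromBlocks A 0 0 B) ^ j = fromBlocks (A ^ j) 0 0 (B ^ j) := by
  induction j with
  | zero => rw [pow_zero, pow_zero, pow_zero, fromBlocks_one]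
  | succ j ih => rw [pow_succ, ih, fromBlocks_multiply]; simp [pow_succ]

/-- the determinant -/
theorem det_AA (hF : Fintype.card F = q ^ (cond e 0 1 + 1)) {n : ℕ} {M : Matrix (Fin n) (Fin n) F} (hM : UM e q M)
    (h0 : M.det ≠ 0) : M.det ^ AA e 1 q = 1 := by
  cases e with
  | true =>
    have hF' : Fintype.card F = q := by simpa using hF
    rw [AA_one]
    show _ ^ (q - 1) = 1
    rw [← hF']
    exact FiniteField.pow_card_sub_one_eq_one _ h0
  | false =>
    have hF' : Fintype.card F = q ^ 2 := by simpa using hF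
    rw [AA_one]
    exact ClassicalGeometry.GUBasic.det_pow hF' ((ClassicalGeometry.HermParabolic.preserves_iff hF' M).2 (hM rfl))

/-- **Two blocks.** -/
theorem exists_two (h : IsL L e n q F) (hF : Fintype.card F = q ^ (cond e 0 1 + 1)) (hn : 3 ≤ n) {k b N₁ N₂ : ℕ}
    (hkb : k + b < n) (hk : 1 ≤ k) (hN₁ : 0 < N₁) (hN₂ : 0 < N₂) {A : Matrix (Fin k) (Fin k) F} (hA : UM e q A)
    (hoA : orderOf A = N₁) {B : Matrix (Fin b) (Fin b) F} (hB : UM e q B) (hoB : orderOf B = N₂) :
    ∃ x : L, ∃ c, orderOf x * c = Nat.lcm N₁ N₂ ∧ c ∣ Nat.gcd n (AA e 1 q) ∧ (k + b + 2 ≤ n → c = 1) := by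
  have hq : 2 ≤ q := two_le_of_card hF
  have hAN : A ^ N₁ = 1 := by rw [← hoA]; exact pow_orderOf_eq_one A
  have hBN : B ^ N₂ = 1 := by rw [← hoB]; exact pow_orderOf_eq_one B
  have hdA : A.det ^ N₁ = 1 := by rw [← Matrix.det_pow, hAN, Matrix.det_one]
  have hdB : B.det ^ N₂ = 1 := by rw [← Matrix.det_pow, hBN, Matrix.det_one]
  have hA0 : A.det ≠ 0 := by
    intro h0
    rw [h0, zero_pow hN₁.ne'] at hdA
    exact zero_ne_one hdA
  have hB0 : B.det ≠ 0 := by
    intro h0
    rw [h0, zero_pow hN₂.ne'] at hdB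
    exact zero_ne_one hdB
  obtain ⟨l, hl⟩ : ∃ l, n = k + b + (l + 1) := ⟨n - k - b - 1, by omega⟩
  set δ : F := (A.det * B.det)⁻¹ with hδ
  have hδ0 : δ ≠ 0 := inv_ne_zero (mul_ne_zero hA0 hB0)
  let D : Matrix (Fin (l + 1)) (Fin (l + 1)) F := Matrix.diagonal (fun i => if i = 0 then δ else 1)
  have hDpow : ∀ j, D ^ j = Matrix.diagonal (fun i => if i = 0 then δ ^ j else 1) := by
    intro j
    rw [Matrix.diagonal_pow]
    congr 1
    funext i
    rw [Pi.pow_apply]
    split_ifs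
    · rfl
    · exact one_pow _
  have hDdet : D.det = δ := by
    rw [Matrix.det_diagonal, Fin.prod_univ_succ]
    simp
  have hDU : UM e q D := by
    intro he
    have h1 : δ ^ AA e 1 q = 1 := by
      rw [hδ, inv_pow, mul_pow, det_AA hF hA hA0, det_AA hF hB hB0, one_mul, inv_one]
    rw [he, AA_one] at h1
    change δ ^ (q + 1) = 1 at h1
    rw [Matrix.diagonal_transpose, Matrix.diagonal_map (by simp [show q ≠ 0 by omega]), Matrix.diagonal_mul_diagonal,
      ← Matrix.diagonal_one]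
    congr 1
    funext i
    split_ifs
    · rw [← h1, pow_succ, mul_comm]
    · simp
  let σ : ((Fin k ⊕ Fin b) ⊕ Fin (l + 1)) ≃ Fin n := Fintype.equivFinOfCardEq (by simp; omega)
  let C : Matrix (Fin n) (Fin n) F := reindexAlgEquiv F F σ (fromBlocks (fromBlocks A 0 0 B) 0 0 D)
  have hCU : UM e q C := UM.reindex σ (UM.block (by omega) (UM.block (by omega) hA hB) hDU)
  have hCdet : C.det = 1 := by
    show (Matrix.reindex σ σ _).det = 1
    rw [Matrix.det_reindex_self, Matrix.det_fromBlocks_zero₂₁, Matrix.det_fromBlocks_zero₂₁, hDdet, hδ]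
    exact mul_inv_cancel₀ (mul_ne_zero hA0 hB0)
  have hCpow : ∀ j, C ^ j = reindexAlgEquiv F F σ (fromBlocks (fromBlocks (A ^ j) 0 0 (B ^ j)) 0 0 (D ^ j)) := by
    intro j
    show (reindexAlgEquiv F F σ _) ^ j = _
    rw [← map_pow, fromBlocks_pow', fromBlocks_pow']
  obtain ⟨x, hx1, hx2⟩ := IsL_exists h hF hn hCdet hCU
  have hlcm1 : x ^ Nat.lcm N₁ N₂ = 1 := by
    apply hx1
    obtain ⟨a, ha⟩ := Nat.dvd_lcm_left N₁ N₂
    obtain ⟨b', hb'⟩ := Nat.dvd_lcm_right N₁ N₂
    have h1 : A ^ Nat.lcm N₁ N₂ = 1 := by rw [ha, pow_mul, hAN, one_pow]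
    have h2 : B ^ Nat.lcm N₁ N₂ = 1 := by rw [hb', pow_mul, hBN, one_pow]
    have h3 : δ ^ Nat.lcm N₁ N₂ = 1 := by
      have h4 : A.det ^ Nat.lcm N₁ N₂ = 1 := by rw [ha, pow_mul, hdA, one_pow]
      have h5 : B.det ^ Nat.lcm N₁ N₂ = 1 := by rw [hb', pow_mul, hdB, one_pow]
      rw [hδ, inv_pow, mul_pow, h4, h5, one_mul, inv_one]
    rw [hCpow, h1, h2, hDpow, h3]
    simp
  have key : ∀ j, x ^ j = 1 → ∃ c : F, A ^ j = Matrix.diagonal (fun _ => c) ∧ B ^ j = Matrix.diagonal (fun _ => c) ∧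
      c ^ n = 1 ∧ c ^ AA e 1 q = 1 ∧ (2 ≤ l + 1 → c = 1) := by
    intro j hj
    obtain ⟨c, hc, hcn, hcq⟩ := hx2 j hj
    rw [hCpow] at hc
    have hent : ∀ i i', (fromBlocks (fromBlocks (A ^ j) 0 0 (B ^ j)) 0 0 (D ^ j)) i i' =
        if i = i' then c else 0 := by
      intro i i'
      have h1 := congrFun (congrFun hc (σ i)) (σ i')
      rw [Matrix.diagonal_apply] at h1
      simp only [σ.injective.eq_iff] at h1
      rw [← h1]
      simp [coe_reindexAlgEquiv]
    refine ⟨c, ?_, ?_, hcn, hcq, ?_⟩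
    · ext i i'
      have := hent (Sum.inl (Sum.inl i)) (Sum.inl (Sum.inl i'))
      rw [Matrix.diagonal_apply]
      simpa using this
    · ext i i'
      have := hent (Sum.inl (Sum.inr i)) (Sum.inl (Sum.inr i'))
      rw [Matrix.diagonal_apply]
      simpa using this
    · intro hl2
      have := hent (Sum.inr (Fin.last l)) (Sum.inr (Fin.last l))
      rw [if_pos rfl, fromBlocks_apply₂₂, hDpow, Matrix.diagonal_apply_eq, if_neg (by
        intro h0
        have := congrArg Fin.val h0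
        simp at this
        omega)] at this
      exact this.symm
  obtain ⟨c, hc⟩ := orderOf_dvd_of_pow_eq_one hlcm1
  have hlpos : 0 < Nat.lcm N₁ N₂ := Nat.lcm_pos hN₁ hN₂
  have hxpos : 0 < orderOf x := by
    rcases Nat.eq_zero_or_pos (orderOf x) with h0 | h0
    · rw [h0, zero_mul] at hc
      omega
    · exact h0
  obtain ⟨z, hzA, hzB, hzn, hzq, hz2⟩ := key _ (pow_orderOf_eq_one x)
  have hd : ∀ d, z ^ d = 1 → Nat.lcm N₁ N₂ ∣ orderOf x * d := by
    intro d hzd
    apply Nat.lcm_dvd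
    · rw [← hoA]
      apply orderOf_dvd_of_pow_eq_one
      rw [pow_mul, hzA, Matrix.diagonal_pow]
      have : (fun _ : Fin k => z) ^ d = 1 := by funext i; simpa using hzd
      rw [this]
      exact Matrix.diagonal_one
    · rw [← hoB]
      apply orderOf_dvd_of_pow_eq_one
      rw [pow_mul, hzB, Matrix.diagonal_pow]
      have : (fun _ : Fin b => z) ^ d = 1 := by funext i; simpa using hzd
      rw [this]
      exact Matrix.diagonal_one
  refine ⟨x, c, hc.symm, ?_, ?_⟩
  · have h1 : z ^ Nat.gcd n (AA e 1 q) = 1 := by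
      rw [← orderOf_dvd_iff_pow_eq_one]
      exact Nat.dvd_gcd (orderOf_dvd_of_pow_eq_one hzn) (orderOf_dvd_of_pow_eq_one hzq)
    have h2 := hd _ h1
    rw [hc] at h2
    exact Nat.dvd_of_mul_dvd_mul_left hxpos h2
  · intro hl2
    have h1 : z ^ 1 = 1 := by rw [hz2 (by omega), pow_one]
    have h2 := hd _ h1
    rw [hc] at h2
    exact Nat.dvd_one.1 (Nat.dvd_of_mul_dvd_mul_left hxpos h2)

/-- one torus of `GL`, `GU` -/
theorem exists_UM (hF : Fintype.card F = q ^ (cond e 0 1 + 1)) {k : ℕ} (hk : 1 ≤ k) :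
    ∃ A : Matrix (Fin k) (Fin k) F, UM e q A ∧ orderOf A = AA e k q := by
  cases e with
  | true =>
    have hF' : Fintype.card F = q := by simpa using hF
    obtain ⟨A, hA⟩ := exists_mat_lin (N := AA true k q) hF' hk (by simp [AA])
    exact ⟨A, (fun h => by cases h), hA⟩
  | false =>
    have hF' : Fintype.card F = q ^ 2 := by simpa using hF
    have h1 : HElt F q k (AA false k q) := by
      rcases Nat.even_or_odd k with he | ho
      · obtain ⟨m, hm⟩ := he
        have hm' : k = 2 * m := by omega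
        have h3 : AA false k q = q ^ k - 1 := by
          unfold AA
          have : k % 2 = 0 := by omega
          simp [this]
        rw [h3, hm']
        exact hElt_even hF' (by omega) dvd_rfl
      · have h3 : AA false k q = q ^ k + 1 := by
          unfold AA
          have : k % 2 = 1 := Nat.odd_iff.1 ho
          simp [this]
        rw [h3]
        exact hElt_odd hF' ho dvd_rfl
    obtain ⟨A, hA, ho⟩ := h1
    exact ⟨A, fun _ => hA, ho⟩

theorem AA_pos' {k : ℕ} (hk : 1 ≤ k) (hq : 2 ≤ q) : 0 < AA e k q := by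
  have : q ^ 1 ≤ q ^ k := Nat.pow_le_pow_right (by omega) hk
  rw [pow_one] at this
  rw [AA]
  split_ifs <;> omega

/-- **Two tori.** -/
theorem torL' (h : IsL L e n q F) (hF : Fintype.card F = q ^ (cond e 0 1 + 1)) (hn : 3 ≤ n) {k b : ℕ}
    (hk : 1 ≤ k) (hb : 1 ≤ b) (hkb : k + b < n) :
    ∃ x : L, ∃ c, orderOf x * c = Nat.lcm (AA e k q) (AA e b q) ∧ c ∣ Nat.gcd n (AA e 1 q) ∧ (k + b + 2 ≤ n → c = 1) := by
  have hq : 2 ≤ q := two_le_of_card hF
  obtain ⟨A, hA, hoA⟩ := exists_UM (F := F) (e := e) hF hk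
  obtain ⟨B, hB, hoB⟩ := exists_UM (F := F) (e := e) hF hb
  exact exists_two h hF hn hkb hk (AA_pos' hk hq) (AA_pos' hb hq) hA hoA hB hoB

/-- **One torus.** -/
theorem torL_one' (h : IsL L e n q F) (hF : Fintype.card F = q ^ (cond e 0 1 + 1)) (hn : 3 ≤ n) {k : ℕ}
    (hk : 1 ≤ k) (hkn : k < n) :
    ∃ x : L, ∃ c, orderOf x * c = AA e k q ∧ c ∣ Nat.gcd n (AA e 1 q) ∧ (k + 2 ≤ n → c = 1) := by
  have hq : 2 ≤ q := two_le_of_card hF
  obtain ⟨A, hA, hoA⟩ := exists_UM (F := F) (e := e) hF hk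
  have h1 := exists_two h hF hn (b := 0) (by omega) hk (AA_pos' hk hq) one_pos hA hoA (B := 1)
    (by
      intro _
      exact Subsingleton.elim _ _) orderOf_one
  simpa using h1

end

/-- the families `A` -/
def IsA : Fam → ℕ → Bool → Prop
  | .psl n, m, e => n = m ∧ e = true
  | .psu n, m, e => n = m ∧ e = false
  | _, _, _ => False

/-- **Two tori.** -/
theorem torL {t : Fam} {p f n : ℕ} {e : Bool} {X : Type u} [Group X] (h : Fam.Is p f X t) (ht : IsA t n e)
    (hn : 3 ≤ n) {k b : ℕ} (hk : 1 ≤ k) (hb : 1 ≤ b) (hkb : k + b < n) :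
    ∃ x : X, ∃ c, orderOf x * c = Nat.lcm (AA e k (p ^ f)) (AA e b (p ^ f)) ∧ c ∣ Nat.gcd n (AA e 1 (p ^ f)) ∧
      (k + b + 2 ≤ n → c = 1) := by
  cases t with
  | psl n' =>
    obtain ⟨rfl, rfl⟩ := ht
    obtain ⟨-, -, F, _, _, hch, hF, E⟩ := h
    exact torL' (F := F) (e := true) (show IsL X true n' (p ^ f) F from E) (by simpa using hF) hn hk hb hkb
  | psu n' =>
    obtain ⟨rfl, rfl⟩ := ht
    obtain ⟨-, -, F, _, _, hch, hF, E⟩ := h
    exact torL' (F := F) (e := false) (show IsL X false n' (p ^ f) F from E) (by simpa using hF) hn hk hb hkb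
  | _ => exact ht.elim

/-- **One torus.** -/
theorem torL_one {t : Fam} {p f n : ℕ} {e : Bool} {X : Type u} [Group X] (h : Fam.Is p f X t) (ht : IsA t n e)
    (hn : 3 ≤ n) {k : ℕ} (hk : 1 ≤ k) (hkn : k < n) :
    ∃ x : X, ∃ c, orderOf x * c = AA e k (p ^ f) ∧ c ∣ Nat.gcd n (AA e 1 (p ^ f)) ∧ (k + 2 ≤ n → c = 1) := by
  cases t with
  | psl n' =>
    obtain ⟨rfl, rfl⟩ := ht
    obtain ⟨-, -, F, _, _, hch, hF, E⟩ := h
    exact torL_one' (F := F) (e := true) (show IsL X true n' (p ^ f) F from E) (by simpa using hF) hn hk hkn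
  | psu n' =>
    obtain ⟨rfl, rfl⟩ := ht
    obtain ⟨-, -, F, _, _, hch, hF, E⟩ := h
    exact torL_one' (F := F) (e := false) (show IsL X false n' (p ^ f) F from E) (by simpa using hF) hn hk hkn
  | _ => exact ht.elim

end Cfsg.Agent.R2.Spec.X5
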