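import Cfsg.Agent.R2.Spec.X5.VC
import Cfsg.Agent.R2.Spec.X5.VNum

/-!
# S3435, box X5 (helper12): `v ∣ (q ^ n + 1) / 2` is impossible
-/

set_option autoImplicit false
set_option linter.unusedSectionVars false
set_option linter.unusedVariables false

namespace Cfsg.Agent.R2.Spec.X5

open Subgroup Cfsg
open Cfsg.Agent.H426.LieFam Cfsg.Agent.R2.Spec Cfsg.Agent.R2.Spec.P1 Cfsg.Agent.R2.Spec.F1
open Cfsg.Agent.H420.QR Cfsg.Agent.R2.Spec.P1.Eig Cfsg.Agent.H403.NumTop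

universe u w

variable {t : Fam} {p f : ℕ} {L : Type w} [Group L] [Finite L] {G : Type u} [Group G] [Finite G]
variable {K : Subgroup G} [K.Normal] {S : Subgroup (G ⧸ K)} [S.Normal]
variable {t' : Fam} {v f' : ℕ}

theorem gcd_minus {u m : ℕ} (hu : u % 2 = 1) (hm : m % 2 = 0) : Nat.gcd 4 (u ^ m + 1) = 2 := by
  have h8 : u ^ m % 8 = 1 := by
    obtain ⟨k, hk⟩ : ∃ k, m = 2 * k := ⟨m / 2, by omega⟩
    have h9 : u ^ 2 % 8 = 1 := by
      have h10 : u % 8 = 1 ∨ u % 8 = 3 ∨ u % 8 = 5 ∨ u % 8 = 7 := by omega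
      rcases h10 with h10 | h10 | h10 | h10 <;> rw [Nat.pow_mod, h10]
    rw [hk, pow_mul, Nat.pow_mod, h9, one_pow]
    rfl
  have : u ^ m + 1 = 2 * (4 * (u ^ m / 8) + 1) := by omega
  rw [this, show (4 : ℕ) = 2 * 2 by norm_num, Nat.gcd_mul_left]
  have : Nat.gcd 2 (2 * 2 * (u ^ m / 8) + 1) = 1 := by
    have h11 : Nat.Coprime 2 (2 * 2 * (u ^ m / 8) + 1) := by
      rw [Nat.coprime_two_left, Nat.odd_iff]
      omega
    exact h11
  rw [this]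

theorem sq_le_five_pow (k : ℕ) : k ^ 2 ≤ 5 ^ k := by
  induction k with
  | zero => norm_num
  | succ n ih =>
    rcases Nat.eq_zero_or_pos n with rfl | hn
    · norm_num
    · have h1 : (n + 1) ^ 2 ≤ 5 * n ^ 2 := by nlinarith
      calc (n + 1) ^ 2 ≤ 5 * n ^ 2 := h1
        _ ≤ 5 * 5 ^ n := Nat.mul_le_mul_left _ ih
        _ = 5 ^ (n + 1) := by ring

theorem vs (h : LS t p f L G) (hL : Fam.Is p f L t) (hR : Red G K S) (hF : Frm G K S t' v f')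
    (hp2 : p ≠ 2) (ht : CE t) {m : ℕ} (hm : t' = .ominus m) (hm2 : m % 2 = 0) (hm6 : 6 ≤ m) (huo : v ^ f' % 2 = 1)
    {δ : ℤ} (hδ : δ = 1 ∨ δ = -1) {w : ℕ} (hw : w.Prime) (hwc : cls t (p ^ f) w = icl (rk t) δ) {ε : ℤ}
    (hε : (cls t' (v ^ f') w = m - 1 ∧ ε = 1) ∨ (cls t' (v ^ f') w = 2 * (m - 1) ∧ ε = -1)) :
    VS (p ^ f) (rk t) (v ^ f') m ε δ := by
  obtain ⟨hn, hn2⟩ := ht.rk6
  have hq3 := h.q_three hp2
  have hqo : Odd (p ^ f) := Nat.odd_iff.2 (h.q_odd hp2)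
  have hu2 : 2 ≤ v ^ f' := hF.prime.two_le.trans (Nat.le_self_pow hF.f_ne v)
  have hJ := icl_JJ (δ := δ) hn
  have hwI := ht.in_J hJ hw hwc
  have hwv := h.ne_v_J hR hF hp2 ht hJ hw hwc
  have hwS := (h.good_J hR hF hp2 ht hJ hw hwc).2
  have hwv' : ¬ w ∣ v := fun hd => hwv ((Nat.prime_dvd_prime_iff_eq hw hF.prime).1 hd)
  have hTF := top_facts_all hF.cla hF.prime hF.is
  have hB : IsB t' m := by rw [hm]; exact rfl
  obtain ⟨j, hj⟩ : ∃ j, j = cls t' (v ^ f') w := ⟨_, rfl⟩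
  rw [← hj] at hε
  have hpm : ε = 1 ∨ ε = -1 := by rcases hε with ⟨-, h⟩ | ⟨-, h⟩ <;> rw [h] <;> simp
  have htn : tnum t' (v ^ f') j = AN ε (m - 1) (v ^ f') := by
    rw [tnum_B hB]
    rcases hε with ⟨h1, h2⟩ | ⟨h1, h2⟩ <;> rw [h1, h2]
    · rw [eB_odd (by omega), eta_odd (by omega)]
    · rw [eB_even (by omega), eta_two_mul']
  have htop : P1.top t' j := by
    rw [hm]
    rcases hε with ⟨h1, h2⟩ | ⟨h1, h2⟩
    · exact Or.inr (Or.inr ⟨h1, hm2⟩)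
    · exact Or.inr (Or.inl h1)
  have hpm1 := pow_mod_two (u := v ^ f') (m := m - 1) (by omega)
  have h1n1 := Nat.one_le_pow (m - 1) (v ^ f') (by omega)
  have hdv : AN ε (m - 1) (v ^ f') ∣ ttor t' (v ^ f') j := by
    rw [hm]
    rcases hε with ⟨h1, h2⟩ | ⟨h1, h2⟩
    · have h12 : ttor (.ominus m) (v ^ f') j = ((v ^ f') ^ (m - 1) - 1) * (v ^ f' + 1) / 2 := by
        change (if j = 2 * m then _ else if j = m - 1 then _ else _) = _
        rw [if_neg (by omega), if_pos h1, gcd_minus huo hm2]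
      obtain ⟨b, hb⟩ : ∃ b, v ^ f' + 1 = 2 * b := ⟨(v ^ f' + 1) / 2, by omega⟩
      rw [h12, hb, h2, AN_one, show ((v ^ f') ^ (m - 1) - 1) * (2 * b) = 2 * (((v ^ f') ^ (m - 1) - 1) * b) by ring,
        Nat.mul_div_cancel_left _ two_pos]
      exact Dvd.intro _ rfl
    · have h12 : ttor (.ominus m) (v ^ f') j = ((v ^ f') ^ (m - 1) + 1) * (v ^ f' - 1) / 2 := by
        change (if j = 2 * m then _ else if j = m - 1 then _ else _) = _
        rw [if_neg (by omega), if_neg (by omega), gcd_minus huo hm2]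
      obtain ⟨b, hb⟩ : ∃ b, v ^ f' - 1 = 2 * b := ⟨(v ^ f' - 1) / 2, by omega⟩
      rw [h12, hb, h2, AN_neg, show ((v ^ f') ^ (m - 1) + 1) * (2 * b) = 2 * (((v ^ f') ^ (m - 1) + 1) * b) by ring,
        Nat.mul_div_cancel_left _ two_pos]
      exact Dvd.intro _ rfl
  have hwt : w ∣ ttor t' (v ^ f') j := by
    have := Fact.mk hw
    obtain ⟨x, hx⟩ := exists_prime_orderOf_dvd_card' (G := S) w hwS
    have h5 := hTF.ub w hw hwv' (by rw [← hj]; exact htop) x (by rw [hx])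
    rwa [hx, ← hj] at h5
  have hsc := h.sc hL hR hF hp2 ht (icl_or (δ := δ) hn)
  have prim : ∀ R : ℕ, Odd R → R ∣ AN δ (rk t - 1) (p ^ f) →
      (∀ r : ℕ, r.Prime → r ∣ R → orderOf ((p ^ f : ℕ) : ZMod r) = if δ = 1 then rk t - 1 else 2 * (rk t - 1)) →
      R ∣ AN ε (m - 1) (v ^ f') := by
    intro R hRo hR1 hR2
    obtain ⟨j', g1, g2, g3, g4, g5⟩ := hsc
    have hjj : j' = j := by rw [hj, g4 w hw hwc]
    obtain ⟨g6, g7⟩ := exists_prim ht hδ hq3 hqo hR1 hR2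
    have g8 := (g5 R hRo g6 g7).2
    rwa [hjj, htn] at g8
  have hVR : ∀ R i : ℕ, i = rk t - 1 → R ∣ AN δ i (p ^ f) → (R : ℤ) ∣ ((((p ^ f) ^ (rk t - 1) : ℕ) : ℤ) - δ) := by
    intro R i hi hRd
    have h7 : ((AN δ i (p ^ f) : ℕ) : ℤ) = (((p ^ f) ^ (rk t - 1) : ℕ) : ℤ) - δ := by
      rw [AN_int hδ (by omega), hi]
      push_cast
      ring
    rw [← h7]
    exact_mod_cast hRd
  refine ⟨hpm, ?_, fun h6 => ?_, fun h10 => ?_⟩
  · obtain ⟨κ, k1, k2, k3⟩ := winS h hL hp2 ht hδ hw hwc (hTF.elt j htop) hwt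
    refine ⟨κ, k1, k2, dvd_trans ?_ k3⟩
    exact_mod_cast hdv
  · obtain ⟨R, r1, r2, r3, r4⟩ := exists_R5 hδ hq3 hqo
    exact ⟨R, r2, prim R r1 (by rw [h6]; exact r3) (by rw [h6]; exact r4), hVR R 5 (by omega) r3⟩
  · obtain ⟨R, r1, r2, r3, r4⟩ := exists_R9 hδ hq3 hqo
    exact ⟨R, r2, prim R r1 (by rw [h10]; exact r3) (by rw [h10]; exact r4), hVR R 9 (by omega) r3⟩

/-- **`v ∣ (q ^ n + 1) / 2` is impossible.** -/
theorem noV (h : LS t p f L G) (hL : Fam.Is p f L t) (hR : Red G K S) (hF : Frm G K S t' v f') (hvp : v ≠ p)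
    (hp2 : p ≠ 2) (ht : CE t) (hv : v ∣ ((p ^ f) ^ rk t + 1) / 2) : False := by
  obtain ⟨hn, hn2⟩ := ht.rk6
  have hq3 := h.q_three hp2
  obtain ⟨hA2, hAo, hAp⟩ := factsA (h.q_odd hp2) hq3 (by omega : 2 ≤ rk t) hn2
  obtain ⟨hv5, hvq2, hvq⟩ := hAp v hF.prime hv
  have hvo : v % 2 = 1 := by
    rcases hF.prime.eq_two_or_odd with h1 | h1
    · omega
    · exact h1
  have hf1 : 1 ≤ f' := Nat.one_le_iff_ne_zero.2 hF.f_ne
  have huo : v ^ f' % 2 = 1 := by rw [pow_mod_two hf1]; exact hvo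
  have hu5 : 5 ≤ v ^ f' := hv5.trans (Nat.le_self_pow (by omega) v)
  obtain ⟨m, hm, hm2, hw0, hw12⟩ := type_S h hL hR hF hvp hp2 ht hv
  obtain ⟨h0, e1, e2, e3⟩ := fac_v h hL hR hF hvp hp2 ht hv hm hw0 hm2
  obtain ⟨hvq4, c, hco, hcn⟩ := cls_v h hL hR hF hvp hp2 ht hv
  obtain ⟨r1, r2, r3⟩ := rank_S h hR hF hp2 ht
  have hrm : rk t' = m := by rw [hm]; rfl
  rw [hrm] at r2
  obtain ⟨s1, s2⟩ := r2 ⟨m, Or.inr hm⟩
  have hh0 : 0 < h0 := by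
    rcases Nat.eq_zero_or_pos h0 with h3 | h3
    · rw [h3, zero_mul] at e1
      omega
    · exact h3
  have D : VD (p ^ f) (rk t) (v ^ f') m h0 := by
    refine ⟨by omega, hn, hq3, h.q_odd hp2, hu5, s1, hv5.trans (Nat.le_of_dvd hh0 e2), e1, fun h14 => ?_, ⟨f', ?_, e3⟩⟩
    · have := s2 (by omega)
      omega
    · exact (sq_le_five_pow f').trans (Nat.pow_le_pow_left hv5 f')
  have hJ1 : icl (rk t) 1 ∈ JJ (rk t) := icl_JJ hn
  have hJ2 : icl (rk t) (-1) ∈ JJ (rk t) := icl_JJ hn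
  obtain ⟨w1, g1⟩ := h.exists_J hp2 ht hJ1
  obtain ⟨w2, g2⟩ := h.exists_J hp2 ht hJ2
  rcases hw12 w1 w2 g1.prime g1.cls_eq g2.prime g2.cls_eq with ⟨a1, a2⟩ | ⟨a1, a2⟩
  · exact D.false (ε1 := 1)
      (vs h hL hR hF hp2 ht hm hm2 s1 huo (Or.inl rfl) g1.prime g1.cls_eq (Or.inl ⟨a1, rfl⟩))
      (vs h hL hR hF hp2 ht hm hm2 s1 huo (Or.inr rfl) g2.prime g2.cls_eq (Or.inr ⟨a2, by norm_num⟩))
  · exact D.false (ε1 := -1)
      (vs h hL hR hF hp2 ht hm hm2 s1 huo (Or.inl rfl) g1.prime g1.cls_eq (Or.inr ⟨a1, rfl⟩))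
      (vs h hL hR hF hp2 ht hm hm2 s1 huo (Or.inr rfl) g2.prime g2.cls_eq (Or.inl ⟨a2, by norm_num⟩))

/-- **`S` is not classical in a characteristic `v ≠ p`.** -/
theorem no_classical (h : LS t p f L G) (hL : Fam.Is p f L t) (hR : Red G K S) (hF : Frm G K S t' v f') (hvp : v ≠ p)
    (hp2 : p ≠ 2) (ht : CE t) : False := by
  by_cases hv : v ∣ ((p ^ f) ^ rk t + 1) / 2
  · exact noV h hL hR hF hvp hp2 ht hv
  · have hcl := hF.cla
    cases t' with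
    | psl n => exact noA h hL hR hF hvp hp2 ht (m := n) (e := true) ⟨rfl, rfl⟩ hv
    | psu n => exact noA h hL hR hF hvp hp2 ht (m := n) (e := false) ⟨rfl, rfl⟩ hv
    | psp n => exact noB h hL hR hF hvp hp2 ht (m := n) rfl hv
    | oodd n => exact noB h hL hR hF hvp hp2 ht (m := n) rfl hv
    | oplus n => exact noB h hL hR hF hvp hp2 ht (m := n) rfl hv
    | ominus n => exact noB h hL hR hF hvp hp2 ht (m := n) rfl hv
    | _ => exact hcl.elim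

end Cfsg.Agent.R2.Spec.X5
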