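import Cfsg.Agent.R2.Spec.Iface
import Cfsg.Agent.H202.T.Main
import Cfsg.Agent.S2517
import Cfsg.Agent.R2.Spec.P1.Sp
import Cfsg.Agent.H902.Iso

/-!
# Team T3 (S3435), box X5: groups isospectral to `PΩ₈⁻(q)`, `q` odd (helper12)

`GHyp p q L` holds, so the frame of H202.T applies.
-/

set_option autoImplicit false
set_option linter.unusedSectionVars false

namespace Cfsg.Agent.R2.Spec.X5

open Cfsg Cfsg.Agent.H202.T Cfsg.Agent.H426.LieFam Cfsg.Agent.OrdDiv Cfsg.Agent.H436 Cfsg.Agent.H420.QR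

universe u v w

section

variable {F : Type w} [Field F] [Fintype F] {a b : F}

/-- an element order of `PΩ₈⁻(q)` is one of `Ω₉(q)` -/
theorem minus_to_nine (hodd : Odd (Fintype.card F))
    (hab : ∀ z₁ z₂ : F, z₁ ^ 2 + a * z₁ * z₂ + b * z₂ ^ 2 = 0 → z₁ = 0 ∧ z₂ = 0)
    (x : Cfsg.POmega F (Cfsg.quadFormMinus 3 F a b)) :
    ∃ y : Cfsg.POmega F (Cfsg.quadFormOdd 4 F), orderOf y = orderOf x := by
  obtain ⟨z, rfl⟩ := QuotientGroup.mk_surjective x
  have h1 : orderOf (QuotientGroup.mk z : Cfsg.POmega F (Cfsg.quadFormMinus 3 F a b)) ∣ orderOf z :=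
    orderOf_map_dvd (QuotientGroup.mk' _) z
  have h2 := S2517.result hodd a b hab
  have h3 := Set.ext_iff.1 h2 (orderOf z)
  obtain ⟨y, hy⟩ := h3.2 ⟨SemidirectProduct.inr z, orderOf_injective SemidirectProduct.inr
    SemidirectProduct.inr_injective z⟩
  have : Finite (Cfsg.POmega F (Cfsg.quadFormOdd 4 F)) := inferInstance
  rw [← hy] at h1
  obtain ⟨k, hk⟩ := h1
  refine ⟨y ^ k, ?_⟩
  have h4 : 0 < orderOf y := orderOf_pos y
  have hk0 : k ≠ 0 := by rintro rfl; omega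
  rw [orderOf_pow_of_dvd hk0 ⟨_, hk.trans (mul_comm _ _)⟩, hk, Nat.mul_div_cancel _ (Nat.pos_of_ne_zero hk0)]

theorem ghyp_ominus (hodd : Odd (Fintype.card F)) (p : ℕ) [hp : Fact p.Prime] [CharP F p]
    (hab : ∀ z₁ z₂ : F, z₁ ^ 2 + a * z₁ * z₂ + b * z₂ ^ 2 = 0 → z₁ = 0 ∧ z₂ = 0) :
    GHyp p (Fintype.card F) (Cfsg.POmega F (Cfsg.quadFormMinus 3 F a b)) := by
  obtain ⟨h1, h2, h3⟩ := char_facts hodd p
  have hq : 1 ≤ Fintype.card F := Fintype.card_pos
  have key : ∀ r : ℕ, r.Prime → r ≠ 2 → r ∣ (Fintype.card F ^ 4 - 1) * (Fintype.card F ^ 6 - 1) →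
      r ∣ Nat.card (Cfsg.POmega F (Cfsg.quadFormMinus 3 F a b)) := by
    intro r hr hr2 hd
    have h4 := S0294.result (F := F) rfl 4 le_rfl a b hab
    have h5 : r ∣ Nat.gcd 4 (Fintype.card F ^ 4 + 1) *
        Nat.card (Cfsg.POmega F (Cfsg.quadFormMinus (4 - 1) F a b)) := by
      rw [h4]
      refine Dvd.dvd.mul_left (hd.trans ?_) _
      simp only [Finset.prod_range_succ, Finset.prod_range_zero]
      norm_num
      refine ⟨Fintype.card F ^ 2 - 1, by ring⟩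
    rcases hr.dvd_mul.1 h5 with h6 | h6
    · have h7 : r ∣ 2 ^ 2 := h6.trans (Nat.gcd_dvd_left _ _)
      exact absurd ((Nat.prime_dvd_prime_iff_eq hr Nat.prime_two).1 (hr.dvd_of_dvd_pow h7)) hr2
    · exact h6
  have e6 : Fintype.card F ^ 3 - 1 ∣ Fintype.card F ^ 6 - 1 := cube_sub_dvd
  have e6' : Fintype.card F ^ 3 + 1 ∣ Fintype.card F ^ 6 - 1 := cube_add_dvd
  refine ⟨h1, h2, h3, ?_, ?_, ?_, ?_, ?_⟩
  · intro x
    obtain ⟨y, hy⟩ := minus_to_nine hodd hab x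
    rw [← hy]
    exact H104.UpNine.up9 hodd y
  · have h4 : Cfsg.Agent.H377.Elt F 4 (-1) (mm (Fintype.card F)) := by
      refine H377.elt_tor_minus (by norm_num) ?_
      rw [Nat.card_eq_fintype_card]
      exact ⟨2, by rw [mul_comm]; exact (two_mm hodd).symm⟩
    exact H377.Elt2.minus (m := 4) le_rfl hab (H377.Elt.two (by norm_num) (mm_odd hodd) h4)
  · intro r hr hr2 hd
    refine key r hr hr2 (Dvd.dvd.mul_left (Dvd.dvd.trans ?_ e6) _)
    rw [Cfsg.Agent.H202.T.cube_sub_eq hq]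
    exact Dvd.dvd.mul_left (by rwa [show Fintype.card F * (Fintype.card F + 1) + 1 =
      Fintype.card F ^ 2 + Fintype.card F + 1 by ring]) _
  · intro r hr hr2 hd
    refine key r hr hr2 (Dvd.dvd.mul_left (Dvd.dvd.trans ?_ e6') _)
    rw [Cfsg.Agent.H202.T.cube_add_eq hq]
    refine Dvd.dvd.mul_left ?_ _
    rwa [show Fintype.card F * (Fintype.card F - 1) = Fintype.card F ^ 2 - Fintype.card F by
      rw [pow_two, Nat.mul_sub_one]]
  · intro r hr hr2 hd
    refine key r hr hr2 (Dvd.dvd.mul_right (Dvd.dvd.trans hd ?_) _)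
    rw [four_eq]
    exact dvd_mul_right _ _

end

/-- **Groups isospectral to `PΩ₈⁻(q)`, `q` odd.** -/
theorem main_minus {F : Type w} [Field F] [Fintype F] (hodd : Odd (Fintype.card F)) {a b : F}
    (hab : ∀ z₁ z₂ : F, z₁ ^ 2 + a * z₁ * z₂ + b * z₂ ^ 2 = 0 → z₁ = 0 ∧ z₂ = 0) {p f : ℕ} (hp : p.Prime)
    (hf : Fintype.card F = p ^ f) {L : Type v} [Group L] [Finite L] (hadj : AdjFacts (.ominus 4) p f L)
    (e : L ≃* Cfsg.POmega F (Cfsg.quadFormMinus 3 F a b)) : SpecQR.{u, v} L := by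
  classical
  intro G _ _ h
  obtain ⟨p', hpc⟩ := CharP.exists F
  have hp' : p'.Prime := CharP.char_is_prime F p'
  have hpf := Fact.mk hp'
  obtain rfl : p = p' := by
    obtain ⟨n, -, hn⟩ := FiniteField.card F p'
    have h1 : p ∣ p' ^ (n : ℕ) := by
      rw [← hn, hf]
      refine dvd_pow_self p ?_
      rintro rfl
      have := Fintype.one_lt_card (α := F)
      rw [hf, pow_zero] at this
      omega
    exact (Nat.prime_dvd_prime_iff_eq hp hp').1 (hp.dvd_of_dvd_pow h1)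
  have hp2 : p ≠ 2 := (char_facts hodd p).2.1
  have hL : GHyp p (Fintype.card F) L := (ghyp_ominus hodd p hab).congr e.symm
  have hG : GHyp p (Fintype.card F) G := hL.of_spec h
  obtain ⟨K, hK, S, hS, hR, hT⟩ := frame hG
  obtain ⟨g, hg⟩ := hR.named
  rcases cases_of_T4 hT hg with rfl | rfl | rfl | ⟨hp3, hq3, rfl⟩
  · -- `PSp₈(q)`
    exfalso
    obtain ⟨F', _, _, hF', ⟨e'⟩⟩ := hg.real
    obtain ⟨σ⟩ := exists_ringEquiv hF'
    have e2 : ↥S ≃* PSp 4 F := e'.trans (LieClassical.FieldTransfer.pspCongr 4 σ)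
    obtain ⟨x, hx⟩ := sp_add (F := F) hodd p
    have hx' : ∃ y : ↥S, orderOf y = p * (Fintype.card F ^ 3 + 1) := ⟨e2.symm x, by rw [MulEquiv.orderOf_eq, hx]⟩
    have h1 : ∃ y : G, orderOf y = p * (Fintype.card F ^ 3 + 1) :=
      hR.adj p (Fintype.card F ^ 3 + 1) hp.ne_zero (by omega) hx'
    obtain ⟨y, hy⟩ := (exists_of_range h _).1 h1
    obtain ⟨z, hz⟩ := minus_to_nine hodd hab (e y)
    exact (H104.UpNine.no9 (F := F) hodd (p := p)).1 ⟨z, by rw [hz, MulEquiv.orderOf_eq, hy]⟩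
  · -- `Ω₉(q)`
    exfalso
    obtain ⟨F', _, _, hF', ⟨e'⟩⟩ := hg.real
    obtain ⟨σ⟩ := exists_ringEquiv hF'
    obtain ⟨e1⟩ := UGT.U2.Rec.Congr.nonempty_POmegaOdd σ 4
    have e2 : ↥S ≃* POmega F (quadFormOdd 4 F) := e'.trans e1
    obtain ⟨r8, r6, r3, r4, p8, p6, p3, p4, d8, d6, d3, d4, n6, n3, n4⟩ := hG.exists_primes
    obtain ⟨a1, a2, a3, a4⟩ := three_facts hodd p3 n3 d3
    have hrp : r3 ≠ p := by rintro rfl; exact a1 hG.dvd
    -- the class of `r3`
    have hcls : cls (.ominus 4) (p ^ f) r3 = 3 := by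
      have h1 : cls (.ominus 4) (p ^ f) r3 = P1.co (Fintype.card F) r3 := by
        rw [hf]
        exact P1.cls_eq_co (by intro n; simp) _ _
      rw [h1]
      unfold P1.co
      have hr3f := Fact.mk p3
      have h2 : ((Fintype.card F : ℕ) : ZMod r3) ^ 3 = 1 := by
        have h3 : r3 ∣ Fintype.card F ^ 3 - 1 := by
          rw [Cfsg.Agent.H202.T.cube_sub_eq Fintype.card_pos]
          exact Dvd.dvd.mul_left (by rwa [show Fintype.card F * (Fintype.card F + 1) + 1 =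
            Fintype.card F ^ 2 + Fintype.card F + 1 by ring]) _
        rw [← ZMod.natCast_eq_zero_iff, Nat.cast_sub (Nat.one_le_pow _ _ Fintype.card_pos)] at h3
        push_cast at h3
        exact sub_eq_zero.1 h3
      refine orderOf_eq_prime h2 ?_
      intro h4
      apply a2
      rw [← ZMod.natCast_eq_zero_iff, Nat.cast_sub (Nat.one_le_pow _ _ Fintype.card_pos)]
      push_cast
      rw [h4]
      ring
    have h2F : (2 : F) ≠ 0 := H104.UpNine.two_ne hodd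
    have hd3 : r3 ∣ Nat.card L := hL.d3 r3 p3 a4 d3
    have hmem : mem (.ominus 4) (cls (.ominus 4) (p ^ f) r3) := by
      refine (hadj.dvd r3 p3 a4 ?_ ?_).1 hd3
      · exact fun h => hrp ((Nat.prime_dvd_prime_iff_eq p3 hp).1 h)
      · rw [hcls]
    have hno : ¬ ∃ x : L, orderOf x = r3 * p := by
      rw [hadj.adjp r3 p3 a4 (fun h => hrp ((Nat.prime_dvd_prime_iff_eq p3 hp).1 h)) (by rw [hcls]) hmem, hcls,
        not_not]
      change 4 < eta 3 + 2
      decide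
    -- but `Ω₉(q)` has elements of order `r3 p`
    have hyes : ∃ x : ↥S, orderOf x = r3 * p := by
      have hch : CharP F' p := charP_of_card_eq_prime_pow (f := f) (by rw [hF', hf])
      have hFam : Fam.Is p f ↥S (.oodd 4) :=
        ⟨by norm_num, by rw [← hf]; exact hodd, F', inferInstance, inferInstance, hch, by rw [hF', hf], ⟨e'⟩⟩
      have hcls' : cls (.oodd 4) (p ^ f) r3 = 3 := hcls
      refine ((P1.oodd hp hFam).adjp r3 p3 a4 (fun h => hrp ((Nat.prime_dvd_prime_iff_eq p3 hp).1 h)) ?_ ?_).2 ?_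
      · rw [hcls']
      · rw [hcls']
        change eta 3 ≤ 4
        decide
      · rw [hcls']
        change ¬ 4 < eta 3 + 1
        decide
    obtain ⟨y, hy⟩ := hR.adj r3 p p3.ne_zero hp.ne_zero hyes
    exact hno ((exists_of_range h _).1 ⟨y, hy⟩)
  · -- `PΩ₈⁻(q)`
    obtain ⟨F', _, _, a', b', hF', hab', ⟨e'⟩⟩ := hg.real
    obtain ⟨σ⟩ := exists_ringEquiv hF'
    obtain ⟨e1⟩ := UGT.U2.Rec.Congr.nonempty_POmega σ (quadFormMinus_map σ 3 a' b')
    have h1 : ∀ z₁ z₂ : F, z₁ ^ 2 + σ a' * z₁ * z₂ + σ b' * z₂ ^ 2 = 0 → z₁ = 0 ∧ z₂ = 0 := by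
      intro z₁ z₂ hz
      have h5 := congrArg σ.symm hz
      simp only [map_add, map_mul, map_pow, RingEquiv.symm_apply_apply, map_zero] at h5
      obtain ⟨h6, h7⟩ := hab' _ _ h5
      exact ⟨by simpa using h6, by simpa using h7⟩
    obtain ⟨e2⟩ := H902.Iso.minus_congr 3 (a := σ a') (b := σ b') (a' := a) (b' := b) h1 hab
    exact hR.quasi (L := L) ⟨(e'.trans e1).trans (e2.trans e.symm)⟩
  · -- `PSL_2(41)`
    exfalso
    obtain ⟨F', _, _, hF', ⟨e'⟩⟩ := hg.real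
    refine H229.T.no_forty_one (F := F') hF' hR.cent e' ?_ ?_ ?_
    · rw [hp3, hq3] at hG
      exact hG.om
    · rw [hp3, hq3] at hG
      exact hG.d3 13 (by norm_num) (by norm_num) (by norm_num)
    · exact fun ρ h1 h2 h3 => hR.coc' ρ ⟨h1, h2, h3⟩

end Cfsg.Agent.R2.Spec.X5
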