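import Cfsg.Agent.R2.Spec.P1.TopBlk
import Cfsg.Agent.R2.Spec.P1.TopDef
import Cfsg.Agent.H376.SpEmb
import Cfsg.Agent.H377.ToOmega

/-!
# S3435, box X5 (helper12): products of two tori in `PSp`, `PΩ` (all characteristics)

* `torB` : `k + b < m`, free signs `δ, δ'`: an element `x` with `orderOf x * c = lcm (u ^ k - δ, u ^ b - δ')`, `c ∣ 2`;
* `torB_one` : `k < m`: `orderOf x * c = u ^ k - δ`.
-/

set_option autoImplicit false

namespace Cfsg.Agent.R2.Spec.X5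

open Cfsg Cfsg.Agent.H426.LieFam Cfsg.Agent.R2.Spec Cfsg.Agent.R2.Spec.P1 Cfsg.Agent.R2.Spec.P1.Eig
open Cfsg.Agent.H377

universe u

/-- the families `B, C, D` -/
def IsB : Fam → ℕ → Prop
  | .psp n, m => n = m
  | .oodd n, m => n = m
  | .oplus n, m => n = m
  | .ominus n, m => n = m
  | _, _ => False

section

variable {F : Type} [Field F] [Finite F]

theorem AN_pos' {δ : ℤ} {k u : ℕ} (hk : 1 ≤ k) (hu : 2 ≤ u) : 0 < AN δ k u := by
  have : u ^ 1 ≤ u ^ k := Nat.pow_le_pow_right (by omega) hk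
  rw [pow_one] at this
  rw [AN]
  split_ifs <;> omega

theorem elt_AN {δ : ℤ} (hδ : δ = 1 ∨ δ = -1) {k : ℕ} (hk : 1 ≤ k) : Elt F k δ (AN δ k (Nat.card F)) := by
  rcases hδ with rfl | rfl
  · exact elt_tor_plus hk (by rw [AN_one])
  · exact elt_tor_minus hk (by rw [AN_neg])

theorem sp_AN {δ : ℤ} (hδ : δ = 1 ∨ δ = -1) {k : ℕ} (hk : 1 ≤ k) :
    ∃ A : Matrix.symplecticGroup (Fin k) F, orderOf A = AN δ k (Nat.card F) := by
  rcases hδ with rfl | rfl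
  · rw [AN_one]; exact Cfsg.Agent.H376.SpEmb.exists_minus F k (by omega)
  · rw [AN_neg]; exact Cfsg.Agent.H376.SpEmb.exists_plus F k (by omega)

theorem psp_of_sp {m M : ℕ} {A : Matrix.symplecticGroup (Fin m) F} (hA : orderOf A = M) :
    ∃ x : PSp m F, ∃ c, c ∣ 2 ∧ orderOf x * c = M := by
  have hfin : Finite (Matrix.symplecticGroup (Fin m) F) := inferInstance
  refine ⟨QuotientGroup.mk A, ?_⟩
  obtain ⟨c, hc⟩ := orderOf_map_dvd (QuotientGroup.mk' (Subgroup.center (Matrix.symplecticGroup (Fin m) F))) A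
  rw [hA] at hc
  have hpos : 0 < M := by rw [← hA]; exact orderOf_pos A
  have hd : 0 < orderOf (QuotientGroup.mk A : PSp m F) := by
    rcases Nat.eq_zero_or_pos (orderOf (QuotientGroup.mk A : PSp m F)) with h | h
    · have h2 : M = orderOf (QuotientGroup.mk A : PSp m F) * c := hc
      rw [h, zero_mul] at h2
      omega
    · exact h
  refine ⟨c, ?_, hc.symm⟩
  have h1 : A ^ orderOf (QuotientGroup.mk A : PSp m F) ∈ Subgroup.center (Matrix.symplecticGroup (Fin m) F) := by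
    rw [← QuotientGroup.eq_one_iff, QuotientGroup.mk_pow, pow_orderOf_eq_one]
  have h2 := Cfsg.Agent.H376.SpEmb.center_pow _ h1
  rw [← pow_mul] at h2
  have h3 := orderOf_dvd_of_pow_eq_one h2
  rw [hA] at h3
  have h4 : orderOf (QuotientGroup.mk A : PSp m F) * c ∣ orderOf (QuotientGroup.mk A : PSp m F) * 2 := by
    rw [← show M = orderOf (QuotientGroup.mk A : PSp m F) * c from hc]
    exact h3
  exact Nat.dvd_of_mul_dvd_mul_left hd h4

theorem elt2_of_elt {n m M : ℕ} (hn : 1 ≤ n) (hnm : n < m) {ε ε' : ℤ} (hε : ε = 1 ∨ ε = -1) (hε' : ε' = 1 ∨ ε' = -1)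
    (h : Elt F n ε M) : ∃ N c, c ∣ 2 ∧ N * c = M ∧ Elt2 F m ε' N := by
  have hmul : ε * (ε * ε') = ε' := by
    rcases hε with rfl | rfl <;> ring
  have h12 : ε * ε' = 1 ∨ ε * ε' = -1 := by
    rcases hε with rfl | rfl <;> rcases hε' with rfl | rfl <;> norm_num
  obtain ⟨l, rfl⟩ : ∃ l, m = n + l := ⟨m - n, by omega⟩
  rcases Nat.even_or_odd M with hM | hM
  · have h1 := h.add_two (n₂ := l) (by omega) h12 hM
    rw [hmul] at h1
    exact ⟨M / 2, 2, dvd_rfl, Nat.div_mul_cancel hM.two_dvd, h1⟩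
  · have h1 := h.add (m := l) (by omega) h12
    rw [hmul] at h1
    exact ⟨M, 1, one_dvd _, mul_one _, h1.two (by omega) hM⟩

theorem odd_of_elt (h2 : (2 : F) ≠ 0) {n m M : ℕ} (hm : 3 ≤ m) (hnm : n ≤ m) {ε : ℤ}
    (h : Elt F n ε M) : ∃ x : POmega F (quadFormOdd m F), ∃ c, c ∣ 2 ∧ orderOf x * c = M := by
  have h1 : ∃ ε', Elt F m ε' M := by
    rcases Nat.eq_or_lt_of_le hnm with rfl | hlt
    · exact ⟨ε, h⟩
    · obtain ⟨l, rfl⟩ : ∃ l, m = n + l := ⟨m - n, by omega⟩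
      exact ⟨_, h.add (m := l) (by omega) (Or.inl rfl)⟩
  obtain ⟨ε', h1⟩ := h1
  rcases Nat.even_or_odd M with hM | hM
  · obtain ⟨N, hN⟩ := hM
    obtain ⟨x, hx⟩ := exists_odd_of_elt h2 hm h1 (N := N) (by
      intro j
      rw [hN, ← two_mul]
      exact ⟨fun h => Nat.dvd_of_mul_dvd_mul_left two_pos h, fun h => Nat.mul_dvd_mul_left 2 h⟩)
    exact ⟨x, 2, dvd_rfl, by rw [hx, hN]; ring⟩
  · obtain ⟨x, hx⟩ := exists_odd_of_elt h2 hm h1 (N := M) (by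
      intro j
      exact ⟨fun h => (Nat.Coprime.symm (Nat.coprime_two_left.2 hM)).dvd_of_dvd_mul_left h, fun h => h.mul_left 2⟩)
    exact ⟨x, 1, one_dvd _, by rw [hx, mul_one]⟩

end

/-- from an element `M` of both kinds -/
theorem of_both {t : Fam} {p f m : ℕ} {X : Type u} [Group X] (hp : p.Prime) (h : Fam.Is p f X t) (ht : IsB t m)
    {n M : ℕ} (hn : 1 ≤ n) (hnm : n < m)
    (hsp : ∀ (F : Type) [Field F] [Finite F], Nat.card F = p ^ f →
      ∃ A : Matrix.symplecticGroup (Fin m) F, orderOf A = M)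
    (hel : ∀ (F : Type) [Field F] [Finite F], Nat.card F = p ^ f → ∃ ε : ℤ, (ε = 1 ∨ ε = -1) ∧ Elt F n ε M) :
    ∃ x : X, ∃ c, c ∣ 2 ∧ orderOf x * c = M := by
  cases t with
  | psp n' =>
    obtain rfl : n' = m := ht
    obtain ⟨hm, -, F, _, _, hch, hF, ⟨E⟩⟩ := h
    obtain ⟨A, hA⟩ := hsp F (by rw [Nat.card_eq_fintype_card, hF])
    obtain ⟨x, c, hc, hx⟩ := psp_of_sp hA
    exact ⟨E.symm x, c, hc, by rw [MulEquiv.orderOf_eq, hx]⟩
  | oodd n' =>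
    obtain rfl : n' = m := ht
    obtain ⟨hm, hodd, F, _, _, hch, hF, ⟨E⟩⟩ := h
    obtain ⟨ε, hε, h1⟩ := hel F (by rw [Nat.card_eq_fintype_card, hF])
    have h2 : (2 : F) ≠ 0 := by
      intro h2
      have h3 : ((2 : ℕ) : F) = 0 := by exact_mod_cast h2
      rw [CharP.cast_eq_zero_iff F p] at h3
      have h4 := (Nat.prime_dvd_prime_iff_eq hp Nat.prime_two).1 h3
      rw [h4] at hodd
      have h5 : f ≠ 0 := by
        rintro rfl
        have := Fintype.one_lt_card (α := F)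
        rw [hF] at this
        simp at this
      exact (Nat.not_even_iff_odd.2 hodd) (Nat.even_pow.2 ⟨even_two, h5⟩)
    obtain ⟨x, c, hc, hx⟩ := odd_of_elt h2 hm hnm.le h1
    exact ⟨E.symm x, c, hc, by rw [MulEquiv.orderOf_eq, hx]⟩
  | oplus n' =>
    obtain rfl : n' = m := ht
    obtain ⟨hm, F, _, _, hch, hF, ⟨E⟩⟩ := h
    obtain ⟨ε, hε, h1⟩ := hel F (by rw [Nat.card_eq_fintype_card, hF])
    obtain ⟨N, c, hc, hN, h2⟩ := elt2_of_elt hn hnm hε (ε' := 1) (Or.inl rfl) h1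
    obtain ⟨x, hx⟩ := Elt2.plus (by omega) h2
    exact ⟨E.symm x, c, hc, by rw [MulEquiv.orderOf_eq, hx, hN]⟩
  | ominus n' =>
    obtain rfl : n' = m := ht
    obtain ⟨hm, F, _, _, hch, a, b, hF, hab, ⟨E⟩⟩ := h
    obtain ⟨ε, hε, h1⟩ := hel F (by rw [Nat.card_eq_fintype_card, hF])
    obtain ⟨N, c, hc, hN, h2⟩ := elt2_of_elt hn hnm hε (ε' := -1) (Or.inr rfl) h1
    obtain ⟨x, hx⟩ := Elt2.minus (by omega) hab h2
    exact ⟨E.symm x, c, hc, by rw [MulEquiv.orderOf_eq, hx, hN]⟩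
  | _ => exact ht.elim

/-- **One torus.** -/
theorem torB_one {t : Fam} {p f m : ℕ} {X : Type u} [Group X] (hp : p.Prime) (h : Fam.Is p f X t) (ht : IsB t m)
    {k : ℕ} (hk : 1 ≤ k) (hkm : k < m) {δ : ℤ} (hδ : δ = 1 ∨ δ = -1) :
    ∃ x : X, ∃ c, c ∣ 2 ∧ orderOf x * c = AN δ k (p ^ f) := by
  refine of_both hp h ht hk hkm ?_ ?_
  · intro F _ _ hF
    obtain ⟨A, hA⟩ := sp_AN (F := F) hδ hk
    obtain ⟨B, hB⟩ := sp_AN (F := F) (δ := 1) (Or.inl rfl) (k := m - k) (by omega)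
    obtain ⟨C, hC⟩ := Cfsg.Agent.H376.SpEmb.exists_block (n := m) (a := k) (b := m - k) (by omega) A hA 1 orderOf_one
    exact ⟨C, by rw [hC, Nat.lcm_one_right, hF]⟩
  · intro F _ _ hF
    exact ⟨δ, hδ, by rw [← hF]; exact elt_AN hδ hk⟩

/-- **Two tori.** -/
theorem torB {t : Fam} {p f m : ℕ} {X : Type u} [Group X] (hp : p.Prime) (h : Fam.Is p f X t) (ht : IsB t m)
    {k b : ℕ} (hk : 1 ≤ k) (hb : 1 ≤ b) (hkm : k + b < m) {δ δ' : ℤ} (hδ : δ = 1 ∨ δ = -1) (hδ' : δ' = 1 ∨ δ' = -1) :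
    ∃ x : X, ∃ c, c ∣ 2 ∧ orderOf x * c = Nat.lcm (AN δ k (p ^ f)) (AN δ' b (p ^ f)) := by
  refine of_both hp h ht (n := k + b) (by omega) hkm ?_ ?_
  · intro F _ _ hF
    obtain ⟨A, hA⟩ := sp_AN (F := F) hδ hk
    obtain ⟨B, hB⟩ := sp_AN (F := F) hδ' hb
    obtain ⟨C, hC⟩ := Cfsg.Agent.H376.SpEmb.exists_block (n := m) (by omega) A hA B hB
    exact ⟨C, by rw [hC, hF]⟩
  · intro F _ _ hF
    refine ⟨δ * δ', ?_, by rw [← hF]; exact (elt_AN hδ hk).prod (elt_AN hδ' hb)⟩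
    rcases hδ with rfl | rfl <;> rcases hδ' with rfl | rfl <;> norm_num

end Cfsg.Agent.R2.Spec.X5
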