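import Cfsg.Agent.R2.Spec.P1.TopSp

/-!
# S3435, box X5 (helper12): the elements of `PSp_2n(q)`, `PΩ_{2n+1}(q)` of order divisible by a prime of the class
`n - 1` or `2 (n - 1)`, `n` even, `q` odd
-/

set_option autoImplicit false
set_option linter.unusedSectionVars false

namespace Cfsg.Agent.R2.Spec.X5

open Module Polynomial Cfsg Cfsg.Agent.H426.LieFam Cfsg.Agent.R2.Spec Cfsg.Agent.R2.Spec.P1
open Cfsg.Agent.H160.QRoots Cfsg.Agent.H160.QChar Cfsg.Agent.R2.Spec.P1.Eig
open Cfsg.Agent.LieClassical.OrthCore Cfsg.Agent.LieClassical.OrthFinite Cfsg.Agent.LieClassical.OrthForms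
open Cfsg.Agent.H160.QSpin Cfsg.Agent.H160.QDisc Cfsg.Agent.H160.QSplit Cfsg.Agent.H160.QFinal

universe u

section

variable {K : Type*} [Field K] [DecidableEq K] {q : ℕ}

/-- the rest: three elements -/
theorem rest_three (hq : Function.Injective (fun x : K => x ^ q)) (h2 : (2 : K) ≠ 0) {R' : Multiset K} (h : ED q R') (hc : R'.card = 3) (hp : R'.prod = 1) :
    ∃ μ : K, μ ≠ 0 ∧ R' = 1 ::ₘ {μ, μ⁻¹} ∧ (μ ^ q = μ ∨ μ ^ q = μ⁻¹) := by
  have hone : (1 : K) ∈ R' := by
    by_contra hcon
    have key : ∀ a b c : K, R' = {a, b, c} → a = -1 := by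
      intro a b c habc
      have hp' : a * (b * c) = 1 := by
        rw [habc] at hp
        simpa using hp
      have ha : a ∈ R' := by rw [habc]; simp
      have hb : b ∈ R' := by rw [habc]; simp
      have hc' : c ∈ R' := by rw [habc]; simp
      have ha0 : a ≠ 0 := h.ne0 a ha
      have hai : a⁻¹ ∈ R' := by
        rw [← Multiset.one_le_count_iff_mem, h.inv, Multiset.one_le_count_iff_mem]
        exact ha
      rw [habc] at hai
      simp only [Multiset.insert_eq_cons, Multiset.mem_cons, Multiset.mem_singleton] at hai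
      rcases hai with h1 | h1 | h1
      · have h3 : a * a = 1 := by
          nth_rewrite 2 [← h1]
          exact mul_inv_cancel₀ ha0
        rcases mul_self_eq_one_iff.1 h3 with h4 | h4
        · exact absurd (h4 ▸ ha) hcon
        · exact h4
      · exfalso
        apply hcon
        have : c = 1 := by
          rw [← h1, ← mul_assoc, mul_inv_cancel₀ ha0, one_mul] at hp'
          exact hp'
        exact this ▸ hc'
      · exfalso
        apply hcon
        have : b = 1 := by
          rw [← h1, mul_comm b, ← mul_assoc, mul_inv_cancel₀ ha0, one_mul] at hp'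
          exact hp'
        exact this ▸ hb
    obtain ⟨a, b, c, habc⟩ := Multiset.card_eq_three.1 hc
    have ha := key a b c habc
    have hb := key b a c (by rw [habc]; simp only [Multiset.insert_eq_cons]; exact Multiset.cons_swap a b _)
    have hc2 := key c a b (by
      rw [habc]
      simp only [Multiset.insert_eq_cons, ← Multiset.singleton_add]
      rw [add_left_comm, ← add_assoc, ← add_assoc, add_comm ({b} : Multiset K), add_assoc, add_assoc]
      abel)
    rw [habc, ha, hb, hc2] at hp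
    simp at hp
    apply h2
    linear_combination -hp
  obtain ⟨R'', rfl⟩ := Multiset.exists_cons_of_mem hone
  rw [Multiset.card_cons] at hc
  rw [Multiset.prod_cons, one_mul] at hp
  obtain ⟨a, b, rfl⟩ := Multiset.card_eq_two.1 (show R''.card = 2 by omega)
  rw [Multiset.insert_eq_cons, Multiset.prod_cons, Multiset.prod_singleton] at hp
  have ha0 : a ≠ 0 := by
    rintro rfl
    rw [zero_mul] at hp
    exact zero_ne_one hp
  have hb : b = a⁻¹ := eq_inv_of_mul_eq_one_right hp
  subst hb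
  have h1 : a ^ q ∈ (1 ::ₘ ({a, a⁻¹} : Multiset K)) := by
    rw [← Multiset.one_le_count_iff_mem, h.frob, Multiset.one_le_count_iff_mem]
    simp
  simp only [Multiset.insert_eq_cons, Multiset.mem_cons, Multiset.mem_singleton] at h1
  by_cases ha1 : a = 1
  · subst ha1
    exact ⟨1, one_ne_zero, rfl, Or.inl (one_pow _)⟩
  · refine ⟨a, ha0, rfl, ?_⟩
    rcases h1 with h1 | h1 | h1
    · exfalso
      exact ha1 (hq (by simpa using h1))
    · exact Or.inl h1
    · exact Or.inr h1

end

/-! ### endomorphisms -/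

section

variable {F V : Type*} [Field F] [Fintype F] [AddCommGroup V] [Module F V] [FiniteDimensional F V]

theorem pm_eq {K : Type*} [Field K] {μ : K} (h0 : μ ≠ 0) (h : μ = μ⁻¹) : μ = 1 ∨ μ = -1 := by
  apply mul_self_eq_one_iff.1
  nth_rewrite 2 [h]
  exact mul_inv_cancel₀ h0

theorem dvd_AN {δ : ℤ} (hδ : δ = 1 ∨ δ = -1) {m q : ℕ} (hm : Odd m) (hq : 1 ≤ q) : AN δ 1 q ∣ AN δ m q := by
  rcases hδ with rfl | rfl
  · rw [AN_one, AN_one, pow_one]
    simpa using Nat.sub_dvd_pow_sub_pow q 1 m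
  · rw [AN_neg, AN_neg, pow_one]
    simpa using hm.nat_add_dvd_pow_add_pow q 1

theorem pow_frob {K : Type*} [Field K] {μ : K} {q : ℕ} (h0 : μ ≠ 0) (hq : 1 ≤ q) (h : μ ^ q = μ ∨ μ ^ q = μ⁻¹) :
    μ ^ (q - 1) = 1 ∨ μ ^ (q + 1) = 1 := by
  rcases h with h | h
  · left
    have h2 : μ ^ (q - 1) * μ = μ := by
      rw [← pow_succ, Nat.sub_add_cancel hq, h]
    exact mul_right_cancel₀ h0 (by rw [h2, one_mul])
  · right
    rw [pow_succ, h, inv_mul_cancel₀ h0]

open Classical in
/-- **The window for an endomorphism.** -/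
theorem win_end (h2 : (2 : F) ≠ 0) {e : ℕ} (he1 : 1 ≤ e) (he : Fintype.card F = 2 * e + 1) {p : ℕ} [Fact p.Prime]
    [CharP F p] {f : Module.End F V} (hED : ED (Fintype.card F) (rts f)) (hprod : (rts f).prod = 1) {m : ℕ}
    (hm : 2 ≤ m) (hmo : Odd m) (hV : finrank F V = 2 * m + 2 ∨ finrank F V = 2 * m + 3) {N : ℕ} (hN : 0 < N)
    (hf : f ^ N = 1) (hmin : ∀ k, f ^ k = 1 → N ∣ k) {r : ℕ} (hr : r.Prime) (hrp : r ≠ p) (hrN : r ∣ N) {δ : ℤ}
    (hi : (orderOf ((Fintype.card F : ℕ) : ZMod r) = 2 * m ∧ δ = -1) ∨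
      (orderOf ((Fintype.card F : ℕ) : ZMod r) = m ∧ δ = 1))
    (h3 : 3 ≤ orderOf ((Fintype.card F : ℕ) : ZMod r)) :
    N ∣ AN δ m (Fintype.card F) * p ∨ N ∣ AN δ m (Fintype.card F) * AN (-δ) 1 (Fintype.card F) := by
  have hp := (Fact.out : p.Prime)
  have hinj := frob_inj F
  have hδ : δ = 1 ∨ δ = -1 := by
    rcases hi with ⟨-, h⟩ | ⟨-, h⟩
    · exact Or.inr h
    · exact Or.inl h
  have hp3 : 3 ≤ p := by
    by_contra hcon
    have hp2 : p = 2 := le_antisymm (by omega) hp.two_le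
    apply h2
    have := CharP.cast_eq_zero F p
    rw [hp2] at this
    exact_mod_cast this
  obtain ⟨x, hx, k, hk1, hkr⟩ := exists_eig (f := f) (p := p) hN hf hmin hr hrp hrN
  have hcard := card_rts f
  obtain ⟨hminx, hb1, hb2, R', hR, hR', hc⟩ := hED.block hinj (by omega) hx hr hk1 hkr rfl h3 (m := m)
    (by rcases hi with h | h
        · exact Or.inl h.1
        · exact Or.inr ⟨h.1, hmo⟩) (by rcases hV with h | h <;> omega)
  have hblk : Blk (Fintype.card F) m δ x := by
    refine ⟨hminx, ?_⟩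
    rcases hi with ⟨h, rfl⟩ | ⟨h, rfl⟩
    · exact Or.inr ⟨rfl, hb1 h⟩
    · exact Or.inl ⟨rfl, hb2 h⟩
  have hprod' : R'.prod = 1 := by
    have h4 := hprod
    rw [hR, Multiset.prod_add, prod_orb_val hinj hminx, one_mul] at h4
    exact h4
  obtain ⟨μ, hμ0, hμR, hμq⟩ : ∃ μ : AlgebraicClosure F, μ ≠ 0 ∧ (R' = {μ, μ⁻¹} ∨ R' = 1 ::ₘ {μ, μ⁻¹}) ∧
      (μ ^ Fintype.card F = μ ∨ μ ^ Fintype.card F = μ⁻¹) := by
    rcases hV with h | h
    · obtain ⟨μ, h4, h5, h6⟩ := ED.rest_two hR' (by omega) hprod'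
      exact ⟨μ, h4, Or.inl h5, h6⟩
    · obtain ⟨μ, h4, h5, h6⟩ := rest_three hinj (two_ne_K h2) hR' (by omega) hprod'
      exact ⟨μ, h4, Or.inr h5, h6⟩
  have hR'mem : ∀ y ∈ R', y = 1 ∨ y = μ ∨ y = μ⁻¹ := by
    intro y hy
    rcases hμR with h | h
    · rw [h] at hy
      simp only [Multiset.insert_eq_cons, Multiset.mem_cons, Multiset.mem_singleton] at hy
      exact Or.inr hy
    · rw [h] at hy
      simpa only [Multiset.insert_eq_cons, Multiset.mem_cons, Multiset.mem_singleton] using hy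
  have hR'q : ∀ y ∈ R', y ≠ 0 ∧ (y ^ Fintype.card F = y ∨ y ^ Fintype.card F = y⁻¹) := by
    intro y hy
    rcases hR'mem y hy with rfl | rfl | rfl
    · exact ⟨one_ne_zero, Or.inl (one_pow _)⟩
    · exact ⟨hμ0, hμq⟩
    · refine ⟨inv_ne_zero hμ0, ?_⟩
      rw [inv_pow, inv_inv]
      rcases hμq with h | h
      · exact Or.inl (by rw [h])
      · exact Or.inr (by rw [h, inv_inv])
  -- the orbit of `x` and the rest
  have hdisj : ∀ y ∈ R', y ∉ orb (Fintype.card F) x m := by
    intro y hy hyo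
    obtain ⟨-, h5⟩ := hR'q y hy
    obtain ⟨i, hi2, h6⟩ := mem_orb.1 hyo
    have h7 : (x ^ Fintype.card F ^ i) ^ Fintype.card F = x ^ Fintype.card F ^ i ∨
        (x ^ Fintype.card F ^ i) ^ Fintype.card F = (x ^ Fintype.card F ^ i)⁻¹ := by
      rcases h6 with rfl | rfl
      · exact h5
      · rw [inv_pow, inv_inv] at h5
        rcases h5 with h5 | h5
        · exact Or.inl (inv_injective h5)
        · refine Or.inr ?_
          rw [← inv_inj, inv_inv]
          exact h5
    have h8 := hminx.min 1 one_pos (by omega)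
    have h9 : (fun z : AlgebraicClosure F => z ^ (Fintype.card F ^ i)) (x ^ Fintype.card F ^ 1) =
        (x ^ Fintype.card F ^ i) ^ Fintype.card F := by
      show (x ^ Fintype.card F ^ 1) ^ Fintype.card F ^ i = _
      rw [pow_one, ← pow_mul, ← pow_mul, mul_comm]
    rcases h7 with h7 | h7
    · exact h8.1 (inj_pow hinj i (by rw [h9, h7]))
    · refine h8.2 (inj_pow hinj i ?_)
      rw [h9, h7]
      show _ = (x⁻¹) ^ _
      rw [inv_pow]
  have hcnt : ∀ y, (rts f).count y ≤ 1 ∨ (rts f).count y = R'.count y := by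
    intro y
    by_cases hy : y ∈ orb (Fintype.card F) x m
    · left
      rw [hR, Multiset.count_add, Multiset.count_eq_zero_of_notMem (fun h => hdisj y h hy), add_zero]
      exact Multiset.nodup_iff_count_le_one.1 (orb (Fintype.card F) x m).nodup y
    · right
      rw [hR, Multiset.count_add, Multiset.count_eq_zero_of_notMem (show y ∉ (orb _ x m).val from hy), zero_add]
  have hqodd : Fintype.card F % 2 = 1 := by omega
  have hxorb : ∀ y ∈ orb (Fintype.card F) x m, y ^ AN δ m (Fintype.card F) = 1 := fun y hy =>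
    pow_of_mem_orb hy (hblk.pow (by omega)) (Or.inl rfl) hqodd
  by_cases hμ : μ = μ⁻¹
  · left
    have hμ1 := pm_eq hμ0 hμ
    apply hmin
    have hM : ∀ y, (rts f).count y ≤ 3 := by
      intro y
      rcases hcnt y with h | h
      · omega
      · rw [h]
        refine (Multiset.count_le_card _ _).trans ?_
        rcases hV with h | h <;> omega
    have hE : ∀ y ∈ rts f, y ^ AN δ m (Fintype.card F) = 1 := by
      intro y hy
      rw [hR, Multiset.mem_add] at hy
      rcases hy with hy | hy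
      · exact hxorb y hy
      · have h6 : y = 1 ∨ y = -1 := by
          rcases hR'mem y hy with rfl | rfl | rfl
          · exact Or.inl rfl
          · exact hμ1
          · rcases hμ1 with h | h
            · rw [h, inv_one]; exact Or.inl rfl
            · rw [h]; right; norm_num
        have h7 := AN_even (δ := δ) (m := m) hqodd
        rw [← h7, pow_mul]
        rcases h6 with rfl | rfl
        · simp
        · simp
    have h5 := pow_eq_one_of_bd (p := p) (g := f) (N := AN δ m (Fintype.card F)) (M := 3) (c := 1)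
      ⟨hM, hE⟩ (by simpa using hp3)
    rwa [pow_one] at h5
  · right
    apply hmin
    have hR'1 : ∀ y, R'.count y ≤ 1 := by
      intro y
      have hμ1 : μ ≠ 1 := by rintro rfl; exact hμ inv_one.symm
      have h4 : ({μ, μ⁻¹} : Multiset (AlgebraicClosure F)).Nodup := by
        rw [Multiset.insert_eq_cons, Multiset.nodup_cons]
        exact ⟨by rw [Multiset.mem_singleton]; exact hμ, Multiset.nodup_singleton _⟩
      rcases hμR with h | h
      · rw [h]
        exact Multiset.nodup_iff_count_le_one.1 h4 y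
      · rw [h]
        refine Multiset.nodup_iff_count_le_one.1 (Multiset.nodup_cons.2 ⟨?_, h4⟩) y
        rw [Multiset.insert_eq_cons, Multiset.mem_cons, Multiset.mem_singleton, not_or]
        refine ⟨hμ1.symm, fun h5 => hμ1 ?_⟩
        rw [← inv_inv μ, ← h5, inv_one]
    have hM : ∀ y, (rts f).count y ≤ 1 := by
      intro y
      rcases hcnt y with h | h
      · exact h
      · rw [h]; exact hR'1 y
    have hE : ∀ y ∈ rts f, y ^ (AN δ m (Fintype.card F) * AN (-δ) 1 (Fintype.card F)) = 1 := by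
      intro y hy
      rw [hR, Multiset.mem_add] at hy
      rcases hy with hy | hy
      · rw [pow_mul, hxorb y hy, one_pow]
      · obtain ⟨hy0, hyq⟩ := hR'q y hy
        have h6 := pow_frob hy0 (by omega) hyq
        have h7 : y ^ AN δ 1 (Fintype.card F) = 1 ∨ y ^ AN (-δ) 1 (Fintype.card F) = 1 := by
          rcases hδ with rfl | rfl
          · rw [AN_one, AN_neg, pow_one]; exact h6
          · rw [neg_neg, AN_neg, AN_one, pow_one]; exact h6.symm
        rcases h7 with h7 | h7
        · obtain ⟨c, hc⟩ := dvd_AN hδ (q := Fintype.card F) hmo (by omega)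
          rw [pow_mul, hc, pow_mul, h7, one_pow, one_pow]
        · rw [mul_comm, pow_mul, h7, one_pow]
    have h5 := pow_eq_one_of_bd (p := p) (g := f)
      (N := AN δ m (Fintype.card F) * AN (-δ) 1 (Fintype.card F)) (M := 1) (c := 0)
      ⟨hM, hE⟩ (by simp)
    rwa [pow_zero, mul_one] at h5

end

/-! ### the groups -/

/-- `PSp` -/
theorem psp_win {F : Type*} [Field F] [Fintype F] (h2 : (2 : F) ≠ 0) {e : ℕ} (he1 : 1 ≤ e)
    (he : Fintype.card F = 2 * e + 1) {p : ℕ}
    [Fact p.Prime] [CharP F p] {n : ℕ} (hn : 3 ≤ n) (hne : Odd (n - 1)) {y : PSp n F} {r : ℕ} (hr : r.Prime)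
    (hrp : r ≠ p) (hrg : r ∣ orderOf y) {δ : ℤ}
    (hi : (orderOf ((Fintype.card F : ℕ) : ZMod r) = 2 * (n - 1) ∧ δ = -1) ∨
      (orderOf ((Fintype.card F : ℕ) : ZMod r) = n - 1 ∧ δ = 1))
    (h3 : 3 ≤ orderOf ((Fintype.card F : ℕ) : ZMod r)) :
    orderOf y ∣ AN δ (n - 1) (Fintype.card F) * p ∨
      orderOf y ∣ AN δ (n - 1) (Fintype.card F) * AN (-δ) 1 (Fintype.card F) := by
  classical
  obtain ⟨A, rfl⟩ := QuotientGroup.mk_surjective y
  set M : Matrix (Fin n ⊕ Fin n) (Fin n ⊕ Fin n) F := (A : Matrix (Fin n ⊕ Fin n) (Fin n ⊕ Fin n) F) with hM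
  set g : Module.End F (Fin n ⊕ Fin n → F) := Matrix.toLin' M with hg
  have hfin : finrank F (Fin n ⊕ Fin n → F) = 2 * n := by
    rw [Module.finrank_fintype_fun_eq_card]; simp; ring
  have hroots : (M.map (algebraMap F (AlgebraicClosure F))).charpoly.roots = rts g := by
    rw [Matrix.charpoly_map, rts, hg, Matrix.charpoly_toLin']
  have hJM : Matrix.transpose M * Matrix.J (Fin n) F * M = Matrix.J (Fin n) F := SymplecticGroup.mem_iff'.1 A.2
  have hinv : rts g = (rts g).map (fun x => x⁻¹) := by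
    rw [← hroots]
    refine roots_inv (M := M.map (algebraMap F (AlgebraicClosure F)))
      (G := (Matrix.J (Fin n) F).map (algebraMap F (AlgebraicClosure F))) ?_ ?_ (IsAlgClosed.splits _)
    · have h4 : ((Matrix.J (Fin n) F).map (algebraMap F (AlgebraicClosure F))).det =
          algebraMap F (AlgebraicClosure F) (Matrix.J (Fin n) F).det := by
        rw [RingHom.map_det]; rfl
      rw [h4]
      exact (_root_.map_ne_zero _).2 (Matrix.isUnit_det_J (Fin n) F).ne_zero
    · have h5 := congrArg (fun A : Matrix _ _ F => A.map (algebraMap F (AlgebraicClosure F))) hJM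
      simp only [Matrix.map_mul] at h5
      exact h5
  have hdetM : M.det = 1 := SymplecticGroup.det_eq_one A.2
  have hprod : (rts g).prod = 1 := prod_rts (by rw [hg, LinearMap.det_toLin', hdetM])
  have hED : ED (Fintype.card F) (rts g) := by
    refine ⟨fun x => ?_, fun x => ?_, ?_⟩
    · have := count_frob g x
      convert this using 2
    · conv_lhs => rw [hinv]
      exact Multiset.count_map_eq_count' _ _ inv_injective _
    · rintro x hx rfl
      rw [Multiset.prod_eq_zero hx] at hprod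
      exact zero_ne_one hprod
  have hpow : ∀ k, g ^ k = 1 ↔ A ^ k = 1 := by
    intro k
    have h4 : (1 : Module.End F (Fin n ⊕ Fin n → F)) = Matrix.toLin' 1 := by
      rw [Matrix.toLin'_one]; rfl
    rw [hg, ← Matrix.toLin'_pow, h4, (Matrix.toLin' (R := F)).injective.eq_iff, Subtype.ext_iff]
    rfl
  have hfinG : Finite (Matrix.symplecticGroup (Fin n) F) := inferInstance
  have hN : 0 < orderOf A := orderOf_pos A
  have hdv : orderOf (QuotientGroup.mk A : PSp n F) ∣ orderOf A := orderOf_map_dvd (QuotientGroup.mk' _) A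
  have h5 := win_end h2 he1 he (f := g) (p := p) hED hprod (m := n - 1) (by omega) hne (by left; omega) hN
    ((hpow _).2 (pow_orderOf_eq_one A)) (fun k hk => orderOf_dvd_of_pow_eq_one ((hpow k).1 hk)) hr hrp
    (hrg.trans hdv) hi h3
  rcases h5 with h5 | h5
  · exact Or.inl (hdv.trans h5)
  · exact Or.inr (hdv.trans h5)

/-- `PΩ` in odd dimension -/
theorem oodd_win {F : Type*} [Field F] [Fintype F] {ι : Type} [Fintype ι] [DecidableEq ι] (h2 : (2 : F) ≠ 0)
    {e : ℕ} (he1 : 1 ≤ e) (he : Fintype.card F = 2 * e + 1) {p : ℕ} [Fact p.Prime] [CharP F p]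
    {Q : QuadraticForm F (ι → F)} (hQ : Nondeg Q) {n : ℕ} (hn : 3 ≤ n) (hne : Odd (n - 1))
    (hV : Fintype.card ι = 2 * n + 1)
    {y : POmega F ⇑Q} {r : ℕ} (hr : r.Prime) (hrp : r ≠ p) (hrg : r ∣ orderOf y) {δ : ℤ}
    (hi : (orderOf ((Fintype.card F : ℕ) : ZMod r) = 2 * (n - 1) ∧ δ = -1) ∨
      (orderOf ((Fintype.card F : ℕ) : ZMod r) = n - 1 ∧ δ = 1))
    (h3 : 3 ≤ orderOf ((Fintype.card F : ℕ) : ZMod r)) :
    orderOf y ∣ AN δ (n - 1) (Fintype.card F) * p ∨
      orderOf y ∣ AN δ (n - 1) (Fintype.card F) * AN (-δ) 1 (Fintype.card F) := by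
  classical
  obtain ⟨g, hg, hgs, hgo⟩ := lift_pomega h2 hQ (by omega) y
  have hfin : finrank F (ι → F) = 2 * n + 1 := by rw [Module.finrank_fintype_fun_eq_card, hV]
  obtain ⟨hgO, hdet, hs⟩ := id hg
  have hdet1 : LinearMap.det (en g) = 1 := by
    have := congrArg Units.val hdet
    rwa [LinearEquiv.coe_det] at this
  have hN : 0 < orderOf g := by
    have hfin : Finite ((ι → F) ≃ₗ[F] (ι → F)) :=
      Finite.of_injective (fun g : (ι → F) ≃ₗ[F] (ι → F) => (g : (ι → F) → (ι → F))) DFunLike.coe_injective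
    exact orderOf_pos g
  have hED := ed_rts hQ hgO
  have h5 := win_end h2 he1 he (f := en g) (p := p) (by convert hED) (prod_rts hdet1) (m := n - 1) (by omega) hne
    (by right; omega) hN (by rw [← en_pow, pow_orderOf_eq_one]; rfl)
    (fun k hk => orderOf_dvd_of_pow_eq_one (en_inj (by rw [en_pow, hk]; rfl))) hr hrp
    (hrg.trans hgo) hi h3
  rcases h5 with h5 | h5
  · exact Or.inl (hgo.trans h5)
  · exact Or.inr (hgo.trans h5)

/-- **The windows of the classes `n - 1` (`δ = 1`) and `2 (n - 1)` (`δ = -1`).** -/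
structure LWin (n p q : ℕ) (X : Type u) [Group X] : Prop where
  win : ∀ (δ : ℤ) (r : ℕ), r.Prime → ¬ r ∣ p → ((P1.co q r = 2 * (n - 1) ∧ δ = -1) ∨ (P1.co q r = n - 1 ∧ δ = 1)) →
    ∀ x : X, r ∣ orderOf x → orderOf x ∣ AN δ (n - 1) q * p ∨ orderOf x ∣ AN δ (n - 1) q * AN (-δ) 1 q

theorem lwin_psp {p f n : ℕ} {X : Type u} [Group X] [Finite X] (hp : p.Prime) (hp2 : p ≠ 2) (hn : 4 ≤ n)
    (hne : Even n) (h : Fam.Is p f X (.psp n)) : LWin n p (p ^ f) X := by
  have hfp := Fact.mk hp
  obtain ⟨-, -, F, _, _, hch, hF, ⟨E⟩⟩ := h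
  obtain ⟨hf, -, h2, e, he1, he⟩ := field_data hp hp2 hF
  refine ⟨fun δ r hr hrp hi x hx => ?_⟩
  have hrp' : r ≠ p := fun h => hrp (by rw [h])
  have hodd : Odd (n - 1) := Nat.Even.sub_odd (by omega) hne odd_one
  have hco : P1.co (p ^ f) r = orderOf ((Fintype.card F : ℕ) : ZMod r) := by rw [hF]; rfl
  rw [hco] at hi
  rw [← MulEquiv.orderOf_eq E x, ← hF]
  rw [← MulEquiv.orderOf_eq E x] at hx
  exact psp_win h2 he1 he (by omega) hodd hr hrp' hx hi (by rcases hi with h | h <;> omega)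

theorem lwin_oodd {p f n : ℕ} {X : Type u} [Group X] [Finite X] (hp : p.Prime) (hp2 : p ≠ 2) (hn : 4 ≤ n)
    (hne : Even n) (h : Fam.Is p f X (.oodd n)) : LWin n p (p ^ f) X := by
  have hfp := Fact.mk hp
  obtain ⟨-, -, F, _, _, hch, hF, ⟨E⟩⟩ := h
  obtain ⟨hf, -, h2, e, he1, he⟩ := field_data hp hp2 hF
  refine ⟨fun δ r hr hrp hi x hx => ?_⟩
  have hrp' : r ≠ p := fun h => hrp (by rw [h])
  have hodd : Odd (n - 1) := Nat.Even.sub_odd (by omega) hne odd_one
  have hco : P1.co (p ^ f) r = orderOf ((Fintype.card F : ℕ) : ZMod r) := by rw [hF]; rfl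
  rw [hco] at hi
  rw [← MulEquiv.orderOf_eq E x, ← hF]
  rw [← MulEquiv.orderOf_eq E x] at hx
  have key : ∀ y : POmega F ⇑(oddForm n F), r ∣ orderOf y →
      orderOf y ∣ AN δ (n - 1) (Fintype.card F) * p ∨
        orderOf y ∣ AN δ (n - 1) (Fintype.card F) * AN (-δ) 1 (Fintype.card F) := fun y hy1 =>
    oodd_win h2 he1 he (nondeg_oddForm n F h2) (by omega) hodd (by simp; ring) hr hrp' hy1 hi
      (by rcases hi with h | h <;> omega)
  rw [coe_oddForm] at key
  exact key (E x) hx

end Cfsg.Agent.R2.Spec.X5
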