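import Cfsg.Agent.R2.Spec.X5.NumA
import Cfsg.Agent.R2.Spec.X5.TorL
import Cfsg.Agent.R2.Spec.X5.TorB
import Cfsg.Agent.R2.Spec.F1.DuelEx

/-!
# S3435, box X5 (helper12): the numbers `ttor`, `tnum`
-/

set_option autoImplicit false

namespace Cfsg.Agent.R2.Spec.X5

open Cfsg Cfsg.Agent.H426.LieFam Cfsg.Agent.R2.Spec Cfsg.Agent.R2.Spec.P1 Cfsg.Agent.R2.Spec.P1.Eig
open Cfsg.Agent.R2.Spec.F1 Cfsg.Agent.H403.NumTop

/-- the sign of the class `j` -/
def eB (j : ℕ) : ℤ := if j % 2 = 0 then -1 else 1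

theorem eB_pm (j : ℕ) : eB j = 1 ∨ eB j = -1 := by
  unfold eB
  split_ifs
  · exact Or.inr rfl
  · exact Or.inl rfl

theorem eB_even {j : ℕ} (h : j % 2 = 0) : eB j = -1 := if_pos h

theorem eB_odd {j : ℕ} (h : j % 2 = 1) : eB j = 1 := if_neg (by omega)

theorem tnum_B {t : Fam} {m : ℕ} (ht : IsB t m) (u j : ℕ) : tnum t u j = AN (eB j) (eta j) u := by
  have key : (if Even j then u ^ (j / 2) + 1 else u ^ j - 1) = AN (eB j) (eta j) u := by
    rcases Nat.mod_two_eq_zero_or_one j with h | h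
    · rw [if_pos (Nat.even_iff.2 h), eB_even h, AN_neg, show eta j = j / 2 by have := eta_even h; omega]
    · rw [if_neg (by rw [Nat.even_iff]; omega), eB_odd h, AN_one, eta_odd h]
  cases t with
  | psp n => exact key
  | oodd n => exact key
  | oplus n => exact key
  | ominus n => exact key
  | _ => exact ht.elim

theorem tnum_A {t : Fam} {m : ℕ} {e : Bool} (ht : IsA t m e) (u j : ℕ) : tnum t u j = AA e j u := by
  cases t with
  | psl n =>
    obtain ⟨-, rfl⟩ := ht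
    exact tnum_psl n u j
  | psu n =>
    obtain ⟨-, rfl⟩ := ht
    exact tnum_psu n u j
  | _ => exact ht.elim

theorem gcd_two_dvd {u m : ℕ} (hu : 1 ≤ u) : Nat.gcd 2 (u - 1) ∣ u ^ m - 1 ∧ Nat.gcd 2 (u - 1) ∣ u ^ m + 1 := by
  have h1 : Nat.gcd 2 (u - 1) ∣ u ^ m - 1 := (Nat.gcd_dvd_right _ _).trans (Nat.sub_one_dvd_pow_sub_one _ _)
  refine ⟨h1, ?_⟩
  have h2 : u ^ m + 1 = (u ^ m - 1) + 2 := by
    have := Nat.one_le_pow m u hu
    omega
  rw [h2]
  exact dvd_add h1 (Nat.gcd_dvd_left _ _)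

theorem gcd_two_even {u : ℕ} (hu : 1 ≤ u) (h : u % 2 = 0) : Nat.gcd 2 (u - 1) = 1 := by
  apply Nat.Coprime.gcd_eq_one
  rw [Nat.coprime_two_left, Nat.odd_iff]
  omega

theorem gcd_four_odd {N : ℕ} (h : N % 2 = 1) : Nat.gcd 4 N = 1 := by
  have : Nat.Coprime (2 ^ 2) N := Nat.Coprime.pow_left 2 (by rw [Nat.coprime_two_left, Nat.odd_iff]; exact h)
  exact this

theorem pow_mod_two {u m : ℕ} (hm : 1 ≤ m) : u ^ m % 2 = u % 2 := by
  rw [Nat.pow_mod]
  rcases Nat.mod_two_eq_zero_or_one u with h | h <;> rw [h]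
  · rw [zero_pow (by omega)]
    rfl
  · rw [one_pow]
    rfl

/-- `4 ∣ a b` -/
theorem gcd_four_dvd {N a b : ℕ} (h : N % 2 = 0 → a % 2 = 0 ∧ b % 2 = 0) : Nat.gcd 4 N ∣ a * b := by
  rcases Nat.mod_two_eq_zero_or_one N with h1 | h1
  · obtain ⟨h2, h3⟩ := h h1
    refine (Nat.gcd_dvd_left _ _).trans ?_
    exact mul_dvd_mul (a := 2) (b := a) (c := 2) (d := b) (Nat.dvd_of_mod_eq_zero h2) (Nat.dvd_of_mod_eq_zero h3)
  · rw [gcd_four_odd h1]
    exact one_dvd _

/-- **The numbers of a top class, families `B`, `C`, `D`.** -/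
theorem exists_TB {t : Fam} {m u c : ℕ} (ht : IsB t m) (hm : 3 ≤ m) (hu : 2 ≤ u) (hc : top t c) :
    ∃ F c0, c0 * ttor t u c = F * AN (eB c) (eta c) u ∧ (F = 1 ∨ F = u - 1 ∨ F = u + 1) ∧
      ((eta c = m ∧ F = 1) ∨ eta c + 1 = m) ∧ c0 ∣ 4 ∧ (u % 2 = 0 → c0 = 1) ∧
      ((t = .psp m ∨ t = .oodd m) → c0 ∣ 2) := by
  have hu1 : 1 ≤ u := by omega
  have kBC : ∀ c : ℕ, (c = 2 * m ∨ (c = m ∧ m % 2 = 1)) →
      Nat.gcd 2 (u - 1) * (if c = 2 * m then (u ^ m + 1) / Nat.gcd 2 (u - 1) else (u ^ m - 1) / Nat.gcd 2 (u - 1)) =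
        1 * AN (eB c) (eta c) u ∧ eta c = m := by
    intro c hc
    obtain ⟨g1, g2⟩ := gcd_two_dvd (u := u) (m := m) hu1
    rcases hc with rfl | ⟨rfl, hm1⟩
    · rw [if_pos rfl, Nat.mul_div_cancel' g2, eB_even (by omega), eta_two_mul', AN_neg, one_mul]
      exact ⟨rfl, rfl⟩
    · rw [if_neg (by omega), Nat.mul_div_cancel' g1, eB_odd hm1, eta_odd hm1, AN_one, one_mul]
      exact ⟨rfl, rfl⟩
  cases t with
  | psp n =>
    obtain rfl : n = m := ht
    obtain ⟨h1, h2⟩ := kBC c hc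
    exact ⟨1, _, h1, Or.inl rfl, Or.inl ⟨h2, rfl⟩, (Nat.gcd_dvd_left _ _).trans (by norm_num), gcd_two_even hu1,
      fun _ => Nat.gcd_dvd_left _ _⟩
  | oodd n =>
    obtain rfl : n = m := ht
    obtain ⟨h1, h2⟩ := kBC c hc
    exact ⟨1, _, h1, Or.inl rfl, Or.inl ⟨h2, rfl⟩, (Nat.gcd_dvd_left _ _).trans (by norm_num), gcd_two_even hu1,
      fun _ => Nat.gcd_dvd_left _ _⟩
  | oplus n =>
    obtain rfl : n = m := ht
    have hpm := pow_mod_two (u := u) (m := n) (by omega)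
    have hpm1 := pow_mod_two (u := u) (m := n - 1) (by omega)
    have h1n := Nat.one_le_pow n u hu1
    have h1n1 := Nat.one_le_pow (n - 1) u hu1
    obtain ⟨g1, g2⟩ := gcd_two_dvd (u := u) (m := n - 1) hu1
    have hev : u % 2 = 0 → Nat.gcd 4 (u ^ n - 1) = 1 := fun h => gcd_four_odd (by omega)
    rcases hc with ⟨rfl, hm1⟩ | rfl | ⟨rfl, hm1⟩
    · refine ⟨1, Nat.gcd 4 (u ^ c - 1), ?_, Or.inl rfl, Or.inl ⟨eta_odd hm1, rfl⟩, Nat.gcd_dvd_left _ _, hev,
        fun h => by rcases h with h | h <;> cases h⟩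
      change _ * (if c = c then _ else _) = _
      rw [if_pos rfl, Nat.mul_div_cancel' (Nat.gcd_dvd_right _ _), eB_odd hm1, eta_odd hm1, AN_one, one_mul]
    · rcases Nat.mod_two_eq_zero_or_one n with hn | hn
      · refine ⟨1, Nat.gcd 2 (u - 1), ?_, Or.inl rfl, Or.inr (by rw [eta_two_mul']; omega),
          (Nat.gcd_dvd_left _ _).trans (by norm_num), gcd_two_even hu1, fun h => by rcases h with h | h <;> cases h⟩
        change _ * (if 2 * (n - 1) = n then _ else if 2 * (n - 1) = n - 1 then _ else if n % 2 = 0 then _ else _) = _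
        rw [if_neg (by omega), if_neg (by omega), if_pos hn, Nat.mul_div_cancel' g2, eB_even (by omega), eta_two_mul',
          AN_neg, one_mul]
      · refine ⟨u + 1, Nat.gcd 4 (u ^ n - 1), ?_, Or.inr (Or.inr rfl), Or.inr (by rw [eta_two_mul']; omega),
          Nat.gcd_dvd_left _ _, hev, fun h => by rcases h with h | h <;> cases h⟩
        change _ * (if 2 * (n - 1) = n then _ else if 2 * (n - 1) = n - 1 then _ else if n % 2 = 0 then _ else _) = _
        rw [if_neg (by omega), if_neg (by omega), if_neg (by omega),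
          Nat.mul_div_cancel' (gcd_four_dvd (fun h => by omega)), eB_even (by omega), eta_two_mul', AN_neg, mul_comm]
    · refine ⟨1, Nat.gcd 2 (u - 1), ?_, Or.inl rfl, Or.inr (by rw [eta_odd (by omega)]; omega),
        (Nat.gcd_dvd_left _ _).trans (by norm_num), gcd_two_even hu1, fun h => by rcases h with h | h <;> cases h⟩
      change _ * (if n - 1 = n then _ else if n - 1 = n - 1 then _ else _) = _
      rw [if_neg (by omega), if_pos rfl, Nat.mul_div_cancel' g1, eB_odd (by omega), eta_odd (by omega), AN_one, one_mul]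
  | ominus n =>
    obtain rfl : n = m := ht
    have hpm := pow_mod_two (u := u) (m := n) (by omega)
    have hpm1 := pow_mod_two (u := u) (m := n - 1) (by omega)
    have h1n := Nat.one_le_pow n u hu1
    have h1n1 := Nat.one_le_pow (n - 1) u hu1
    have hev : u % 2 = 0 → Nat.gcd 4 (u ^ n + 1) = 1 := fun h => gcd_four_odd (by omega)
    rcases hc with rfl | rfl | ⟨rfl, hm1⟩
    · refine ⟨1, Nat.gcd 4 (u ^ n + 1), ?_, Or.inl rfl, Or.inl ⟨eta_two_mul' n, rfl⟩, Nat.gcd_dvd_left _ _, hev,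
        fun h => by rcases h with h | h <;> cases h⟩
      change _ * (if 2 * n = 2 * n then _ else _) = _
      rw [if_pos rfl, Nat.mul_div_cancel' (Nat.gcd_dvd_right _ _), eB_even (by omega), eta_two_mul', AN_neg, one_mul]
    · refine ⟨u - 1, Nat.gcd 4 (u ^ n + 1), ?_, Or.inr (Or.inl rfl), Or.inr (by rw [eta_two_mul']; omega),
        Nat.gcd_dvd_left _ _, hev, fun h => by rcases h with h | h <;> cases h⟩
      change _ * (if 2 * (n - 1) = 2 * n then _ else if 2 * (n - 1) = n - 1 then _ else _) = _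
      rw [if_neg (by omega), if_neg (by omega), Nat.mul_div_cancel' (gcd_four_dvd (fun h => by omega)),
        eB_even (by omega), eta_two_mul', AN_neg, mul_comm]
    · refine ⟨u + 1, Nat.gcd 4 (u ^ n + 1), ?_, Or.inr (Or.inr rfl), Or.inr (by rw [eta_odd (by omega)]; omega),
        Nat.gcd_dvd_left _ _, hev, fun h => by rcases h with h | h <;> cases h⟩
      change _ * (if n - 1 = 2 * n then _ else if n - 1 = n - 1 then _ else _) = _
      rw [if_neg (by omega), if_pos rfl, Nat.mul_div_cancel' (gcd_four_dvd (fun h => by omega)),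
        eB_odd (by omega), eta_odd (by omega), AN_one, mul_comm]
  | _ => exact ht.elim

/-- `(y - 1) gcd (m, y - 1) ∣ y ^ m - 1` -/
theorem AA_dvd {e : Bool} {m u : ℕ} (hu : 1 ≤ u) : AA e 1 u * Nat.gcd m (AA e 1 u) ∣ AA e m u := by
  obtain ⟨y, hy⟩ : ∃ y, y = xv e u := ⟨_, rfl⟩
  have key : ∀ (i : ℕ) (z : ℤ), (z ∣ ((AA e i u : ℕ) : ℤ) ↔ z ∣ y ^ i - 1) := by
    intro i z
    rcases AA_eq (e := e) (i := i) hu with h | h
    · rw [h, hy]
    · rw [h, hy, dvd_neg]
  have hg1 : ((Nat.gcd m (AA e 1 u) : ℕ) : ℤ) ∣ y - 1 := by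
    have h1 := (key 1 ((Nat.gcd m (AA e 1 u) : ℕ) : ℤ)).1 (by exact_mod_cast Nat.gcd_dvd_right m (AA e 1 u))
    rwa [pow_one] at h1
  have hg2 : ((Nat.gcd m (AA e 1 u) : ℕ) : ℤ) ∣ m := by exact_mod_cast Nat.gcd_dvd_left m (AA e 1 u)
  have hsum : ((Nat.gcd m (AA e 1 u) : ℕ) : ℤ) ∣ ∑ i ∈ Finset.range m, y ^ i := by
    have h1 : (y - 1) ∣ ∑ i ∈ Finset.range m, (y ^ i - 1) := Finset.dvd_sum (fun i _ => by
      have := sub_dvd_pow_sub_pow y 1 i
      rwa [one_pow] at this)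
    have h2 : ∑ i ∈ Finset.range m, y ^ i = (∑ i ∈ Finset.range m, (y ^ i - 1)) + m := by
      rw [Finset.sum_sub_distrib]
      simp
    rw [h2]
    exact dvd_add (hg1.trans h1) hg2
  have h3 : (((AA e 1 u * Nat.gcd m (AA e 1 u) : ℕ)) : ℤ) ∣ ((AA e m u : ℕ) : ℤ) := by
    rw [key m, ← geom_sum_mul, Nat.cast_mul, mul_comm]
    refine mul_dvd_mul hsum ?_
    have h4 := (key 1 ((AA e 1 u : ℕ) : ℤ)).1 dvd_rfl
    rwa [pow_one] at h4
  exact_mod_cast h3

/-- `gcd (m, y - 1) ∣ y ^ i - 1` -/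
theorem gcd_dvd_AA {e : Bool} {m i u : ℕ} (hu : 1 ≤ u) : Nat.gcd m (AA e 1 u) ∣ AA e i u :=
  ((Nat.gcd_dvd_right _ _).trans (Dvd.intro _ rfl)).trans (AA_dvd (e := e) (m := i) hu)

/-- **The numbers of a top class, family `A`.** -/
theorem exists_TA {t : Fam} {m u c : ℕ} {e : Bool} (ht : IsA t m e) (hm : 3 ≤ m) (hu : 2 ≤ u) (hc : top t c) :
    ∃ c0, c0 * ttor t u c = AA e c u ∧
      ((c = m ∧ c0 = AA e 1 u * Nat.gcd m (AA e 1 u)) ∨ (c + 1 = m ∧ c0 = Nat.gcd m (AA e 1 u))) := by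
  have hu1 : 1 ≤ u := by omega
  have a1 : AA true 1 u = u - 1 := by simp [AA]
  have a2 : AA false 1 u = u + 1 := by simp [AA]
  cases t with
  | psl n =>
    obtain ⟨rfl, rfl⟩ := ht
    obtain ⟨-, rfl | h1⟩ := hc
    · refine ⟨_, ?_, Or.inl ⟨rfl, rfl⟩⟩
      have h2 := AA_dvd (e := true) (m := c) hu1
      have h3 : ttor (.psl c) u c = AA true c u / (AA true 1 u * Nat.gcd c (AA true 1 u)) := by
        change (if c = c then _ else _) = _
        rw [if_pos rfl, a1]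
        simp [AA]
      rw [h3, Nat.mul_div_cancel' h2]
    · refine ⟨_, ?_, Or.inr ⟨h1, rfl⟩⟩
      have h2 := gcd_dvd_AA (e := true) (m := n) (i := c) hu1
      have h3 : ttor (.psl n) u c = AA true c u / Nat.gcd n (AA true 1 u) := by
        change (if c = n then _ else _) = _
        rw [if_neg (by omega), a1, show n - 1 = c by omega]
        simp [AA]
      rw [h3, Nat.mul_div_cancel' h2]
  | psu n =>
    obtain ⟨rfl, rfl⟩ := ht
    obtain ⟨-, rfl | h1⟩ := hc
    · refine ⟨_, ?_, Or.inl ⟨rfl, rfl⟩⟩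
      have h2 := AA_dvd (e := false) (m := c) hu1
      have h3 : ttor (.psu c) u c = AA false c u / (AA false 1 u * Nat.gcd c (AA false 1 u)) := by
        change (if c = c then _ else _) = _
        rw [if_pos rfl, a2]
        simp [AA]
      rw [h3, Nat.mul_div_cancel' h2]
    · refine ⟨_, ?_, Or.inr ⟨h1, rfl⟩⟩
      have h2 := gcd_dvd_AA (e := false) (m := n) (i := c) hu1
      have h3 : ttor (.psu n) u c = AA false c u / Nat.gcd n (AA false 1 u) := by
        change (if c = n then _ else _) = _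
        rw [if_neg (by omega), a2, show n - 1 = c by omega]
        rcases Nat.mod_two_eq_zero_or_one n with h | h
        · have : ¬ c % 2 = 0 := by omega
          simp [AA, h, this]
        · have : c % 2 = 0 := by omega
          simp [AA, h, this]
      rw [h3, Nat.mul_div_cancel' h2]
  | _ => exact ht.elim

end Cfsg.Agent.R2.Spec.X5
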