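import Cfsg.Agent.R2.Spec.F1.HW
import Cfsg.Agent.R2.Spec.F1.DuelEx

/-!
# S3435, box X5 (helper12): the torus of the class `2n` (variant of helper23's `LS.wfac`, hypothesis `v ∤ (q ^ n + 1) / 2`)
-/

set_option autoImplicit false
set_option linter.unusedSectionVars false
set_option linter.unusedVariables false

namespace Cfsg.Agent.R2.Spec.X5

open Subgroup Cfsg
open Cfsg.Agent.H426.LieFam Cfsg.Agent.R2.Spec Cfsg.Agent.R2.Spec.P1 Cfsg.Agent.R2.Spec.F1
open Cfsg.Agent.H420.QR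

universe u w

variable {t : Fam} {p f : ℕ} {L : Type w} [Group L] [Finite L] {G : Type u} [Group G] [Finite G]
variable {K : Subgroup G} [K.Normal] {S : Subgroup (G ⧸ K)} [S.Normal]
variable {t' : Fam} {v f' : ℕ}

/-- **The torus of the class `2n`.** -/
theorem wfacX (h : LS t p f L G) (hL : Fam.Is p f L t) (hR : Red G K S) (hF : Frm G K S t' v f') (hp2 : p ≠ 2)
    (ht : CE t) (hv : ¬ v ∣ ((p ^ f) ^ rk t + 1) / 2) :
    (∃ a E, ((p ^ f) ^ rk t + 1) / 2 = a * E ∧ Odd a ∧ a ∣ f' ∧ (∃ y : S, orderOf y = E) ∧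
      ∀ w : ℕ, w.Prime → cls t (p ^ f) w = 2 * rk t → w ∣ E) ∧
      ∀ w : ℕ, w.Prime → cls t (p ^ f) w = 2 * rk t → 3 ≤ cls t' (v ^ f') w ∧ nap t' (cls t' (v ^ f') w) := by
  classical
  have hS := h.bigS_CE hR hF hp2 ht
  have hq3 := h.q_three hp2
  have hqo := h.q_odd hp2
  obtain ⟨hn, hn2⟩ := ht.rk6
  obtain ⟨n, hn'⟩ : ∃ n, n = rk t := ⟨_, rfl⟩
  obtain ⟨q, hq⟩ : ∃ q, q = p ^ f := ⟨_, rfl⟩
  obtain ⟨m, hm⟩ : ∃ m, n = 2 * m := ⟨n / 2, by omega⟩
  -- the number `A`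
  have hsq : ∃ k, q ^ n = 8 * k + 1 := by
    obtain ⟨b, hb⟩ : ∃ b, q = 2 * b + 1 := ⟨q / 2, by omega⟩
    have h1 : q ^ 2 % 8 = 1 := by
      have h2 : q % 8 = 1 ∨ q % 8 = 3 ∨ q % 8 = 5 ∨ q % 8 = 7 := by omega
      rcases h2 with h2 | h2 | h2 | h2 <;> rw [Nat.pow_mod, h2]
    have h3 : q ^ n % 8 = 1 := by
      rw [hm, pow_mul, Nat.pow_mod, h1, one_pow]
      rfl
    exact ⟨q ^ n / 8, by omega⟩
  obtain ⟨A, hA⟩ : ∃ A, A = (q ^ n + 1) / 2 := ⟨_, rfl⟩
  have hA2 : 2 * A = q ^ n + 1 := by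
    obtain ⟨k, hk⟩ := hsq
    omega
  have hAo : A % 2 = 1 := by
    obtain ⟨k, hk⟩ := hsq
    omega
  have hA3 : ¬ 3 ∣ A := by
    intro h3
    have h4 : 3 ∣ q ^ n + 1 := by rw [← hA2]; exact Dvd.dvd.mul_left h3 2
    have h5 : q ^ 2 % 3 = 0 ∨ q ^ 2 % 3 = 1 := by
      rw [Nat.pow_mod]
      have : q % 3 = 0 ∨ q % 3 = 1 ∨ q % 3 = 2 := by omega
      rcases this with h6 | h6 | h6 <;> rw [h6]
      · left; rfl
      · right; rfl
      · right; rfl
    have h6 : q ^ n % 3 = 0 ∨ q ^ n % 3 = 1 := by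
      rw [hm, pow_mul, Nat.pow_mod]
      rcases h5 with h5 | h5 <;> rw [h5]
      · left
        rw [zero_pow (by omega)]
        rfl
      · right
        rw [one_pow]
        rfl
    omega
  have hAd : A ∣ q ^ n + 1 := by rw [← hA2]; exact Dvd.intro_left 2 rfl
  -- its prime divisors
  have hAp : ∀ r : ℕ, r.Prime → r ∣ A → 5 ≤ r ∧ ¬ r ∣ q ^ 2 - 1 ∧ ¬ r ∣ q := by
    intro r hr hd
    have hr2 : r ≠ 2 := by rintro rfl; omega
    have hr3 : r ≠ 3 := by rintro rfl; exact hA3 hd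
    have hr4 : r ≠ 4 := by rintro rfl; exact absurd hr (by norm_num)
    have := hr.two_le
    have hd' := hd.trans hAd
    refine ⟨by omega, ?_, ?_⟩
    · intro h1
      have h2 : r ∣ q ^ n - 1 := by
        rw [hm, pow_mul]
        exact h1.trans (Nat.sub_one_dvd_pow_sub_one _ _)
      have h3 := Nat.one_le_pow n q (by omega)
      have h4 : r ∣ q ^ n + 1 - (q ^ n - 1) := Nat.dvd_sub hd' h2
      rw [show q ^ n + 1 - (q ^ n - 1) = 2 by omega] at h4
      exact hr2 ((Nat.prime_dvd_prime_iff_eq hr Nat.prime_two).1 h4)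
    · intro h1
      have h2 : r ∣ q ^ n := h1.trans (dvd_pow_self q (by omega))
      have h4 := (Nat.dvd_add_right h2).1 hd'
      exact hr.one_lt.ne' (Nat.dvd_one.1 h4)
  have hvA : ¬ v ∣ A := fun hd => hv (by rw [← hq, ← hn', ← hA]; exact hd)
  have hKA : ∀ r : ℕ, r.Prime → r ∣ A → ¬ r ∣ Nat.card K := by
    intro r hr hd hK
    obtain ⟨h1, h2, h3⟩ := hAp r hr hd
    have hrv : r ≠ v := by rintro rfl; exact hvA hd
    have h4 := h.kprime_cls hR hF hS (by omega) hq3 hr hrv hK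
    exact h2 (by
      rw [hq]
      exact dvd_sq_of_cls (by omega) hr (by rw [← hq]; exact h3) h4)
  -- the element of order `A`
  have htf := top_facts_all ht.cla h.prime hL
  have htop : top t (2 * rk t) := by
    obtain ⟨k, rfl | rfl, -⟩ := ht
    · exact Or.inl rfl
    · exact Or.inl rfl
  have htt : ttor t (p ^ f) (2 * rk t) = A := by
    rw [hA, hq, hn']
    obtain ⟨k, rfl | rfl, -⟩ := ht
    · change (if 2 * k = 2 * k then _ else _) = _
      rw [if_pos rfl, two_dvd_sub_one hqo]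
      rfl
    · change (if 2 * k = 2 * k then _ else _) = _
      rw [if_pos rfl, two_dvd_sub_one hqo]
      rfl
  obtain ⟨x, hx⟩ := (h.ord A).2 (by
    obtain ⟨y, hy⟩ := htf.elt _ htop
    exact ⟨y, by rw [hy, htt]⟩)
  have hcop : Nat.Coprime (orderOf x) (Nat.card K) := by
    rw [hx]
    by_contra hcon
    obtain ⟨r, hr, h1, h2⟩ := Nat.Prime.not_coprime_iff_dvd.1 hcon
    exact hKA r hr h1 h2
  obtain ⟨a, E, hE, hi, y, hy⟩ := order_fac (S := S) hcop
  rw [hx] at hE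
  have haA : a ∣ A := by rw [hE]; exact Dvd.intro _ rfl
  have hao : Odd a := by
    rw [← Nat.not_even_iff_odd, even_iff_two_dvd]
    intro h2
    have := h2.trans haA
    omega
  -- the primes of the class `2n`
  have hcl : ∀ w : ℕ, w.Prime → cls t (p ^ f) w = 2 * rk t → w ∣ A ∧ In t (p ^ f) (2 * rk t) w := by
    intro w hw hwc
    have hwI : In t (p ^ f) (2 * rk t) w := ht.in_J (by rw [mem_JJ]; omega) hw hwc
    have h1 := dvd_tn_cls ht (by omega) hwI
    rw [ht.tn, Cfsg.Agent.H72.AdjOrth.tn, if_pos (by rw [even_iff_two_dvd]; exact Dvd.intro _ rfl),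
      Nat.mul_div_cancel_left _ (by norm_num), ← hq, ← hn', ← hA2] at h1
    refine ⟨(hw.dvd_mul.1 h1).resolve_left fun h2 => ?_, hwI⟩
    exact hwI.ne_two ((Nat.prime_dvd_prime_iff_eq hw Nat.prime_two).1 h2)
  -- `w` is not adjacent to `v`
  have hnap : ∀ w : ℕ, w.Prime → cls t (p ^ f) w = 2 * rk t → 3 ≤ cls t' (v ^ f') w ∧ nap t' (cls t' (v ^ f') w) := by
    intro w hw hwc
    obtain ⟨-, hwI⟩ := hcl w hw hwc
    have j0 : 2 * rk t ∈ JJ (rk t) := by rw [mem_JJ]; omega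
    have hwv := h.ne_v_J hR hF hp2 ht j0 hwI.prime hwI.cls_eq
    have hwS := (h.good_J hR hF hp2 ht j0 hwI.prime hwI.cls_eq).2
    have hnv : ¬ ∃ g : S, orderOf g = v * w := by
      intro hg
      obtain ⟨x, hx⟩ := (h.ord _).1 (exists_of_S hg)
      have h1 := htf.ub w hwI.prime (hwI.not_dvd h.fpos) (by rw [hwI.cls_eq]; exact htop) x (by
        rw [hx]; exact Dvd.intro_left _ rfl)
      rw [hwI.cls_eq, htt, hx] at h1
      exact hvA ((Dvd.intro _ rfl).trans h1)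
    rcases hF.vcase hwI.prime hwI.ne_two hwv hwS hnv with h1 | ⟨h1, h2, hk⟩
    · exact h1
    · have := (rk_of_bigS hF hS).2.2.1 hk
      omega
  have hwE : ∀ w : ℕ, w.Prime → cls t (p ^ f) w = 2 * rk t → w ∣ E := by
    intro w hw hwc
    obtain ⟨h1, h2⟩ := hcl w hw hwc
    have hg := (h.good_J hR hF hp2 ht (by rw [mem_JJ]; omega) hw hwc).1
    rw [hE] at h1
    exact (hw.dvd_mul.1 h1).resolve_left fun h3 => hg (Dvd.dvd.mul_left (h3.trans hi) _)
  refine ⟨⟨a, E, by rw [← hq, ← hn', ← hA]; exact hE, hao, ?_, ⟨y, hy⟩, hwE⟩, hnap⟩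
  -- the field primes
  refine hF.dvd_f hi fun r hr hra => ?_
  obtain ⟨hr5, hr2, hrq⟩ := hAp r hr (hra.trans haA)
  refine ⟨hr5, fun hrd => ?_⟩
  have hfr := Fact.mk hr
  -- the class of `r`
  have hrp : ¬ r ∣ p := fun hd => hrq (by rw [hq]; exact hd.trans (dvd_pow_self p (by have := h.fpos; omega)))
  obtain ⟨l, hl⟩ : ∃ l, l = cls t (p ^ f) r := ⟨_, rfl⟩
  have hl3 : 3 ≤ l := by
    by_contra hcon
    exact hr2 (by
      rw [hq]
      exact dvd_sq_of_cls (by omega) hr (by rw [← hq]; exact hrq) (by rw [← hl]; omega))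
  have hrL : r ∣ Nat.card L := by
    obtain ⟨y, hy⟩ := htf.elt _ htop
    rw [htt] at hy
    have h1 := orderOf_dvd_natCard y
    rw [hy] at h1
    exact (hra.trans haA).trans h1
  have hrI : In t (p ^ f) l r := ⟨hr, hl.symm, hl3, by
    rw [hl]
    exact (h.adj.dvd r hr (by omega) hrp (by rw [← hl]; exact hl3)).1 hrL⟩
  have hrA := (hra.trans haA).trans hAd
  have hz : ((q : ℕ) : ZMod r) ^ n = -1 := by
    have h3 := (ZMod.natCast_eq_zero_iff _ _).2 hrA
    push_cast at h3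
    linear_combination h3
  have h20 : (2 : ZMod r) ≠ 0 := by
    intro h0
    have h1 : ((2 : ℕ) : ZMod r) = 0 := by push_cast; exact h0
    have := (Nat.prime_dvd_prime_iff_eq hr Nat.prime_two).1 ((ZMod.natCast_eq_zero_iff _ _).1 h1)
    omega
  have hl' : l = orderOf ((q : ℕ) : ZMod r) := by rw [hl, ht.cls_eq, hq]
  have hl2n : l ∣ 2 * n := by
    rw [hl']
    apply orderOf_dvd_of_pow_eq_one
    rw [mul_comm, pow_mul, hz]
    ring
  have hln : ¬ l ∣ n := by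
    intro h1
    rw [hl', orderOf_dvd_iff_pow_eq_one, hz] at h1
    apply h20
    linear_combination -h1
  -- `l` is even with odd quotient
  obtain ⟨c, hc⟩ := hl2n
  have hco : c % 2 = 1 := by
    by_contra hcon
    apply hln
    refine ⟨c / 2, ?_⟩
    have h1 : c = 2 * (c / 2) := by omega
    rw [h1, mul_left_comm] at hc
    omega
  have hle : l % 2 = 0 := by
    by_contra hcon
    have h1 : (l * c) % 2 = 1 := by
      rw [Nat.mul_mod, hco, show l % 2 = 1 by omega]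
    omega
  have hln' : l ≤ 2 * n := Nat.le_of_dvd (by omega) ⟨c, hc⟩
  have hoddl : OddMul l (2 * n) := ⟨c, hco, hc⟩
  have e1 := eta_two_mul' (n - 1)
  have e2 : eta (n - 1) = n - 1 := eta_odd (by omega)
  have e3 := eta_even hle
  have hna1 : na t l (2 * rk t - 2) := by
    rw [ht.na_iff, ← hn']
    rw [show 2 * n - 2 = 2 * (n - 1) by omega]
    refine ⟨by omega, ?_, ?_⟩
    · intro h1
      have := oddMul_diff h1 hoddl (by omega)
      omega
    · rintro ⟨k, hk, hk'⟩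
      have h1 : k = 1 := by
        by_contra hcon
        have : 3 ≤ k := by omega
        have := Nat.mul_le_mul_left (2 * (n - 1)) this
        omega
      rw [h1, mul_one] at hk'
      have := oddMul_diff (k := l) (a := l) (b := 2 * n) ⟨1, rfl, by ring⟩ hoddl (by omega)
      omega
  have hna2 : na t l (rk t - 1) := by
    rw [ht.na_iff, ← hn']
    refine ⟨by omega, ?_, ?_⟩
    · intro h1
      have := oddMul_parity h1
      omega
    · intro h1
      have := oddMul_parity h1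
      omega
  -- the three primes
  have j0 : 2 * rk t ∈ JJ (rk t) := by rw [mem_JJ]; omega
  have j1 : 2 * rk t - 2 ∈ JJ (rk t) := by rw [mem_JJ]; omega
  have j2 : rk t - 1 ∈ JJ (rk t) := by rw [mem_JJ]; omega
  obtain ⟨w0, hw0⟩ := h.exists_J hp2 ht j0
  obtain ⟨w1, hw1⟩ := h.exists_J hp2 ht j1
  obtain ⟨w2, hw2⟩ := h.exists_J hp2 ht j2
  have hw0S := (h.good_J hR hF hp2 ht j0 hw0.prime hw0.cls_eq).2
  have hw1S := (h.good_J hR hF hp2 ht j1 hw1.prime hw1.cls_eq).2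
  have hw2S := (h.good_J hR hF hp2 ht j2 hw2.prime hw2.cls_eq).2
  have hw0v := h.ne_v_J hR hF hp2 ht j0 hw0.prime hw0.cls_eq
  have hw1v := h.ne_v_J hR hF hp2 ht j1 hw1.prime hw1.cls_eq
  have hw2v := h.ne_v_J hR hF hp2 ht j2 hw2.prime hw2.cls_eq
  obtain ⟨a1, b1, k, hk⟩ := hF.dcase hr hr5 hrd hw1.prime (hrI.ne hw1 (na_ne hna1)).symm (h.not_adj_S hrI hw1 hna1)
  obtain ⟨a2, b2, -⟩ := hF.dcase hr hr5 hrd hw2.prime (hrI.ne hw2 (na_ne hna2)).symm (h.not_adj_S hrI hw2 hna2)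
  have hb0 := hnap w0 hw0.prime hw0.cls_eq
  have hm0 := hF.mem_cls hw0.prime hw0.ne_two hw0S hb0.1
  have hm1 := hF.mem_cls hw1.prime hw1.ne_two hw1S a1
  have hm2 := hF.mem_cls hw2.prime hw2.ne_two hw2S a2
  have key : ∀ {x y : ℕ} {i j : ℕ}, In t (p ^ f) i x → In t (p ^ f) j y → i ∈ JJ (rk t) → j ∈ JJ (rk t) → i ≠ j →
      x ∣ Nat.card S → y ∣ Nat.card S → x ≠ v → y ≠ v → cls t' (v ^ f') x ≠ cls t' (v ^ f') y := by
    intro x y i j hx hy hi hj hij hxS hyS hxv hyv he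
    exact h.not_adj_S hx hy (ht.coq i hi j hj hij) (adj_same' hF.cla hF.prime hF.is hx.prime hy.prime hx.ne_two
      hy.ne_two (hx.ne hy hij) hxv hyv hxS hyS he)
  have k01 := key hw0 hw1 j0 j1 (by omega) hw0S hw1S hw0v hw1v
  have k02 := key hw0 hw2 j0 j2 (by omega) hw0S hw2S hw0v hw2v
  have k12 := key hw1 hw2 j1 j2 (by omega) hw1S hw2S hw1v hw2v
  rcases hk with rfl | rfl
  · change cls (.psl k) (v ^ f') w0 ≤ k at hm0
    change cls (.psl k) (v ^ f') w1 ≤ k at hm1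
    change cls (.psl k) (v ^ f') w2 ≤ k at hm2
    have c0 : k < cls (.psl k) (v ^ f') w0 + 2 := hb0.2
    change k < cls (.psl k) (v ^ f') w1 + 2 at b1
    change k < cls (.psl k) (v ^ f') w2 + 2 at b2
    omega
  · change cls (.psu k) (v ^ f') w0 ≤ k at hm0
    change cls (.psu k) (v ^ f') w1 ≤ k at hm1
    change cls (.psu k) (v ^ f') w2 ≤ k at hm2
    have c0 : k < cls (.psu k) (v ^ f') w0 + 2 := hb0.2
    change k < cls (.psu k) (v ^ f') w1 + 2 at b1
    change k < cls (.psu k) (v ^ f') w2 + 2 at b2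
    omega



end Cfsg.Agent.R2.Spec.X5
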