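import Cfsg.Agent.R2.Spec.X5.MBound
import Cfsg.Agent.R2.Spec.X5.WFac
import Cfsg.Agent.R2.Spec.X5.Prim
import Cfsg.Agent.R2.Spec.X5.TopNum
import Cfsg.Agent.R2.Spec.X5.LWin

/-!
# S3435, box X5 (helper12): from the groups to the numbers
-/

set_option autoImplicit false
set_option linter.unusedSectionVars false
set_option linter.unusedVariables false

namespace Cfsg.Agent.R2.Spec.X5

open Subgroup Cfsg
open Cfsg.Agent.H426.LieFam Cfsg.Agent.R2.Spec Cfsg.Agent.R2.Spec.P1 Cfsg.Agent.R2.Spec.F1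
open Cfsg.Agent.H420.QR Cfsg.Agent.R2.Spec.P1.Eig Cfsg.Agent.H403.NumTop

universe u w

variable {t : Fam} {p f : ℕ} {L : Type w} [Group L] [Finite L] {G : Type u} [Group G] [Finite G]
variable {K : Subgroup G} [K.Normal] {S : Subgroup (G ⧸ K)} [S.Normal]
variable {t' : Fam} {v f' : ℕ}

/-- the class of `L` -/
def icl (n : ℕ) (δ : ℤ) : ℕ := if δ = 1 then n - 1 else 2 * (n - 1)

theorem icl_or {n : ℕ} {δ : ℤ} (hn : 6 ≤ n) : icl n δ = n - 1 ∨ icl n δ = 2 * n - 2 := by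
  unfold icl
  split_ifs
  · exact Or.inl rfl
  · right; omega

theorem icl_JJ {n : ℕ} {δ : ℤ} (hn : 6 ≤ n) : icl n δ ∈ JJ n := by
  rw [mem_JJ]
  rcases icl_or (δ := δ) hn with h | h <;> omega

theorem lwin_CE (hL : Fam.Is p f L t) (hp : p.Prime) (hp2 : p ≠ 2) (ht : CE t) : LWin (rk t) p (p ^ f) L := by
  obtain ⟨n, rfl | rfl, hn, hn2⟩ := ht
  · exact lwin_psp hp hp2 (show 4 ≤ n by omega) (Nat.even_iff.2 hn2) hL
  · exact lwin_oodd hp hp2 (show 4 ≤ n by omega) (Nat.even_iff.2 hn2) hL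

/-- **The window.** -/
theorem winS (h : LS t p f L G) (hL : Fam.Is p f L t) (hp2 : p ≠ 2) (ht : CE t) {δ : ℤ} (hδ : δ = 1 ∨ δ = -1) {w : ℕ}
    (hw : w.Prime) (hwc : cls t (p ^ f) w = icl (rk t) δ) {N : ℕ} (hN : ∃ y : S, orderOf y = N) (hd : w ∣ N) :
    ∃ κ : ℕ, 1 ≤ κ ∧ κ ≤ p ^ f + 1 ∧ (N : ℤ) ∣ κ * (((p ^ f) ^ (rk t - 1) : ℕ) - δ) := by
  obtain ⟨hn, hn2⟩ := ht.rk6
  have hq := h.q_pos
  have hwI := ht.in_J (icl_JJ (δ := δ) hn) hw hwc
  obtain ⟨y, hy⟩ := hN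
  obtain ⟨x, hx⟩ := (h.ord N).1 (exists_of_S ⟨y, hy⟩)
  have h1 := (lwin_CE hL h.prime hp2 ht).win δ w hw (hwI.not_dvd h.fpos) (by
    rw [← cls_eq_co (t := t) (by intro k hk; obtain ⟨n, rfl | rfl, -⟩ := ht <;> cases hk), hwc]
    unfold icl
    rcases hδ with rfl | rfl
    · right; simp
    · left; simp) x (by rw [hx]; exact hd)
  rw [hx] at h1
  have hq1 : 1 ≤ p ^ f := by omega
  have hV : ((AN δ (rk t - 1) (p ^ f) : ℕ) : ℤ) = (((p ^ f) ^ (rk t - 1) : ℕ) : ℤ) - δ := by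
    rw [AN_int hδ hq1]
    push_cast
    ring
  rcases h1 with h1 | h1
  · refine ⟨p, h.prime.one_lt.le, ?_, ?_⟩
    · have : p ≤ p ^ f := Nat.le_self_pow (by have := h.fpos; omega) p
      omega
    · rw [← hV]
      rw [mul_comm] at h1
      exact_mod_cast h1
  · refine ⟨AN (-δ) 1 (p ^ f), ?_, ?_, ?_⟩
    · have := AN_ge (ε := -δ) (by rcases hδ with rfl | rfl; exact Or.inr rfl; exact Or.inl (by norm_num)) 1 hq1
      rw [pow_one] at this
      have := h.q_three hp2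
      omega
    · have := AN_le (ε := -δ) (by rcases hδ with rfl | rfl; exact Or.inr rfl; exact Or.inl (by norm_num)) 1 (p ^ f)
      rwa [pow_one] at this
    · rw [← hV]
      rw [mul_comm] at h1
      exact_mod_cast h1

/-- different classes -/
theorem cls_ne (h : LS t p f L G) (hR : Red G K S) (hF : Frm G K S t' v f') (hp2 : p ≠ 2) (ht : CE t) {i j x y : ℕ}
    (hi : i ∈ JJ (rk t)) (hj : j ∈ JJ (rk t)) (hij : i ≠ j) (hx : x.Prime) (hxc : cls t (p ^ f) x = i) (hy : y.Prime)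
    (hyc : cls t (p ^ f) y = j) : cls t' (v ^ f') x ≠ cls t' (v ^ f') y := by
  intro he
  have hxI := ht.in_J hi hx hxc
  have hyI := ht.in_J hj hy hyc
  exact h.not_adj_S hxI hyI (ht.coq i hi j hj hij) (adj_same' hF.cla hF.prime hF.is hx hy hxI.ne_two
    hyI.ne_two (hxI.ne hyI hij) (h.ne_v_J hR hF hp2 ht hi hx hxc) (h.ne_v_J hR hF hp2 ht hj hy hyc)
    (h.good_J hR hF hp2 ht hi hx hxc).2 (h.good_J hR hF hp2 ht hj hy hyc).2 he)

/-- the data of the class `2n` -/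
structure TopD (t : Fam) (p f : ℕ) (t' : Fam) (v f' : ℕ) (S : Type*) [Group S] (h w : ℕ) : Prop where
  wp : w.Prime
  wc : cls t (p ^ f) w = 2 * rk t
  top : top t' (cls t' (v ^ f') w)
  hf : h ∣ f'
  ho : Odd h
  vh : ¬ v ∣ h
  l : 2 * h * ttor t' (v ^ f') (cls t' (v ^ f') w) = p ^ f * (p ^ f) ^ (rk t - 1) + 1

theorem exists_TopD (h : LS t p f L G) (hL : Fam.Is p f L t) (hR : Red G K S) (hF : Frm G K S t' v f') (hp2 : p ≠ 2)
    (ht : CE t) (hv : ¬ v ∣ ((p ^ f) ^ rk t + 1) / 2) : ∃ h0 w, TopD t p f t' v f' S h0 w := by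
  obtain ⟨⟨a, E, hE, hao, haf, ⟨y, hy⟩, hwE⟩, hnap⟩ := wfacX h hL hR hF hp2 ht hv
  obtain ⟨hn, hn2⟩ := ht.rk6
  have hq3 := h.q_three hp2
  have hqo := h.q_odd hp2
  have j0 : 2 * rk t ∈ JJ (rk t) := by rw [mem_JJ]; omega
  obtain ⟨w, hw⟩ := h.exists_J hp2 ht j0
  obtain ⟨h3, hn'⟩ := hnap w hw.prime hw.cls_eq
  have hwv := h.ne_v_J hR hF hp2 ht j0 hw.prime hw.cls_eq
  have hwS := (h.good_J hR hF hp2 ht j0 hw.prime hw.cls_eq).2
  have hm := hF.mem_cls hw.prime hw.ne_two hwS h3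
  have htop := top_of_iso hF.cla h3 hm hn'
  have hTF := top_facts_all hF.cla hF.prime hF.is
  have hwv' : ¬ w ∣ v := fun hd => hwv ((Nat.prime_dvd_prime_iff_eq hw.prime hF.prime).1 hd)
  have hEP := hTF.ub w hw.prime hwv' htop y (by rw [hy]; exact hwE w hw.prime hw.cls_eq)
  rw [hy] at hEP
  obtain ⟨x, hx⟩ := hTF.elt _ htop
  -- `A`
  obtain ⟨A, hA⟩ : ∃ A, A = ((p ^ f) ^ rk t + 1) / 2 := ⟨_, rfl⟩
  rw [← hA] at hE hv
  have htf := top_facts_all ht.cla h.prime hL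
  have htopL : P1.top t (2 * rk t) := by
    obtain ⟨k, rfl | rfl, -⟩ := ht
    · exact Or.inl rfl
    · exact Or.inl rfl
  have htt : ttor t (p ^ f) (2 * rk t) = A := by
    rw [hA]
    obtain ⟨k, rfl | rfl, -⟩ := ht
    · change (if 2 * k = 2 * k then _ else _) = _
      rw [if_pos rfl, two_dvd_sub_one hqo]
      rfl
    · change (if 2 * k = 2 * k then _ else _) = _
      rw [if_pos rfl, two_dvd_sub_one hqo]
      rfl
  obtain ⟨P0, hP0⟩ : ∃ P0, P0 = ttor t' (v ^ f') (cls t' (v ^ f') w) := ⟨_, rfl⟩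
  rw [← hP0] at hx hEP
  obtain ⟨x', hx'⟩ := (h.ord P0).1 (exists_of_S ⟨x, hx⟩)
  have hPA := htf.ub w hw.prime (hw.not_dvd h.fpos) (by rw [hw.cls_eq]; exact htopL) x' (by
    rw [hx']
    exact (hwE w hw.prime hw.cls_eq).trans hEP)
  rw [hw.cls_eq, htt, hx'] at hPA
  obtain ⟨h0, hh0⟩ := hPA
  obtain ⟨z, hz⟩ := hEP
  have hE0 : 0 < E := by rw [← hy]; exact orderOf_pos y
  have ha0 : h0 ∣ a := by
    refine ⟨z, ?_⟩
    have h5 : E * a = E * (h0 * z) := by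
      rw [mul_comm E a, ← hE, hh0, hz]
      ring
    exact Nat.eq_of_mul_eq_mul_left hE0 h5
  have hmod : ((p ^ f) ^ rk t + 1) % 2 = 0 := by
    have := pow_mod_two (u := p ^ f) (m := rk t) (by omega)
    omega
  refine ⟨h0, w, hw.prime, hw.cls_eq, htop, ha0.trans haf, ?_, fun hd => hv ?_, ?_⟩
  · obtain ⟨b, hb⟩ := ha0
    rw [hb] at hao
    exact (Nat.odd_mul.1 hao).1
  · rw [hh0]
    exact hd.mul_left _
  · rw [← hP0]
    have h6 : p ^ f * (p ^ f) ^ (rk t - 1) = (p ^ f) ^ rk t := by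
      rw [← pow_succ']; congr 1; omega
    rw [h6, mul_assoc, mul_comm h0 P0, ← hh0, hA]
    omega

end Cfsg.Agent.R2.Spec.X5
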