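import Cfsg.Agent.R2.Spec.X5.Build

/-!
# S3435, box X5 (helper12): the data of `NumB`, `NumA` from the groups
-/

set_option autoImplicit false
set_option linter.unusedSectionVars false
set_option linter.unusedVariables false

namespace Cfsg.Agent.R2.Spec.X5

open Subgroup Cfsg
open Cfsg.Agent.H426.LieFam Cfsg.Agent.R2.Spec Cfsg.Agent.R2.Spec.P1 Cfsg.Agent.R2.Spec.F1
open Cfsg.Agent.H420.QR Cfsg.Agent.R2.Spec.P1.Eig Cfsg.Agent.H403.NumTop

universe u w

variable {t : Fam} {p f : ℕ} {L : Type w} [Group L] [Finite L] {G : Type u} [Group G] [Finite G]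
variable {K : Subgroup G} [K.Normal] {S : Subgroup (G ⧸ K)} [S.Normal]
variable {t' : Fam} {v f' : ℕ}

theorem IsB.rk {t : Fam} {m : ℕ} (h : IsB t m) : rk t = m := by
  cases t with
  | psp n => exact h
  | oodd n => exact h
  | oplus n => exact h
  | ominus n => exact h
  | _ => exact h.elim

theorem IsB.wt {t : Fam} {m : ℕ} (h : IsB t m) (j : ℕ) : wt t j = eta j := by
  cases t with
  | psp n => rfl
  | oodd n => rfl
  | oplus n => rfl
  | ominus n => rfl
  | _ => exact h.elim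

theorem IsB.mem_le {t : Fam} {m : ℕ} (h : IsB t m) {j : ℕ} (hj : mem t j) : eta j ≤ m := by
  cases t with
  | psp n => obtain rfl : n = m := h; exact hj
  | oodd n => obtain rfl : n = m := h; exact hj
  | oplus n =>
    obtain rfl : n = m := h
    rcases hj with h1 | ⟨h1, h2⟩
    · omega
    · rw [h1, eta_odd h2]
  | ominus n =>
    obtain rfl : n = m := h
    rcases hj with h1 | h1
    · omega
    · rw [h1, eta_two_mul']
  | _ => exact h.elim

theorem IsB.top_of {t : Fam} {m : ℕ} (h : IsB t m) {j : ℕ} (hj : mem t j) (he : eta j = m) (hm : 1 ≤ m) :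
    P1.top t j := by
  have hc : (j % 2 = 1 ∧ j = m) ∨ (j % 2 = 0 ∧ j = 2 * m) := by
    rcases Nat.mod_two_eq_zero_or_one j with h1 | h1
    · right
      have := eta_even h1
      omega
    · left
      have := eta_odd h1
      omega
  cases t with
  | psp n =>
    obtain rfl : n = m := h
    rcases hc with ⟨h1, rfl⟩ | ⟨h1, rfl⟩
    · exact Or.inr ⟨rfl, h1⟩
    · exact Or.inl rfl
  | oodd n =>
    obtain rfl : n = m := h
    rcases hc with ⟨h1, rfl⟩ | ⟨h1, rfl⟩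
    · exact Or.inr ⟨rfl, h1⟩
    · exact Or.inl rfl
  | oplus n =>
    obtain rfl : n = m := h
    rcases hj with h1 | ⟨h1, h2⟩
    · omega
    · exact Or.inl ⟨h1, h2⟩
  | ominus n =>
    obtain rfl : n = m := h
    rcases hj with h1 | h1
    · omega
    · exact Or.inl h1
  | _ => exact h.elim

/-- in `D` there is only one class of weight `m` -/
theorem IsB.uniq {t : Fam} {m : ℕ} (h : IsB t m) {j c : ℕ} (hj : mem t j) (hc : mem t c) (hej : eta j = m)
    (hec : eta c = m) (hm : 1 ≤ m) (hjc : j ≠ c) : t = .psp m ∨ t = .oodd m := by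
  cases t with
  | psp n => obtain rfl : n = m := h; exact Or.inl rfl
  | oodd n => obtain rfl : n = m := h; exact Or.inr rfl
  | oplus n =>
    obtain rfl : n = m := h
    rcases hj with h1 | ⟨h1, h2⟩
    · omega
    · rcases hc with h3 | ⟨h3, h4⟩ <;> omega
  | ominus n =>
    obtain rfl : n = m := h
    rcases hj with h1 | h1
    · omega
    · rcases hc with h3 | h3 <;> omega
  | _ => exact h.elim

theorem dvd_of_mul {w N c : ℕ} (hw : w.Prime) (h5 : 5 ≤ w) (hd : w ∣ N * c) (hc : c ∣ 2) : w ∣ N := by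
  rcases hw.dvd_mul.1 hd with h | h
  · exact h
  · have := Nat.le_of_dvd two_pos (h.trans hc)
    omega

/-- the primitive part -/
theorem exists_prim (ht : CE t) {q : ℕ} {δ : ℤ} (hδ : δ = 1 ∨ δ = -1) (hq : 3 ≤ q) (hqo : Odd q) {R : ℕ}
    (hR : R ∣ AN δ (rk t - 1) q)
    (hRp : ∀ r : ℕ, r.Prime → r ∣ R → orderOf (q : ZMod r) = if δ = 1 then rk t - 1 else 2 * (rk t - 1)) :
    R ∣ tnum t q (icl (rk t) δ) ∧ ∀ r : ℕ, r.Prime → r ∣ R → cls t q r = icl (rk t) δ := by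
  constructor
  · have hB : IsB t (rk t) := by
      obtain ⟨n, rfl | rfl, -⟩ := ht <;> exact rfl
    rw [tnum_B hB]
    obtain ⟨hn, hn2⟩ := ht.rk6
    unfold icl
    rcases hδ with rfl | rfl
    · rw [if_pos rfl, eB_odd (by omega), eta_odd (by omega)]
      exact hR
    · rw [if_neg (by norm_num), eB_even (by omega), eta_two_mul']
      exact hR
  · intro r hr hd
    rw [ht.cls_eq, hRp r hr hd]
    rfl

theorem sgB (h : LS t p f L G) (hL : Fam.Is p f L t) (hR : Red G K S) (hF : Frm G K S t' v f') (hp2 : p ≠ 2)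
    (ht : CE t) {m : ℕ} (hB : IsB t' m) {h0 w0 : ℕ} (hT : TopD t p f t' v f' S h0 w0) {δ : ℤ} (hδ : δ = 1 ∨ δ = -1) :
    ∃ k ε, SgB (p ^ f) (rk t) (v ^ f') m (eta (cls t' (v ^ f') w0)) δ k ε := by
  obtain ⟨hn, hn2⟩ := ht.rk6
  have hq3 := h.q_three hp2
  have hqo : Odd (p ^ f) := Nat.odd_iff.2 (h.q_odd hp2)
  have hS := h.bigS_CE hR hF hp2 ht
  have hm3 : 3 ≤ m := by
    have := (rk_of_bigS hF hS).1
    rw [hB.rk] at this
    exact this
  have hu2 : 2 ≤ v ^ f' := hF.prime.two_le.trans (Nat.le_self_pow hF.f_ne v)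
  have hJ := icl_JJ (δ := δ) hn
  have hJ0 : 2 * rk t ∈ JJ (rk t) := by rw [mem_JJ]; omega
  obtain ⟨w, hw⟩ := h.exists_J hp2 ht hJ
  have hwp := hw.prime
  have hwc := hw.cls_eq
  have hw5 := hw.five
  have hwv := h.ne_v_J hR hF hp2 ht hJ hwp hwc
  have hwS := (h.good_J hR hF hp2 ht hJ hwp hwc).2
  have hwv' : ¬ w ∣ v := fun hd => hwv ((Nat.prime_dvd_prime_iff_eq hwp hF.prime).1 hd)
  obtain ⟨hj3, hjb⟩ := h.nl hL hR hF hp2 ht (icl_or hn) hwp hwc
  have hjm := hF.mem_cls hwp hw.ne_two hwS hj3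
  obtain ⟨j, hj⟩ : ∃ j, j = cls t' (v ^ f') w := ⟨_, rfl⟩
  obtain ⟨c, hc⟩ : ∃ c, c = cls t' (v ^ f') w0 := ⟨_, rfl⟩
  have hcj : j ≠ c := by
    rw [hj, hc]
    refine cls_ne h hR hF hp2 ht hJ hJ0 ?_ hwp hwc hT.wp hT.wc
    rcases icl_or (δ := δ) hn with h1 | h1 <;> omega
  have hTF := top_facts_all hF.cla hF.prime hF.is
  obtain ⟨xw, hxw⟩ : ∃ x : S, orderOf x = w := by
    have := Fact.mk hwp
    obtain ⟨x, hx⟩ := exists_prime_orderOf_dvd_card' (G := S) w hwS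
    exact ⟨x, hx⟩
  have hwT : w ∣ tnum t' (v ^ f') j := by
    rw [hj]
    have := (torFacts hF.cla hF.prime hF.is).big w 1 hwp hw.ne_two hwv' hj3 hjm hjb ⟨xw, by rw [hxw, pow_one]⟩
    rwa [pow_one] at this
  rw [tnum_B hB] at hwT
  rw [hB.rk, hB.wt, ← hj] at hjb
  rw [← hj] at hj3 hjm
  have hkm := hB.mem_le hjm
  have hcm : mem t' c := by
    rw [hc]
    exact hF.mem_cls hT.wp (ht.in_J hJ0 hT.wp hT.wc).ne_two (h.good_J hR hF hp2 ht hJ0 hT.wp hT.wc).2 (by
      obtain ⟨w0', hw0'⟩ : ∃ c, c = cls t' (v ^ f') w0 := ⟨_, rfl⟩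
      by_contra hcon
      have h1 := hT.top
      cases t' with
      | psl n => exact hB.elim
      | psu n => exact hB.elim
      | psp n =>
        obtain rfl : n = m := hB
        rcases h1 with h2 | h2 <;> omega
      | oodd n =>
        obtain rfl : n = m := hB
        rcases h1 with h2 | h2 <;> omega
      | oplus n =>
        obtain rfl : n = m := hB
        have := (show 4 ≤ n from hF.is.1)
        rcases h1 with h2 | h2 | h2 <;> omega
      | ominus n =>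
        obtain rfl : n = m := hB
        have := (show 4 ≤ n from hF.is.1)
        rcases h1 with h2 | h2 | h2 <;> omega
      | _ => exact hB.elim)
  -- the torus of the class `m`
  have topT : eta j = m → ∃ c1, c1 ∣ 4 ∧ ((t' = .psp m ∨ t' = .oodd m) → c1 ∣ 2) ∧
      ttor t' (v ^ f') j * c1 = AN (eB j) (eta j) (v ^ f') ∧ ∃ κ : ℕ, 1 ≤ κ ∧ κ ≤ p ^ f + 1 ∧
        ((ttor t' (v ^ f') j : ℕ) : ℤ) ∣ κ * (((p ^ f) ^ (rk t - 1) : ℕ) - δ) := by
    intro hem
    have htop := hB.top_of hjm hem (by omega)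
    obtain ⟨F, c1, g1, g2, g3, g4, g5, g6⟩ := exists_TB hB hm3 hu2 htop
    have hF1 : F = 1 := by
      rcases g3 with ⟨-, g3⟩ | g3
      · exact g3
      · omega
    rw [hF1, one_mul, mul_comm] at g1
    refine ⟨c1, g4, g6, g1, ?_⟩
    refine winS h hL hp2 ht hδ hwp hwc (hTF.elt j htop) ?_
    have := hTF.ub w hwp hwv' (by rw [← hj]; exact htop) xw (by rw [hxw])
    rwa [hxw, ← hj] at this
  -- the primitive part
  have hsc := h.sc hL hR hF hp2 ht (icl_or (δ := δ) hn)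
  have prim : ∀ R : ℕ, Odd R → R ∣ AN δ (rk t - 1) (p ^ f) →
      (∀ r : ℕ, r.Prime → r ∣ R → orderOf ((p ^ f : ℕ) : ZMod r) = if δ = 1 then rk t - 1 else 2 * (rk t - 1)) →
      R ∣ AN (eB j) (eta j) (v ^ f') := by
    intro R hRo hR1 hR2
    obtain ⟨j', g1, g2, g3, g4, g5⟩ := hsc
    have hjj : j' = j := by rw [hj, g4 w hwp hwc]
    obtain ⟨g6, g7⟩ := exists_prim ht hδ hq3 hqo hR1 hR2
    have g8 := (g5 R hRo g6 g7).2
    rwa [hjj, tnum_B hB] at g8
  have hk1 : 1 ≤ eta j := by omega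
  have hposAN : 0 < AN (eB j) (eta j) (v ^ f') := AN_pos' hk1 hu2
  refine ⟨eta j, eB j, ⟨eB_pm j, fun h1 => ?_, by omega, hkm, fun h1 => ?_, fun h1 => ?_, fun b ε' hε' hb hkb => ?_,
    fun h6 => ?_, fun h8 => ?_, fun h10 => ?_⟩⟩
  · rcases Nat.mod_two_eq_zero_or_one j with h2 | h2
    · rw [eB_even h2] at h1
      norm_num at h1
    · rw [eta_odd h2]
      exact Nat.odd_iff.2 h2
  · rcases Nat.lt_or_ge (eta j) m with h2 | h2
    · obtain ⟨x, c1, h3, h4⟩ := torB_one hF.prime hF.is hB hk1 h2 (eB_pm j)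
      obtain ⟨κ, k1, k2, k3⟩ := winS h hL hp2 ht hδ hwp hwc (N := orderOf x) ⟨x, rfl⟩
        (dvd_of_mul hwp hw5 (by rw [h4]; exact hwT) h3)
      exact ⟨orderOf x, κ, c1, h3, h4, k1, k2, k3⟩
    · have hem : eta j = m := by omega
      have hec : eta c = m := by
        have := hB.mem_le hcm
        rw [← hc] at h1
        omega
      have hBC := hB.uniq hjm hcm hem hec (by omega) hcj
      obtain ⟨c1, h3, h4, h5, κ, k1, k2, k3⟩ := topT hem
      exact ⟨_, κ, c1, h4 hBC, h5, k1, k2, k3⟩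
  · have hem : eta j = m := by
      have h2 := hT.top
      rw [← hc] at h2 h1
      obtain ⟨F, c1, g1, g2, g3, g4, g5, g6⟩ := exists_TB hB hm3 hu2 h2
      omega
    obtain ⟨c1, h3, h4, h5, κ, k1, k2, k3⟩ := topT hem
    exact ⟨_, κ, c1, h3, h5, k1, k2, k3⟩
  · obtain ⟨x, c1, h3, h4⟩ := torB hF.prime hF.is hB hk1 hb (by omega) (eB_pm j) hε'
    obtain ⟨κ, k1, k2, k3⟩ := winS h hL hp2 ht hδ hwp hwc (N := orderOf x) ⟨x, rfl⟩
      (dvd_of_mul hwp hw5 (by rw [h4]; exact hwT.trans (Nat.dvd_lcm_left _ _)) h3)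
    exact ⟨orderOf x, κ, c1, h3, h4, k1, k2, k3⟩
  · obtain ⟨R, r1, r2, r3, r4⟩ := exists_R5 hδ hq3 hqo
    have r5 := prim R r1 (by rw [h6]; exact r3) (by rw [h6]; exact r4)
    have r6 := (Nat.le_of_dvd hposAN r5).trans (AN_le (eB_pm j) _ _)
    omega
  · obtain ⟨R, r1, r2, r3, r4⟩ := exists_R7 hδ hq3 hqo
    have r5 := prim R r1 (by rw [h8]; exact r3) (by rw [h8]; exact r4)
    have r6 := (Nat.le_of_dvd hposAN r5).trans (AN_le (eB_pm j) _ _)
    omega
  · obtain ⟨R, r1, r2, r3, r4⟩ := exists_R9 hδ hq3 hqo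
    have r5 := prim R r1 (by rw [h10]; exact r3) (by rw [h10]; exact r4)
    refine ⟨R, r2, r5, ?_⟩
    have h7 : ((AN δ 9 (p ^ f) : ℕ) : ℤ) = (((p ^ f) ^ (rk t - 1) : ℕ) : ℤ) - δ := by
      rw [AN_int hδ (by omega), h10]
      push_cast
      ring
    rw [← h7]
    exact_mod_cast r3

end Cfsg.Agent.R2.Spec.X5
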