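import Cfsg.Agent.R2.Spec.X5.FinB
import Cfsg.Agent.H403.NumTop

/-!
# S3435, box X5 (helper12): finite check for `A`
-/

set_option autoImplicit false

namespace Cfsg.Agent.R2.Spec.X5.Sq

open Cfsg.Agent.H403.NumTop

/-- all cases: `k0 = m`, `k0 = m - 1` -/
def cA (h u m : ℕ) : Bool :=
  [true, false].all fun e =>
    c1 (2 * h * AA e m u) (AA e 1 u * Nat.gcd m (AA e 1 u)) (u ^ m) &&
      c1 (2 * h * AA e (m - 1) u) (Nat.gcd m (AA e 1 u)) (u ^ (m - 1))

theorem AA_one_pos' {e : Bool} {u : ℕ} (hu : 2 ≤ u) : 0 < AA e 1 u := by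
  cases e
  · simp [AA]
  · simp [AA]; omega

theorem cA_spec {h u m s : ℕ} {e : Bool} (hu : 2 ≤ u) (hb : cA h u m = true) (hs : 729 ≤ s * s) :
    (AA e 1 u * Nat.gcd m (AA e 1 u) * (s * s + 1) = 2 * h * AA e m u → s * s = u ^ m) ∧
      (Nat.gcd m (AA e 1 u) * (s * s + 1) = 2 * h * AA e (m - 1) u → s * s = u ^ (m - 1)) := by
  have hw := AA_one_pos' (e := e) hu
  have hd : 0 < Nat.gcd m (AA e 1 u) := Nat.gcd_pos_of_pos_right _ hw
  rw [cA] at hb
  simp only [List.all_eq_true] at hb
  have h1 := hb e (by cases e <;> simp)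
  rw [Bool.and_eq_true] at h1
  exact ⟨fun he => c1_spec (Nat.mul_pos hw hd) h1.1 he hs, fun he => c1_spec hd h1.2 he hs⟩

/-- inner loop -/
def goA (B B' h u : ℕ) : ℕ → ℕ → ℕ → Bool
  | 0, _, _ => false
  | f + 1, m, p => if B < p then true else (((m.blt 17) && B'.blt p) || cA h u m) && goA B B' h u f (m + 1) (p * u)

theorem goA_spec {B B' h u : ℕ} (hu : 1 ≤ u) : ∀ {f m p : ℕ}, 2 ≤ m → goA B B' h u f m p = true → p = u ^ (m - 2) →
    ∀ j, m ≤ j → u ^ (j - 2) ≤ B → (j < 17 → u ^ (j - 2) ≤ B') → cA h u j = true := by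
  intro f
  induction f with
  | zero => intro m p _ hg; exact absurd hg (by simp [goA])
  | succ f ih =>
    intro m p hm hg hp j hmj hB hB'
    rw [goA] at hg
    have hle : p ≤ B := by
      rw [hp]
      exact (Nat.pow_le_pow_right hu (by omega)).trans hB
    rw [if_neg (by omega), Bool.and_eq_true] at hg
    rcases Nat.eq_or_lt_of_le hmj with rfl | hlt
    · have h1 := hg.1
      rcases Bool.or_eq_true_iff.1 h1 with h2 | h2
      · exfalso
        rw [Bool.and_eq_true, Nat.blt_eq, Nat.blt_eq] at h2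
        have := hB' h2.1
        rw [← hp] at this
        omega
      · exact h2
    · exact ih (by omega) hg.2 (by rw [hp, ← pow_succ, show m - 2 + 1 = m + 1 - 2 by omega]) j hlt hB hB'

/-- outer loop -/
def outA (B B' fuel h a : ℕ) : ℕ → Bool
  | 0 => true
  | n + 1 => goA B B' h ((a + n) ^ h) fuel 9 (((a + n) ^ h) ^ 7) && outA B B' fuel h a n

theorem outA_spec {B B' fuel h a : ℕ} : ∀ {n : ℕ}, outA B B' fuel h a n = true → ∀ i < n,
    goA B B' h ((a + i) ^ h) fuel 9 (((a + i) ^ h) ^ 7) = true := by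
  intro n
  induction n with
  | zero => intro _ i hi; omega
  | succ n ih =>
    intro h i hi
    rw [outA, Bool.and_eq_true] at h
    rcases Nat.lt_succ_iff_lt_or_eq.1 hi with h1 | h1
    · exact ih h.2 i h1
    · rw [h1]; exact h.1

theorem outA1 : outA (2 ^ 143) (2 ^ 62) 160 1 2 742 = true := by decide +kernel
theorem outA3 : outA (2 ^ 280) (2 ^ 62) 300 3 2 74 = true := by decide +kernel
theorem outA5 : outA (2 ^ 280) (2 ^ 62) 300 5 2 12 = true := by decide +kernel
theorem outA7 : outA (2 ^ 280) (2 ^ 62) 300 7 2 7 = true := by decide +kernel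
theorem outA9 : outA (2 ^ 280) (2 ^ 62) 300 9 2 4 = true := by decide +kernel
theorem outA11 : outA (2 ^ 280) (2 ^ 62) 300 11 2 3 = true := by decide +kernel
theorem outA13 : outA (2 ^ 280) (2 ^ 62) 300 13 2 3 = true := by decide +kernel
theorem outA15 : outA (2 ^ 280) (2 ^ 62) 300 15 2 2 = true := by decide +kernel
theorem outA17 : outA (2 ^ 280) (2 ^ 62) 300 17 2 2 = true := by decide +kernel

set_option exponentiation.threshold 1000 in
theorem outA_all (h w : ℕ) (hh : Odd h) (h3 : 3 ≤ h) (hw : 2 ≤ w)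
    (hB : (w ^ h) ^ 15 ≤ 2 ^ 280 ∨ (w ^ h) ^ 7 ≤ 2 ^ 62) :
    goA (2 ^ 280) (2 ^ 62) h (w ^ h) 300 9 ((w ^ h) ^ 7) = true := by
  have key : ∀ a, a ≤ w → (2 ^ 280 < (a ^ h) ^ 15 ∧ 2 ^ 62 < (a ^ h) ^ 7) → False := by
    rintro a ha ⟨h1, h2⟩
    have h4 : (a ^ h) ^ 15 ≤ (w ^ h) ^ 15 := Nat.pow_le_pow_left (Nat.pow_le_pow_left ha h) 15
    have h5 : (a ^ h) ^ 7 ≤ (w ^ h) ^ 7 := Nat.pow_le_pow_left (Nat.pow_le_pow_left ha h) 7
    rcases hB with hB | hB
    · omega
    · omega
  have hh17 : h ≤ 18 := by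
    by_contra hcon
    refine key 2 hw ⟨?_, ?_⟩
    · rw [← pow_mul]
      exact (Nat.pow_lt_pow_iff_right (by norm_num)).2 (by omega)
    · rw [← pow_mul]
      exact (Nat.pow_lt_pow_iff_right (by norm_num)).2 (by omega)
  obtain ⟨j, hj⟩ := hh
  have hcases : h = 3 ∨ h = 5 ∨ h = 7 ∨ h = 9 ∨ h = 11 ∨ h = 13 ∨ h = 15 ∨ h = 17 := by omega
  rcases hcases with rfl | rfl | rfl | rfl | rfl | rfl | rfl | rfl
  · have hlt : w < 76 := by
      by_contra hcon
      exact key 76 (by omega) ⟨by norm_num, by norm_num⟩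
    have := outA_spec outA3 (w - 2) (by omega)
    rwa [show 2 + (w - 2) = w by omega] at this
  · have hlt : w < 14 := by
      by_contra hcon
      exact key 14 (by omega) ⟨by norm_num, by norm_num⟩
    have := outA_spec outA5 (w - 2) (by omega)
    rwa [show 2 + (w - 2) = w by omega] at this
  · have hlt : w < 9 := by
      by_contra hcon
      exact key 9 (by omega) ⟨by norm_num, by norm_num⟩
    have := outA_spec outA7 (w - 2) (by omega)
    rwa [show 2 + (w - 2) = w by omega] at this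
  · have hlt : w < 6 := by
      by_contra hcon
      exact key 6 (by omega) ⟨by norm_num, by norm_num⟩
    have := outA_spec outA9 (w - 2) (by omega)
    rwa [show 2 + (w - 2) = w by omega] at this
  · have hlt : w < 5 := by
      by_contra hcon
      exact key 5 (by omega) ⟨by norm_num, by norm_num⟩
    have := outA_spec outA11 (w - 2) (by omega)
    rwa [show 2 + (w - 2) = w by omega] at this
  · have hlt : w < 5 := by
      by_contra hcon
      exact key 5 (by omega) ⟨by norm_num, by norm_num⟩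
    have := outA_spec outA13 (w - 2) (by omega)
    rwa [show 2 + (w - 2) = w by omega] at this
  · have hlt : w < 4 := by
      by_contra hcon
      exact key 4 (by omega) ⟨by norm_num, by norm_num⟩
    have := outA_spec outA15 (w - 2) (by omega)
    rwa [show 2 + (w - 2) = w by omega] at this
  · have hlt : w < 4 := by
      by_contra hcon
      exact key 4 (by omega) ⟨by norm_num, by norm_num⟩
    have := outA_spec outA17 (w - 2) (by omega)
    rwa [show 2 + (w - 2) = w by omega] at this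

set_option exponentiation.threshold 1000 in
/-- **The finite check.** -/
theorem finA {h w m s : ℕ} {e : Bool} (hh : Odd h) (hw : 2 ≤ w) (hm : 9 ≤ m)
    (hB' : m < 17 → (w ^ h) ^ (m - 2) ≤ 2 ^ 62)
    (hB : (w ^ h) ^ (m - 2) ≤ 2 ^ 143 ∨ (3 ≤ h ∧ (w ^ h) ^ (m - 2) ≤ 2 ^ 280)) (hs : 729 ≤ s * s) :
    (AA e 1 (w ^ h) * Nat.gcd m (AA e 1 (w ^ h)) * (s * s + 1) = 2 * h * AA e m (w ^ h) → s * s = (w ^ h) ^ m) ∧
      (Nat.gcd m (AA e 1 (w ^ h)) * (s * s + 1) = 2 * h * AA e (m - 1) (w ^ h) → s * s = (w ^ h) ^ (m - 1)) := by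
  have hu : 2 ≤ w ^ h := hw.trans (Nat.le_self_pow hh.pos.ne' w)
  rcases Nat.lt_or_ge h 3 with h3 | h3
  · have h1 : h = 1 := by
      obtain ⟨j, hj⟩ := hh
      omega
    subst h1
    rw [pow_one] at hB hB' hu ⊢
    have hB2 : w ^ (m - 2) ≤ 2 ^ 143 := by
      rcases hB with h2 | h2
      · exact h2
      · omega
    have hlt : w < 744 := by
      by_contra hcon
      have h1 : 744 ^ (m - 2) ≤ w ^ (m - 2) := Nat.pow_le_pow_left (by omega) _
      rcases Nat.lt_or_ge m 17 with h2 | h2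
      · have h3 := hB' h2
        have h4 : 744 ^ 7 ≤ 744 ^ (m - 2) := Nat.pow_le_pow_right (by norm_num) (by omega)
        have h5 : 2 ^ 62 < 744 ^ 7 := by norm_num
        omega
      · have h4 : 744 ^ 15 ≤ 744 ^ (m - 2) := Nat.pow_le_pow_right (by norm_num) (by omega)
        have h5 : 2 ^ 143 < 744 ^ 15 := by norm_num
        omega
    have hg := outA_spec outA1 (w - 2) (by omega)
    rw [show 2 + (w - 2) = w by omega, pow_one] at hg
    exact cA_spec hu (goA_spec (by omega) (by norm_num) hg rfl m hm hB2 hB') hs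
  · have hg := outA_all h w hh h3 hw (by
      rcases Nat.lt_or_ge m 17 with h2 | h2
      · right
        exact (Nat.pow_le_pow_right (by omega) (by omega)).trans (hB' h2)
      · left
        refine (Nat.pow_le_pow_right (by omega) (show 15 ≤ m - 2 by omega)).trans ?_
        rcases hB with hB | hB
        · exact hB.trans (by norm_num)
        · exact hB.2)
    refine cA_spec hu (goA_spec (by omega) (by norm_num) hg rfl m hm ?_ hB') hs
    rcases hB with hB | hB
    · exact hB.trans (by norm_num)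
    · exact hB.2

end Cfsg.Agent.R2.Spec.X5.Sq
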