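import Cfsg.Agent.R2.Spec.X5.Sq
import Cfsg.Agent.R2.Spec.P1.TopBlk

/-!
# S3435, box X5 (helper12): finite check for `B, C, D`
-/

set_option autoImplicit false

namespace Cfsg.Agent.R2.Spec.X5.Sq

open Cfsg.Agent.R2.Spec.P1.Eig

/-- one case: `t = 2 h F (u ^ k0 - ε0)`, `p = u ^ k0` -/
def c1 (t c p : ℕ) : Bool := (t % c != 0) || (t / c - 1 == p) || (t / c - 1).blt 729 || ns (t / c - 1)

/-- all cases -/
def cB (h u p : ℕ) : Bool :=
  let cs := if u % 2 = 0 then [1] else [1, 2, 4]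
  [p - 1, p + 1].all fun b => [1, u - 1, u + 1].all fun F => cs.all fun c => c1 (2 * h * F * b) c p

theorem c1_spec {t c p s : ℕ} (hc : 0 < c) (h : c1 t c p = true) (he : c * (s * s + 1) = t) (hs : 729 ≤ s * s) :
    s * s = p := by
  subst he
  have h1 : c * (s * s + 1) / c - 1 = s * s := by rw [Nat.mul_div_cancel_left _ hc]; rfl
  rw [c1, h1, Nat.mul_mod_right] at h
  simp only [bne_self_eq_false, Bool.false_or, Bool.or_eq_true, beq_iff_eq, Nat.blt_eq] at h
  rcases h with (h | h) | h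
  · exact h
  · omega
  · exact absurd rfl (ns_ne h s)

theorem cB_spec {h u k0 F c s : ℕ} {ε0 : ℤ} (hε : ε0 = 1 ∨ ε0 = -1) (hF : F = 1 ∨ F = u - 1 ∨ F = u + 1)
    (hc : c = 1 ∨ c = 2 ∨ c = 4) (hcu : u % 2 = 0 → c = 1) (hb : cB h u (u ^ k0) = true)
    (he : c * (s * s + 1) = 2 * h * F * AN ε0 k0 u) (hs : 729 ≤ s * s) : s * s = u ^ k0 := by
  have hc0 : 0 < c := by omega
  rw [cB] at hb
  simp only [List.all_eq_true] at hb
  have hmem : c ∈ (if u % 2 = 0 then [1] else [1, 2, 4]) := by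
    split_ifs with h1
    · rw [hcu h1]; simp
    · rcases hc with rfl | rfl | rfl <;> simp
  have hFm : F ∈ [1, u - 1, u + 1] := by
    rcases hF with rfl | rfl | rfl <;> simp
  have hA : AN ε0 k0 u ∈ [u ^ k0 - 1, u ^ k0 + 1] := by
    rcases hε with rfl | rfl
    · rw [AN_one]; simp
    · rw [AN_neg]; simp
  exact c1_spec hc0 (hb _ hA _ hFm _ hmem) he hs

/-- inner loop -/
def go (B B' h u : ℕ) : ℕ → ℕ → ℕ → Bool
  | 0, _, _ => false
  | f + 1, k, p => if B < p then true else (((k.blt 8) && B'.blt p) || cB h u p) && go B B' h u f (k + 1) (p * u)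

theorem go_spec {B B' h u : ℕ} (hu : 1 ≤ u) : ∀ {f k p : ℕ}, go B B' h u f k p = true → p = u ^ k →
    ∀ j, k ≤ j → u ^ j ≤ B → (j < 8 → u ^ j ≤ B') → cB h u (u ^ j) = true := by
  intro f
  induction f with
  | zero => intro k p hg; exact absurd hg (by simp [go])
  | succ f ih =>
    intro k p hg hp j hkj hB hB'
    rw [go] at hg
    have hle : p ≤ B := by
      rw [hp]
      exact (Nat.pow_le_pow_right hu hkj).trans hB
    rw [if_neg (by omega), Bool.and_eq_true] at hg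
    rcases Nat.eq_or_lt_of_le hkj with rfl | hlt
    · have h1 := hg.1
      rw [← hp]
      rcases Bool.or_eq_true_iff.1 h1 with h2 | h2
      · exfalso
        rw [Bool.and_eq_true, Nat.blt_eq, Nat.blt_eq] at h2
        have := hB' h2.1
        rw [← hp] at this
        omega
      · exact h2
    · exact ih hg.2 (by rw [hp, pow_succ]) j hlt hB hB'

/-- outer loop -/
def out (B B' fuel a : ℕ) : ℕ → Bool
  | 0 => true
  | n + 1 => go B B' 1 (a + n) fuel 5 ((a + n) ^ 5) && out B B' fuel a n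

theorem out_spec {B B' fuel a : ℕ} : ∀ {n : ℕ}, out B B' fuel a n = true → ∀ i < n, go B B' 1 (a + i) fuel 5 ((a + i) ^ 5) = true := by
  intro n
  induction n with
  | zero => intro _ i hi; omega
  | succ n ih =>
    intro h i hi
    rw [out, Bool.and_eq_true] at h
    rcases Nat.lt_succ_iff_lt_or_eq.1 hi with h1 | h1
    · exact ih h.2 i h1
    · rw [h1]; exact h.1

theorem out1 : out (2 ^ 85) (2 ^ 62) 90 2 400 = true := by decide +kernel
theorem out2 : out (2 ^ 85) (2 ^ 62) 90 402 1200 = true := by decide +kernel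
theorem out3 : out (2 ^ 85) (2 ^ 62) 90 1602 2000 = true := by decide +kernel
theorem out4 : out (2 ^ 85) (2 ^ 62) 90 3602 1803 = true := by decide +kernel

theorem out_all (u : ℕ) (hu : 2 ≤ u) (hu' : u < 5405) : go (2 ^ 85) (2 ^ 62) 1 u 90 5 (u ^ 5) = true := by
  by_cases h1 : u < 402
  · have := out_spec out1 (u - 2) (by omega)
    rwa [show 2 + (u - 2) = u by omega] at this
  by_cases h2 : u < 1602
  · have := out_spec out2 (u - 402) (by omega)
    rwa [show 402 + (u - 402) = u by omega] at this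
  by_cases h3 : u < 3602
  · have := out_spec out3 (u - 1602) (by omega)
    rwa [show 1602 + (u - 1602) = u by omega] at this
  · have := out_spec out4 (u - 3602) (by omega)
    rwa [show 3602 + (u - 3602) = u by omega] at this

/-- **The finite check, `h = 1`.** -/
theorem finB1 {u k0 F c s : ℕ} {ε0 : ℤ} (hu : 2 ≤ u) (hk : 5 ≤ k0) (hB : u ^ k0 ≤ 2 ^ 85)
    (hB' : k0 < 8 → u ^ k0 ≤ 2 ^ 62) (hε : ε0 = 1 ∨ ε0 = -1) (hF : F = 1 ∨ F = u - 1 ∨ F = u + 1)
    (hc : c = 1 ∨ c = 2 ∨ c = 4) (hcu : u % 2 = 0 → c = 1)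
    (he : c * (s * s + 1) = 2 * 1 * F * AN ε0 k0 u) (hs : 729 ≤ s * s) : s * s = u ^ k0 := by
  have hu' : u < 5405 := by
    by_contra hcon
    have h1 : 5405 ^ k0 ≤ u ^ k0 := Nat.pow_le_pow_left (by omega) k0
    rcases Nat.lt_or_ge k0 8 with h2 | h2
    · have h3 := hB' h2
      have h4 : 5405 ^ 5 ≤ 5405 ^ k0 := Nat.pow_le_pow_right (by norm_num) hk
      have h5 : 2 ^ 62 < 5405 ^ 5 := by norm_num
      omega
    · have h4 : 5405 ^ 8 ≤ 5405 ^ k0 := Nat.pow_le_pow_right (by norm_num) h2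
      have h5 : 2 ^ 85 < 5405 ^ 8 := by norm_num
      omega
  exact cB_spec hε hF hc hcu (go_spec (by omega) (out_all u hu hu') rfl k0 hk hB hB') he hs

end Cfsg.Agent.R2.Spec.X5.Sq
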