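import Cfsg.Agent.R2.Spec.X5.FinB

/-!
# S3435, box X5 (helper12): finite check for `B, C, D`, `h ≥ 3`
-/

set_option autoImplicit false

namespace Cfsg.Agent.R2.Spec.X5.Sq

open Cfsg.Agent.R2.Spec.P1.Eig

/-- outer loop -/
def outh (B B' fuel h a : ℕ) : ℕ → Bool
  | 0 => true
  | n + 1 => go B B' h ((a + n) ^ h) fuel 5 (((a + n) ^ h) ^ 5) && outh B B' fuel h a n

theorem outh_spec {B B' fuel h a : ℕ} : ∀ {n : ℕ}, outh B B' fuel h a n = true → ∀ i < n,
    go B B' h ((a + i) ^ h) fuel 5 (((a + i) ^ h) ^ 5) = true := by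
  intro n
  induction n with
  | zero => intro _ i hi; omega
  | succ n ih =>
    intro h i hi
    rw [outh, Bool.and_eq_true] at h
    rcases Nat.lt_succ_iff_lt_or_eq.1 hi with h1 | h1
    · exact ih h.2 i h1
    · rw [h1]; exact h.1

theorem outh3 : outh (2 ^ 105) (2 ^ 62) 60 3 2 22 = true := by decide +kernel
theorem outh5 : outh (2 ^ 105) (2 ^ 62) 60 5 2 7 = true := by decide +kernel
theorem outh7 : outh (2 ^ 105) (2 ^ 62) 60 7 2 4 = true := by decide +kernel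
theorem outh9 : outh (2 ^ 105) (2 ^ 62) 60 9 2 3 = true := by decide +kernel
theorem outh11 : outh (2 ^ 105) (2 ^ 62) 60 11 2 2 = true := by decide +kernel
theorem outh13 : outh (2 ^ 105) (2 ^ 62) 60 13 2 2 = true := by decide +kernel

theorem outh_all (h w : ℕ) (hh : Odd h) (h3 : 3 ≤ h) (hw : 2 ≤ w) (hB : (w ^ h) ^ 8 ≤ 2 ^ 105 ∨ (w ^ h) ^ 5 ≤ 2 ^ 62) :
    ∃ fuel, go (2 ^ 105) (2 ^ 62) h (w ^ h) fuel 5 ((w ^ h) ^ 5) = true := by
  refine ⟨60, ?_⟩
  have key : ∀ a, a ≤ w → (2 ^ 105 < (a ^ h) ^ 8 ∧ 2 ^ 62 < (a ^ h) ^ 5) → False := by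
    rintro a ha ⟨h1, h2⟩
    have h4 : (a ^ h) ^ 8 ≤ (w ^ h) ^ 8 := Nat.pow_le_pow_left (Nat.pow_le_pow_left ha h) 8
    have h5 : (a ^ h) ^ 5 ≤ (w ^ h) ^ 5 := Nat.pow_le_pow_left (Nat.pow_le_pow_left ha h) 5
    rcases hB with hB | hB
    · omega
    · omega
  have hh13 : h ≤ 13 := by
    by_contra hcon
    refine key 2 hw ⟨?_, ?_⟩
    · rw [← pow_mul]
      exact (Nat.pow_lt_pow_iff_right (by norm_num)).2 (by omega)
    · rw [← pow_mul]
      exact (Nat.pow_lt_pow_iff_right (by norm_num)).2 (by omega)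
  obtain ⟨j, hj⟩ := hh
  have hcases : h = 3 ∨ h = 5 ∨ h = 7 ∨ h = 9 ∨ h = 11 ∨ h = 13 := by omega
  rcases hcases with rfl | rfl | rfl | rfl | rfl | rfl
  · have hlt : w < 24 := by
      by_contra hcon
      exact key 24 (by omega) ⟨by norm_num, by norm_num⟩
    have := outh_spec outh3 (w - 2) (by omega)
    rwa [show 2 + (w - 2) = w by omega] at this
  · have hlt : w < 9 := by
      by_contra hcon
      exact key 9 (by omega) ⟨by norm_num, by norm_num⟩
    have := outh_spec outh5 (w - 2) (by omega)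
    rwa [show 2 + (w - 2) = w by omega] at this
  · have hlt : w < 6 := by
      by_contra hcon
      exact key 6 (by omega) ⟨by norm_num, by norm_num⟩
    have := outh_spec outh7 (w - 2) (by omega)
    rwa [show 2 + (w - 2) = w by omega] at this
  · have hlt : w < 5 := by
      by_contra hcon
      exact key 5 (by omega) ⟨by norm_num, by norm_num⟩
    have := outh_spec outh9 (w - 2) (by omega)
    rwa [show 2 + (w - 2) = w by omega] at this
  · have hlt : w < 4 := by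
      by_contra hcon
      exact key 4 (by omega) ⟨by norm_num, by norm_num⟩
    have := outh_spec outh11 (w - 2) (by omega)
    rwa [show 2 + (w - 2) = w by omega] at this
  · have hlt : w < 4 := by
      by_contra hcon
      exact key 4 (by omega) ⟨by norm_num, by norm_num⟩
    have := outh_spec outh13 (w - 2) (by omega)
    rwa [show 2 + (w - 2) = w by omega] at this

/-- **The finite check, all odd `h`.** -/
theorem finB {h w k0 F c s : ℕ} {ε0 : ℤ} (hh : Odd h) (hw : 2 ≤ w) (hk : 5 ≤ k0) (hB : (w ^ h) ^ k0 ≤ 2 ^ 85)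
    (hB' : k0 < 8 → (w ^ h) ^ k0 ≤ 2 ^ 62) (hε : ε0 = 1 ∨ ε0 = -1) (hF : F = 1 ∨ F = w ^ h - 1 ∨ F = w ^ h + 1)
    (hc : c = 1 ∨ c = 2 ∨ c = 4) (hcu : w ^ h % 2 = 0 → c = 1)
    (he : c * (s * s + 1) = 2 * h * F * AN ε0 k0 (w ^ h)) (hs : 729 ≤ s * s) : s * s = (w ^ h) ^ k0 := by
  have hu : 2 ≤ w ^ h := hw.trans (Nat.le_self_pow hh.pos.ne' w)
  rcases Nat.lt_or_ge h 3 with h3 | h3
  · have h1 : h = 1 := by
      obtain ⟨j, hj⟩ := hh
      omega
    subst h1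
    exact finB1 hu hk hB hB' hε hF hc hcu he hs
  · obtain ⟨fuel, hg⟩ := outh_all h w hh h3 hw (by
      rcases Nat.lt_or_ge k0 8 with h2 | h2
      · right
        exact (Nat.pow_le_pow_right (by omega) hk).trans (hB' h2)
      · left
        exact (Nat.pow_le_pow_right (by omega) h2).trans (hB.trans (by norm_num)))
    exact cB_spec hε hF hc hcu (go_spec (by omega) hg rfl k0 hk (hB.trans (by norm_num)) hB') he hs

/-- the same for `k0 ≥ 10`, `h ≥ 3`, a larger bound -/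
theorem finB' {h w k0 F c s : ℕ} {ε0 : ℤ} (hh : Odd h) (h3 : 3 ≤ h) (hw : 2 ≤ w) (hk : 8 ≤ k0)
    (hB : (w ^ h) ^ k0 ≤ 2 ^ 105) (hε : ε0 = 1 ∨ ε0 = -1) (hF : F = 1 ∨ F = w ^ h - 1 ∨ F = w ^ h + 1)
    (hc : c = 1 ∨ c = 2 ∨ c = 4) (hcu : w ^ h % 2 = 0 → c = 1)
    (he : c * (s * s + 1) = 2 * h * F * AN ε0 k0 (w ^ h)) (hs : 729 ≤ s * s) : s * s = (w ^ h) ^ k0 := by
  have hu : 2 ≤ w ^ h := hw.trans (Nat.le_self_pow hh.pos.ne' w)
  obtain ⟨fuel, hg⟩ := outh_all h w hh h3 hw (Or.inl ((Nat.pow_le_pow_right (by omega) hk).trans hB))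
  exact cB_spec hε hF hc hcu (go_spec (by omega) hg rfl k0 (by omega) hB (by omega)) he hs

end Cfsg.Agent.R2.Spec.X5.Sq
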