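import Cfsg.Agent.R2.Spec.F1.HW
import Cfsg.Agent.R2.Spec.X5.TorB
import Cfsg.Agent.R2.Spec.X5.TorL

/-!
# S3435, box X5 (helper12): the rank of `S`

* `card_lt` : the cocliques of `psp m`, `oodd m`, `oplus m`, `ominus m`, `psl m`, `psu m`, small `m`.
-/

set_option autoImplicit false
set_option linter.unusedSectionVars false
set_option linter.unusedVariables false

namespace Cfsg.Agent.R2.Spec.X5

open Subgroup Cfsg
open Cfsg.Agent.H426.LieFam Cfsg.Agent.R2.Spec Cfsg.Agent.R2.Spec.P1 Cfsg.Agent.R2.Spec.F1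
open Cfsg.Agent.H420.QR

universe u w

theorem count {J U : Finset ℕ} {R : ℕ → ℕ → Bool} {big : ℕ → Bool} {c : ℕ} (hJ : J ⊆ U)
    (hR : ∀ a ∈ J, ∀ i ∈ J, a ≠ i → R a i = true) (h1 : (U.filter (fun i => big i = true)).card < c)
    (h2 : ∀ a ∈ U, big a = false → (U.filter (fun i => i ≠ a ∧ R a i = true)).card + 1 < c) : J.card < c := by
  by_cases h : ∀ a ∈ J, big a = true
  · exact lt_of_le_of_lt (Finset.card_le_card (fun a ha => Finset.mem_filter.2 ⟨hJ ha, h a ha⟩)) h1
  · push Not at h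
    obtain ⟨a, ha, hb⟩ := h
    have hb' : big a = false := by simpa using hb
    have h3 := h2 a (hJ ha) hb'
    have h4 : J.erase a ⊆ U.filter (fun i => i ≠ a ∧ R a i = true) := by
      intro i hi
      obtain ⟨hia, hiJ⟩ := Finset.mem_erase.1 hi
      exact Finset.mem_filter.2 ⟨hJ hiJ, hia, hR a ha i hiJ hia.symm⟩
    have h5 := Finset.card_le_card h4
    rw [Finset.card_erase_of_mem ha] at h5
    omega

/-- the classes -/
def UBn (m : ℕ) : Finset ℕ := (Finset.range (2 * m + 1)).filter (fun i => 3 ≤ i ∧ eta i ≤ m)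
def UPn (m : ℕ) : Finset ℕ := (Finset.range (2 * m + 1)).filter (fun i => 3 ≤ i ∧ (eta i + 1 ≤ m ∨ (i = m ∧ m % 2 = 1)))
def UMn (m : ℕ) : Finset ℕ := (Finset.range (2 * m + 1)).filter (fun i => 3 ≤ i ∧ (eta i + 1 ≤ m ∨ i = 2 * m))
def UAn (m : ℕ) : Finset ℕ := (Finset.range (m + 1)).filter (fun i => 3 ≤ i)
def RB (m a i : ℕ) : Bool := decide (m < eta a + eta i)
def RP (m a i : ℕ) : Bool := decide (m < eta a + eta i) || (decide (m = eta a + eta i) && decide ((a + i) % 2 = 1))
def RM (m a i : ℕ) : Bool := decide (m < eta a + eta i) || (decide (m = eta a + eta i) && decide ((a + i) % 2 = 0))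
def RA (m a i : ℕ) : Bool := decide (m < a + i) && !decide (a ∣ i) && !decide (i ∣ a)
def bB (m a : ℕ) : Bool := decide (m < 2 * eta a)
def bA (m a : ℕ) : Bool := decide (m < 2 * a)

def okB (U : ℕ → Finset ℕ) (R : ℕ → ℕ → ℕ → Bool) (b : ℕ → ℕ → Bool) (m c : ℕ) : Prop :=
  ((U m).filter (fun i => b m i = true)).card < c ∧
    ∀ a ∈ U m, b m a = false → ((U m).filter (fun i => i ≠ a ∧ R m a i = true)).card + 1 < c

instance (U : ℕ → Finset ℕ) (R : ℕ → ℕ → ℕ → Bool) (b : ℕ → ℕ → Bool) (m c : ℕ) : Decidable (okB U R b m c) := by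
  unfold okB; infer_instance

theorem ok_B5 : ∀ m < 5, okB UBn RB bB m 5 := by decide +kernel
theorem ok_P5 : ∀ m < 6, okB UPn RP bB m 5 := by decide +kernel
theorem ok_M5 : ∀ m < 6, okB UMn RM bB m 5 := by decide +kernel
theorem ok_B9 : ∀ m < 11, okB UBn RB bB m 9 := by decide +kernel
theorem ok_P9 : ∀ m < 11, okB UPn RP bB m 9 := by decide +kernel
theorem ok_M9 : ∀ m < 11, okB UMn RM bB m 9 := by decide +kernel
theorem ok_A : ∀ m < 17, okB UAn RA bA m ((m + 1) / 2 + 1) := by decide +kernel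

/-- a coclique of classes -/
def Coc (t : Fam) (J : Finset ℕ) : Prop :=
  (∀ a ∈ J, 3 ≤ a ∧ mem t a) ∧ ∀ a ∈ J, ∀ i ∈ J, a ≠ i → na t a i

theorem le_two_eta (i : ℕ) : i ≤ 2 * eta i := by
  rcases eta_cases i with ⟨h1, h2⟩ | ⟨h1, h2⟩ <;> omega

theorem coc_B {t : Fam} {m : ℕ} (ht : t = .psp m ∨ t = .oodd m) {J : Finset ℕ} (hJ : Coc t J) {c : ℕ}
    (ok : okB UBn RB bB m c) : J.card < c := by
  obtain ⟨h1, h2⟩ := hJ
  have hm : ∀ i, mem t i → eta i ≤ m := by
    intro i hi
    rcases ht with rfl | rfl <;> exact hi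
  have hn : ∀ a i, na t a i → m < eta a + eta i := by
    intro a i hi
    rcases ht with rfl | rfl <;> exact hi.1
  refine count (U := UBn m) (R := RB m) (big := bB m) (fun i hi => ?_) (fun a ha i hi hai => ?_) ok.1 ok.2
  · obtain ⟨h3, h4⟩ := h1 i hi
    have := hm i h4
    have := le_two_eta i
    simp only [UBn, Finset.mem_filter, Finset.mem_range]
    omega
  · have := hn a i (h2 a ha i hi hai)
    simp [RB, this]

theorem coc_P {m : ℕ} {J : Finset ℕ} (hJ : Coc (.oplus m) J) {c : ℕ} (ok : okB UPn RP bB m c) : J.card < c := by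
  obtain ⟨h1, h2⟩ := hJ
  refine count (U := UPn m) (R := RP m) (big := bB m) (fun i hi => ?_) (fun a ha i hi hai => ?_) ok.1 ok.2
  · obtain ⟨h3, h4⟩ := h1 i hi
    have h5 : eta i + 1 ≤ m ∨ (i = m ∧ m % 2 = 1) := h4
    have := le_two_eta i
    simp only [UPn, Finset.mem_filter, Finset.mem_range]
    omega
  · have h3 : (m < eta a + eta i ∨ (m = eta a + eta i ∧ (a + i) % 2 = 1)) := (h2 a ha i hi hai).1
    simp only [RP, Bool.or_eq_true, Bool.and_eq_true, decide_eq_true_eq]
    exact h3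

theorem coc_M {m : ℕ} {J : Finset ℕ} (hJ : Coc (.ominus m) J) {c : ℕ} (ok : okB UMn RM bB m c) : J.card < c := by
  obtain ⟨h1, h2⟩ := hJ
  refine count (U := UMn m) (R := RM m) (big := bB m) (fun i hi => ?_) (fun a ha i hi hai => ?_) ok.1 ok.2
  · obtain ⟨h3, h4⟩ := h1 i hi
    have h5 : eta i + 1 ≤ m ∨ i = 2 * m := h4
    have := le_two_eta i
    simp only [UMn, Finset.mem_filter, Finset.mem_range]
    omega
  · have h3 : (m < eta a + eta i ∨ (m = eta a + eta i ∧ (a + i) % 2 = 0)) := (h2 a ha i hi hai).1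
    simp only [RM, Bool.or_eq_true, Bool.and_eq_true, decide_eq_true_eq]
    exact h3

theorem coc_A {t : Fam} {m : ℕ} (ht : t = .psl m ∨ t = .psu m) {J : Finset ℕ} (hJ : Coc t J) {c : ℕ}
    (ok : okB UAn RA bA m c) : J.card < c := by
  obtain ⟨h1, h2⟩ := hJ
  have hm : ∀ i, mem t i → i ≤ m := by
    intro i hi
    rcases ht with rfl | rfl <;> exact hi
  have hn : ∀ a i, na t a i → m < a + i ∧ ¬ a ∣ i ∧ ¬ i ∣ a := by
    intro a i hi
    rcases ht with rfl | rfl <;> exact hi
  refine count (U := UAn m) (R := RA m) (big := bA m) (fun i hi => ?_) (fun a ha i hi hai => ?_) ok.1 ok.2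
  · obtain ⟨h3, h4⟩ := h1 i hi
    have := hm i h4
    simp only [UAn, Finset.mem_filter, Finset.mem_range]
    omega
  · obtain ⟨g1, g2, g3⟩ := hn a i (h2 a ha i hi hai)
    simp [RA, g1, g2, g3]

/-- **The rank and the cocliques.** -/
theorem coc_rank {t : Fam} (hc : Classical t) {J : Finset ℕ} (hJ : Coc t J) :
    ((∃ m, t = .psp m ∨ t = .oodd m) → (5 ≤ J.card → 5 ≤ rk t) ∧ (9 ≤ J.card → 11 ≤ rk t)) ∧
    ((∃ m, t = .oplus m ∨ t = .ominus m) → (5 ≤ J.card → 6 ≤ rk t) ∧ (9 ≤ J.card → 11 ≤ rk t)) ∧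
    ((∃ m, t = .psl m ∨ t = .psu m) → 17 ≤ rk t ∨ J.card ≤ (rk t + 1) / 2) := by
  refine ⟨?_, ?_, ?_⟩
  · rintro ⟨m, ht⟩
    have hr : rk t = m := by rcases ht with rfl | rfl <;> rfl
    rw [hr]
    constructor
    · intro h5
      by_contra hcon
      have := coc_B ht hJ (ok_B5 m (by omega))
      omega
    · intro h5
      by_contra hcon
      have := coc_B ht hJ (ok_B9 m (by omega))
      omega
  · rintro ⟨m, rfl | rfl⟩
    · constructor
      · intro h5
        by_contra hcon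
        have h6 : ¬ 6 ≤ m := hcon
        have := coc_P hJ (ok_P5 m (by omega))
        omega
      · intro h5
        by_contra hcon
        have h6 : ¬ 11 ≤ m := hcon
        have := coc_P hJ (ok_P9 m (by omega))
        omega
    · constructor
      · intro h5
        by_contra hcon
        have h6 : ¬ 6 ≤ m := hcon
        have := coc_M hJ (ok_M5 m (by omega))
        omega
      · intro h5
        by_contra hcon
        have h6 : ¬ 11 ≤ m := hcon
        have := coc_M hJ (ok_M9 m (by omega))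
        omega
  · rintro ⟨m, ht⟩
    have hr : rk t = m := by rcases ht with rfl | rfl <;> rfl
    rw [hr]
    by_contra hcon
    have := coc_A ht hJ (ok_A m (by omega))
    omega

section

variable {t : Fam} {p f : ℕ} {L : Type w} [Group L] [Finite L] {G : Type u} [Group G] [Finite G]
variable {K : Subgroup G} [K.Normal] {S : Subgroup (G ⧸ K)} [S.Normal]
variable {t' : Fam} {v f' : ℕ}

/-- **A coclique of `L` gives one of `S`.** -/
theorem coc_S (h : LS t p f L G) (hF : Frm G K S t' v f') (hS : BigS t') {I : Finset ℕ} (h5 : 5 ≤ I.card)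
    (hna : ∀ j ∈ I, ∀ k ∈ I, j ≠ k → na t j k)
    (hI : ∀ j ∈ I, ∃ r, In t (p ^ f) j r ∧ r ≠ v ∧ r ∣ Nat.card S) : ∃ J : Finset ℕ, J.card = I.card ∧ Coc t' J := by
  classical
  choose! x hx using hI
  have hinj : ∀ j ∈ I, ∀ k ∈ I, j ≠ k → x j ≠ x k := fun j hj k hk hjk =>
    (hx j hj).1.ne (hx k hk).1 hjk
  have hreg : ∀ j ∈ I, 3 ≤ cls t' (v ^ f') (x j) := by
    intro j hj
    by_contra hcon
    have hinj' : Set.InjOn x ((I.erase j : Finset ℕ) : Set ℕ) := by
      intro a ha b hb hab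
      by_contra hne
      exact hinj a (Finset.mem_of_mem_erase ha) b (Finset.mem_of_mem_erase hb) hne hab
    have hcard : ((I.erase j).image x).card = (I.erase j).card := Finset.card_image_of_injOn hinj'
    have h1 := hF.irr_few hS (hx j hj).1.prime (hx j hj).1.ne_two (hx j hj).2.1 (by omega) (X := (I.erase j).image x) (by
      intro y hy
      obtain ⟨k, hk, rfl⟩ := Finset.mem_image.1 hy
      obtain ⟨hkj, hkI⟩ := Finset.mem_erase.1 hk
      exact ⟨(hx k hkI).1.prime, (hx k hkI).1.five, hinj j hj k hkI hkj.symm, (hx k hkI).2.2⟩) (by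
      intro y hy
      obtain ⟨k, hk, rfl⟩ := Finset.mem_image.1 hy
      obtain ⟨hkj, hkI⟩ := Finset.mem_erase.1 hk
      exact h.not_adj_S (hx j hj).1 (hx k hkI).1 (hna j hj k hkI hkj.symm)) (by
      intro y hy y' hy' hne
      obtain ⟨k, hk, rfl⟩ := Finset.mem_image.1 hy
      obtain ⟨l, hl, rfl⟩ := Finset.mem_image.1 hy'
      have hkI := Finset.mem_of_mem_erase hk
      have hlI := Finset.mem_of_mem_erase hl
      exact h.not_adj_S (hx k hkI).1 (hx l hlI).1 (hna k hkI l hlI (fun hkl => hne (by rw [hkl]))))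
    rw [hcard, Finset.card_erase_of_mem hj] at h1
    omega
  have hm : ∀ j ∈ I, mem t' (cls t' (v ^ f') (x j)) := fun j hj =>
    hF.mem_cls (hx j hj).1.prime (hx j hj).1.ne_two (hx j hj).2.2 (hreg j hj)
  have hnaS : ∀ j ∈ I, ∀ k ∈ I, j ≠ k → na t' (cls t' (v ^ f') (x j)) (cls t' (v ^ f') (x k)) := by
    intro j hj k hk hjk
    by_contra hcon
    refine h.not_adj_S (S := S) (hx j hj).1 (hx k hk).1 (hna j hj k hk hjk) ?_
    exact ((adjFacts hF.cla hF.prime hF.is).adj (x j) (x k) (hx j hj).1.prime (hx k hk).1.prime (hx j hj).1.ne_two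
      (hx k hk).1.ne_two (hinj j hj k hk hjk)
      (fun hd => (hx j hj).2.1 ((Nat.prime_dvd_prime_iff_eq (hx j hj).1.prime hF.prime).1 hd))
      (fun hd => (hx k hk).2.1 ((Nat.prime_dvd_prime_iff_eq (hx k hk).1.prime hF.prime).1 hd))
      (hreg j hj) (hreg k hk) (hm j hj) (hm k hk)).2 hcon
  refine ⟨I.image (fun j => cls t' (v ^ f') (x j)), ?_, ?_, ?_⟩
  · apply Finset.card_image_of_injOn
    intro j hj k hk hjk
    by_contra hne
    exact na_ne (hnaS j hj k hk hne) hjk
  · intro a ha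
    obtain ⟨j, hj, rfl⟩ := Finset.mem_image.1 ha
    exact ⟨hreg j hj, hm j hj⟩
  · intro a ha b hb hab
    obtain ⟨j, hj, rfl⟩ := Finset.mem_image.1 ha
    obtain ⟨k, hk, rfl⟩ := Finset.mem_image.1 hb
    exact hnaS j hj k hk (fun h => hab (by rw [h]))

theorem big_CE {n j : ℕ} {t : Fam} (ht : t = .psp n ∨ t = .oodd n) (h3 : 3 ≤ j) (h1 : n < 2 * eta j) (h2 : eta j ≤ n) :
    j ∈ BigF t := by
  rcases ht with rfl | rfl <;> exact mem_BigF.2 ⟨h3, h2, h1⟩

theorem card_BigF_CE (ht : CE t) : (8 ≤ rk t → 6 ≤ (BigF t).card) ∧ (10 ≤ rk t → 7 ≤ (BigF t).card) ∧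
    (12 ≤ rk t → 9 ≤ (BigF t).card) := by
  classical
  obtain ⟨n, ht, hn, hn2⟩ := ht
  have hr : rk t = n := by rcases ht with rfl | rfl <;> rfl
  rw [hr]
  have ke : ∀ j, n < 2 * j → j ≤ n → 2 * j ∈ BigF t := fun j h1 h2 =>
    big_CE ht (by omega) (by rw [eta_two_mul']; exact h1) (by rw [eta_two_mul']; exact h2)
  have ko : ∀ j, j % 2 = 1 → n < 2 * j → j ≤ n → j ∈ BigF t := fun j hj h1 h2 =>
    big_CE ht (by omega) (by rw [eta_odd hj]; exact h1) (by rw [eta_odd hj]; exact h2)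
  refine ⟨fun h => ?_, fun h => ?_, fun h => ?_⟩
  · have h1 : ({2 * n, n - 1, 2 * (n - 1), 2 * (n - 2), n - 3, 2 * (n - 3)} : Finset ℕ) ⊆ BigF t := by
      intro x hx
      simp only [Finset.mem_insert, Finset.mem_singleton] at hx
      rcases hx with rfl | rfl | rfl | rfl | rfl | rfl
      · exact ke _ (by omega) (by omega)
      · exact ko _ (by omega) (by omega) (by omega)
      · exact ke _ (by omega) (by omega)
      · exact ke _ (by omega) (by omega)
      · exact ko _ (by omega) (by omega) (by omega)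
      · exact ke _ (by omega) (by omega)
    refine le_trans (le_of_eq ?_) (Finset.card_le_card h1)
    symm
    repeat rw [Finset.card_insert_of_notMem (by simp only [Finset.mem_insert, Finset.mem_singleton]; omega)]
    rw [Finset.card_singleton]
  · have h1 : ({2 * n, n - 1, 2 * (n - 1), 2 * (n - 2), n - 3, 2 * (n - 3), 2 * (n - 4)} : Finset ℕ) ⊆ BigF t := by
      intro x hx
      simp only [Finset.mem_insert, Finset.mem_singleton] at hx
      rcases hx with rfl | rfl | rfl | rfl | rfl | rfl | rfl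
      · exact ke _ (by omega) (by omega)
      · exact ko _ (by omega) (by omega) (by omega)
      · exact ke _ (by omega) (by omega)
      · exact ke _ (by omega) (by omega)
      · exact ko _ (by omega) (by omega) (by omega)
      · exact ke _ (by omega) (by omega)
      · exact ke _ (by omega) (by omega)
    refine le_trans (le_of_eq ?_) (Finset.card_le_card h1)
    symm
    repeat rw [Finset.card_insert_of_notMem (by simp only [Finset.mem_insert, Finset.mem_singleton]; omega)]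
    rw [Finset.card_singleton]
  · have h1 : ({2 * n, n - 1, 2 * (n - 1), 2 * (n - 2), n - 3, 2 * (n - 3), 2 * (n - 4), n - 5, 2 * (n - 5)} : Finset ℕ) ⊆
        BigF t := by
      intro x hx
      simp only [Finset.mem_insert, Finset.mem_singleton] at hx
      rcases hx with rfl | rfl | rfl | rfl | rfl | rfl | rfl | rfl | rfl
      · exact ke _ (by omega) (by omega)
      · exact ko _ (by omega) (by omega) (by omega)
      · exact ke _ (by omega) (by omega)
      · exact ke _ (by omega) (by omega)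
      · exact ko _ (by omega) (by omega) (by omega)
      · exact ke _ (by omega) (by omega)
      · exact ke _ (by omega) (by omega)
      · exact ko _ (by omega) (by omega) (by omega)
      · exact ke _ (by omega) (by omega)
    refine le_trans (le_of_eq ?_) (Finset.card_le_card h1)
    symm
    repeat rw [Finset.card_insert_of_notMem (by simp only [Finset.mem_insert, Finset.mem_singleton]; omega)]
    rw [Finset.card_singleton]

/-- **The rank of `S`.** -/
theorem rank_S (h : LS t p f L G) (hR : Red G K S) (hF : Frm G K S t' v f') (hp2 : p ≠ 2) (ht : CE t) :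
    ((∃ m, t' = .psp m ∨ t' = .oodd m) → 5 ≤ rk t' ∧ (12 ≤ rk t → 11 ≤ rk t')) ∧
    ((∃ m, t' = .oplus m ∨ t' = .ominus m) → 6 ≤ rk t' ∧ (12 ≤ rk t → 11 ≤ rk t')) ∧
    ((∃ m, t' = .psl m ∨ t' = .psu m) → 9 ≤ rk t' ∧ (rk t ≤ 10 → rk t + 3 ≤ rk t') ∧ (12 ≤ rk t → 17 ≤ rk t')) := by
  have hS := h.bigS_CE hR hF hp2 ht
  obtain ⟨hn, hn2⟩ := ht.rk6
  -- the coclique `JJ`
  obtain ⟨J1, hJ1, hJ1'⟩ := coc_S h hF hS (I := JJ (rk t)) (by rw [card_JJ hn hn2]) ht.coq (fun j hj => by
    obtain ⟨r, hr⟩ := h.exists_J hp2 ht hj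
    exact ⟨r, hr, h.ne_v_J hR hF hp2 ht hj hr.prime hr.cls_eq, (h.good_J hR hF hp2 ht hj hr.prime hr.cls_eq).2⟩)
  rw [card_JJ hn hn2] at hJ1
  have k1 := coc_rank hF.cla hJ1'
  rw [hJ1] at k1
  -- the coclique of the big classes
  have k2 : 8 ≤ rk t → ∃ J : Finset ℕ, J.card = (BigF t).card ∧ Coc t' J := by
    intro h8
    have h5 : Five t := by
      rcases ht.cases with ⟨h5, -⟩ | ⟨h6, -⟩
      · exact h5
      · exfalso
        obtain ⟨n, rfl | rfl, -⟩ := ht
        · rcases h6 with h | h <;> rw [show rk (.psp n) = n from rfl] at h8 <;> omega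
        · rcases h6 with h | h <;> rw [show rk (.oodd n) = n from rfl] at h8 <;> omega
    refine coc_S h hF hS ((card_BigF h5)) (fun j hj k hk hjk => na_of_big h.cla (mem_BigF.1 hj) (mem_BigF.1 hk) hjk)
      (fun j hj => ?_)
    have hb := mem_BigF.1 hj
    obtain ⟨r, hr⟩ := exists_in h (h.q_three hp2) hb.1 hb.2.1
    exact ⟨r, hr, h.big_ne_v hR hF h5 (ht.fldOk _) hb hr.prime hr.cls_eq,
      (h.good_big hR hF h5 (ht.fldOk _) hb hr.prime hr.cls_eq).2⟩
  obtain ⟨c6, c7, c9⟩ := card_BigF_CE ht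
  refine ⟨fun hm => ⟨(k1.1 hm).1 le_rfl, fun h12 => ?_⟩, fun hm => ⟨(k1.2.1 hm).1 le_rfl, fun h12 => ?_⟩,
    fun hm => ⟨?_, fun h10 => ?_, fun h12 => ?_⟩⟩
  · obtain ⟨J, hJ, hJ'⟩ := k2 (by omega)
    exact ((coc_rank hF.cla hJ').1 hm).2 (by rw [hJ]; exact c9 h12)
  · obtain ⟨J, hJ, hJ'⟩ := k2 (by omega)
    exact ((coc_rank hF.cla hJ').2.1 hm).2 (by rw [hJ]; exact c9 h12)
  · have := k1.2.2 hm
    omega
  · have h1 := k1.2.2 hm
    rcases (show rk t = 6 ∨ 8 ≤ rk t by omega) with h6 | h8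
    · omega
    · obtain ⟨J, hJ, hJ'⟩ := k2 (by omega)
      have h3 := (coc_rank hF.cla hJ').2.2 hm
      have c6 := c6 h8
      rcases (show rk t = 8 ∨ rk t = 10 by omega) with h4 | h4
      · omega
      · have c7 := c7 (by omega)
        omega
  · obtain ⟨J, hJ, hJ'⟩ := k2 (by omega)
    have h3 := (coc_rank hF.cla hJ').2.2 hm
    have c9 := c9 h12
    omega

end

end Cfsg.Agent.R2.Spec.X5
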