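import Cfsg.Agent.R2.Spec.X5.NoB

/-!
# S3435, box X5 (helper12): `S` of type `A`, `v ∤ (q ^ n + 1) / 2`
-/

set_option autoImplicit false
set_option linter.unusedSectionVars false
set_option linter.unusedVariables false

namespace Cfsg.Agent.R2.Spec.X5

open Subgroup Cfsg
open Cfsg.Agent.H426.LieFam Cfsg.Agent.R2.Spec Cfsg.Agent.R2.Spec.P1 Cfsg.Agent.R2.Spec.F1
open Cfsg.Agent.H420.QR Cfsg.Agent.R2.Spec.P1.Eig Cfsg.Agent.H403.NumTop

universe u w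

variable {t : Fam} {p f : ℕ} {L : Type w} [Group L] [Finite L] {G : Type u} [Group G] [Finite G]
variable {K : Subgroup G} [K.Normal] {S : Subgroup (G ⧸ K)} [S.Normal]
variable {t' : Fam} {v f' : ℕ}

theorem IsA.rk {t : Fam} {m : ℕ} {e : Bool} (h : IsA t m e) : rk t = m := by
  cases t with
  | psl n => exact h.1
  | psu n => exact h.1
  | _ => exact h.elim

theorem IsA.wt {t : Fam} {m : ℕ} {e : Bool} (h : IsA t m e) (j : ℕ) : wt t j = j := by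
  cases t with
  | psl n => rfl
  | psu n => rfl
  | _ => exact h.elim

theorem IsA.mem_le {t : Fam} {m : ℕ} {e : Bool} (h : IsA t m e) {j : ℕ} (hj : mem t j) : j ≤ m := by
  cases t with
  | psl n => obtain ⟨rfl, -⟩ := h; exact hj
  | psu n => obtain ⟨rfl, -⟩ := h; exact hj
  | _ => exact h.elim

theorem IsA.top_of {t : Fam} {m : ℕ} {e : Bool} (h : IsA t m e) {j : ℕ} (h3 : 3 ≤ j) (hj : j = m ∨ j + 1 = m) :
    P1.top t j := by
  cases t with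
  | psl n => obtain ⟨rfl, -⟩ := h; exact ⟨h3, hj⟩
  | psu n => obtain ⟨rfl, -⟩ := h; exact ⟨h3, hj⟩
  | _ => exact h.elim

theorem IsA.sg {t : Fam} {m : ℕ} {e : Bool} (h : IsA t m e) (u : ℕ) : sg t u = xv e u := by
  cases t with
  | psl n => obtain ⟨-, rfl⟩ := h; simp [Cfsg.Agent.R2.Spec.sg, xv]
  | psu n => obtain ⟨-, rfl⟩ := h; simp [Cfsg.Agent.R2.Spec.sg, xv]
  | _ => exact h.elim

/-- the primes of a regular class do not divide `y - 1` -/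
theorem not_dvd_AA_one {t : Fam} {m : ℕ} {e : Bool} (ht : IsA t m e) {u r : ℕ} (hu : 1 ≤ u)
    (h3 : 3 ≤ cls t u r) : ¬ r ∣ AA e 1 u := by
  intro hd
  have h1 : (r : ℤ) ∣ xv e u - 1 := by
    have h2 : (r : ℤ) ∣ ((AA e 1 u : ℕ) : ℤ) := by exact_mod_cast hd
    rcases AA_eq (e := e) (i := 1) hu with h | h
    · rw [h, pow_one] at h2
      exact h2
    · rw [h, pow_one, dvd_neg] at h2
      exact h2
  have h2 : ((sg t u : ℤ) : ZMod r) = 1 := by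
    rw [ht.sg]
    have := (ZMod.intCast_zmod_eq_zero_iff_dvd _ _).2 h1
    push_cast at this
    linear_combination this
  have h4 : cls t u r = 1 := by
    unfold cls
    rw [h2, orderOf_one]
  omega

theorem sgA (h : LS t p f L G) (hL : Fam.Is p f L t) (hR : Red G K S) (hF : Frm G K S t' v f') (hp2 : p ≠ 2)
    (ht : CE t) {m : ℕ} {e : Bool} (hA : IsA t' m e) {h0 w0 : ℕ} (hT : TopD t p f t' v f' S h0 w0) {δ : ℤ}
    (hδ : δ = 1 ∨ δ = -1) :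
    ∃ k, SgA (p ^ f) (rk t) (v ^ f') m (cls t' (v ^ f') w0) e δ k := by
  obtain ⟨hn, hn2⟩ := ht.rk6
  have hq3 := h.q_three hp2
  have hqo : Odd (p ^ f) := Nat.odd_iff.2 (h.q_odd hp2)
  have hS := h.bigS_CE hR hF hp2 ht
  have hm3 : 3 ≤ m := by
    have := (rk_of_bigS hF hS).1
    rw [hA.rk] at this
    exact this
  have hu2 : 2 ≤ v ^ f' := hF.prime.two_le.trans (Nat.le_self_pow hF.f_ne v)
  have hJ := icl_JJ (δ := δ) hn
  have hJ0 : 2 * rk t ∈ JJ (rk t) := by rw [mem_JJ]; omega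
  obtain ⟨w, hw⟩ := h.exists_J hp2 ht hJ
  have hwp := hw.prime
  have hwc := hw.cls_eq
  have hw5 := hw.five
  have hwv := h.ne_v_J hR hF hp2 ht hJ hwp hwc
  have hwS := (h.good_J hR hF hp2 ht hJ hwp hwc).2
  have hwv' : ¬ w ∣ v := fun hd => hwv ((Nat.prime_dvd_prime_iff_eq hwp hF.prime).1 hd)
  obtain ⟨hj3, hjb⟩ := h.nl hL hR hF hp2 ht (icl_or hn) hwp hwc
  have hjm := hF.mem_cls hwp hw.ne_two hwS hj3
  have hwA := not_dvd_AA_one hA (by omega : 1 ≤ v ^ f') hj3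
  obtain ⟨j, hj⟩ : ∃ j, j = cls t' (v ^ f') w := ⟨_, rfl⟩
  obtain ⟨c, hc⟩ : ∃ c, c = cls t' (v ^ f') w0 := ⟨_, rfl⟩
  have hcj : j ≠ c := by
    rw [hj, hc]
    refine cls_ne h hR hF hp2 ht hJ hJ0 ?_ hwp hwc hT.wp hT.wc
    rcases icl_or (δ := δ) hn with h1 | h1 <;> omega
  have hTF := top_facts_all hF.cla hF.prime hF.is
  obtain ⟨xw, hxw⟩ : ∃ x : S, orderOf x = w := by
    have := Fact.mk hwp
    obtain ⟨x, hx⟩ := exists_prime_orderOf_dvd_card' (G := S) w hwS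
    exact ⟨x, hx⟩
  have hwT : w ∣ tnum t' (v ^ f') j := by
    rw [hj]
    have := (torFacts hF.cla hF.prime hF.is).big w 1 hwp hw.ne_two hwv' hj3 hjm hjb ⟨xw, by rw [hxw, pow_one]⟩
    rwa [pow_one] at this
  rw [tnum_A hA] at hwT
  rw [hA.rk, hA.wt, ← hj] at hjb
  rw [← hj] at hj3 hjm
  have hkm := hA.mem_le hjm
  have hcop : ∀ N c1 : ℕ, w ∣ N * c1 → c1 ∣ Nat.gcd m (AA e 1 (v ^ f')) → w ∣ N := by
    intro N c1 h1 h2
    rcases hwp.dvd_mul.1 h1 with h3 | h3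
    · exact h3
    · exact absurd ((h3.trans h2).trans (Nat.gcd_dvd_right _ _)) hwA
  -- the primitive part
  have hsc := h.sc hL hR hF hp2 ht (icl_or (δ := δ) hn)
  have hposAA : 0 < AA e j (v ^ f') := by
    rw [AA_AN]
    exact AN_pos' (by omega) hu2
  have hgpos : 0 < Nat.gcd m (AA e 1 (v ^ f')) := Nat.gcd_pos_of_pos_left _ (by omega)
  have prim : ∀ R : ℕ, Odd R → R ∣ AN δ (rk t - 1) (p ^ f) →
      (∀ r : ℕ, r.Prime → r ∣ R → orderOf ((p ^ f : ℕ) : ZMod r) = if δ = 1 then rk t - 1 else 2 * (rk t - 1)) →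
      AA e 1 (v ^ f') * R ≤ (v ^ f') ^ j + 1 := by
    intro R hRo hR1 hR2
    obtain ⟨j', g1, g2, g3, g4, g5⟩ := hsc
    have hjj : j' = j := by rw [hj, g4 w hwp hwc]
    obtain ⟨g6, g7⟩ := exists_prim ht hδ hq3 hqo hR1 hR2
    have g8 := (g5 R hRo g6 g7).2
    rw [hjj, tnum_A hA] at g8
    have g9 : Nat.Coprime (AA e 1 (v ^ f')) R := by
      by_contra hcon
      obtain ⟨r, hr, k1, k2⟩ := Nat.Prime.not_coprime_iff_dvd.1 hcon
      have k3 := g4 r hr (g7 r hr k2)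
      exact not_dvd_AA_one hA (by omega : 1 ≤ v ^ f') (by rw [k3]; exact g1) k1
    have g10 : AA e 1 (v ^ f') ∣ AA e j (v ^ f') := (Dvd.intro _ rfl).trans (AA_dvd (e := e) (m := j) (by omega))
    have g11 := Nat.le_of_dvd hposAA (g9.mul_dvd_of_dvd_of_dvd g10 g8)
    rw [AA_AN e j] at g11
    exact g11.trans (AN_le (sA_pm e j) _ _)
  refine ⟨j, ⟨by omega, hkm, by rw [← hc]; exact hcj, fun h1 => ?_, fun h1 => ?_, fun h1 => ?_, fun b hb hkb => ?_,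
    fun h6 => ?_, fun h8 => ?_, fun h10 => ?_⟩⟩
  · obtain ⟨x, c1, h3, h4, h5⟩ := torL_one (k := j) hF.is hA hm3 (by omega) (by omega)
    rw [h5 h1, mul_one] at h3
    obtain ⟨κ, k1, k2, k3⟩ := winS h hL hp2 ht hδ hwp hwc (N := orderOf x) ⟨x, rfl⟩ (by rw [h3]; exact hwT)
    rw [h3] at k3
    exact ⟨κ, k1, k2, k3⟩
  · obtain ⟨x, c1, h3, h4, h5⟩ := torL_one (k := j) hF.is hA hm3 (by omega) (by omega)
    obtain ⟨κ, k1, k2, k3⟩ := winS h hL hp2 ht hδ hwp hwc (N := orderOf x) ⟨x, rfl⟩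
      (hcop _ c1 (by rw [h3]; exact hwT) h4)
    exact ⟨orderOf x, κ, c1, Nat.le_of_dvd hgpos h4, h3, k1, k2, k3⟩
  · have htop := hA.top_of hj3 (Or.inl h1)
    obtain ⟨c1, g1, g2⟩ := exists_TA hA hm3 hu2 htop
    have hc1 : c1 = AA e 1 (v ^ f') * Nat.gcd m (AA e 1 (v ^ f')) := by
      rcases g2 with ⟨-, g2⟩ | ⟨g2, -⟩
      · exact g2
      · omega
    rw [mul_comm, hc1] at g1
    obtain ⟨κ, k1, k2, k3⟩ := winS h hL hp2 ht hδ hwp hwc (hTF.elt j htop) (by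
      have := hTF.ub w hwp hwv' (by rw [← hj]; exact htop) xw (by rw [hxw])
      rwa [hxw, ← hj] at this)
    exact ⟨_, κ, g1, k1, k2, k3⟩
  · obtain ⟨x, c1, h3, h4, h5⟩ := torL (k := j) (b := b) hF.is hA hm3 (by omega) hb (by omega)
    obtain ⟨κ, k1, k2, k3⟩ := winS h hL hp2 ht hδ hwp hwc (N := orderOf x) ⟨x, rfl⟩
      (hcop _ c1 (by rw [h3]; exact hwT.trans (Nat.dvd_lcm_left _ _)) h4)
    exact ⟨orderOf x, κ, c1, Nat.le_of_dvd hgpos h4, h3, k1, k2, k3⟩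
  · obtain ⟨R, r1, r2, r3, r4⟩ := exists_R5 hδ hq3 hqo
    have r5 := prim R r1 (by rw [h6]; exact r3) (by rw [h6]; exact r4)
    calc AA e 1 (v ^ f') * (2 * (p ^ f) ^ 4) ≤ AA e 1 (v ^ f') * (15 * R) := Nat.mul_le_mul_left _ r2
      _ = 15 * (AA e 1 (v ^ f') * R) := by ring
      _ ≤ _ := Nat.mul_le_mul_left _ r5
  · obtain ⟨R, r1, r2, r3, r4⟩ := exists_R7 hδ hq3 hqo
    have r5 := prim R r1 (by rw [h8]; exact r3) (by rw [h8]; exact r4)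
    calc AA e 1 (v ^ f') * (2 * (p ^ f) ^ 6) ≤ AA e 1 (v ^ f') * (21 * R) := Nat.mul_le_mul_left _ r2
      _ = 21 * (AA e 1 (v ^ f') * R) := by ring
      _ ≤ _ := Nat.mul_le_mul_left _ r5
  · obtain ⟨R, r1, r2, r3, r4⟩ := exists_R9 hδ hq3 hqo
    have r5 := prim R r1 (by rw [h10]; exact r3) (by rw [h10]; exact r4)
    calc AA e 1 (v ^ f') * (p ^ f) ^ 6 ≤ AA e 1 (v ^ f') * (4 * R) := Nat.mul_le_mul_left _ r2
      _ = 4 * (AA e 1 (v ^ f') * R) := by ring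
      _ ≤ _ := Nat.mul_le_mul_left _ r5

/-- **Family `A`.** -/
theorem noA (h : LS t p f L G) (hL : Fam.Is p f L t) (hR : Red G K S) (hF : Frm G K S t' v f') (hvp : v ≠ p)
    (hp2 : p ≠ 2) (ht : CE t) {m : ℕ} {e : Bool} (hA : IsA t' m e) (hv : ¬ v ∣ ((p ^ f) ^ rk t + 1) / 2) : False := by
  obtain ⟨h0, w0, T⟩ := exists_TopD h hL hR hF hp2 ht hv
  obtain ⟨hn, hn2⟩ := ht.rk6
  have hq3 := h.q_three hp2
  have hqo : Odd (p ^ f) := Nat.odd_iff.2 (h.q_odd hp2)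
  have hS := h.bigS_CE hR hF hp2 ht
  have hm3 : 3 ≤ m := by
    have := (rk_of_bigS hF hS).1
    rw [hA.rk] at this
    exact this
  have hf1 : 1 ≤ f' := Nat.one_le_iff_ne_zero.2 hF.f_ne
  have hu2 : 2 ≤ v ^ f' := hF.prime.two_le.trans (Nat.le_self_pow hF.f_ne v)
  obtain ⟨c0, g1, g2⟩ := exists_TA hA hm3 hu2 T.top
  obtain ⟨r1, r2, r3⟩ := rank_S h hR hF hp2 ht
  rw [hA.rk] at r3
  have hex : ∃ m, t' = .psl m ∨ t' = .psu m := by
    cases t' with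
    | psl n => exact ⟨n, Or.inl rfl⟩
    | psu n => exact ⟨n, Or.inr rfl⟩
    | _ => exact hA.elim
  obtain ⟨s1, s2, s3⟩ := r3 hex
  have hh0 := T.ho.pos
  have hfh : 1 ≤ f' / h0 := Nat.div_pos (Nat.le_of_dvd hf1 T.hf) hh0
  obtain ⟨k1, S1⟩ := sgA h hL hR hF hp2 ht hA T (δ := 1) (Or.inl rfl)
  obtain ⟨k2, S2⟩ := sgA h hL hR hF hp2 ht hA T (δ := -1) (Or.inr rfl)
  refine NA.false (v := v) (w := v ^ (f' / h0)) (h := h0) (c0 := c0)
    (P0 := ttor t' (v ^ f') (cls t' (v ^ f') w0)) ?_ S1 S2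
  refine ⟨⟨sA_pm _ _, by omega, T.l, by rw [g1, AA_AN, one_mul]⟩, hn, hn2, hq3, hqo, hF.prime, ?_, ⟨f', hf1, rfl⟩, ?_, ?_,
    T.ho, T.vh, g2, s1, s2, s3⟩
  · intro hd
    exact hvp ((Nat.prime_dvd_prime_iff_eq hF.prime h.prime).1 (hF.prime.dvd_of_dvd_pow hd))
  · rw [← pow_mul, Nat.div_mul_cancel T.hf]
  · exact hF.prime.two_le.trans (Nat.le_self_pow (by omega) v)

end Cfsg.Agent.R2.Spec.X5
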