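import Cfsg.Agent.R2.Spec.X5.BuildB

/-!
# S3435, box X5 (helper12): `S` of type `B`, `C`, `D`, `v ∤ (q ^ n + 1) / 2`
-/

set_option autoImplicit false
set_option linter.unusedSectionVars false
set_option linter.unusedVariables false

namespace Cfsg.Agent.R2.Spec.X5

open Subgroup Cfsg
open Cfsg.Agent.H426.LieFam Cfsg.Agent.R2.Spec Cfsg.Agent.R2.Spec.P1 Cfsg.Agent.R2.Spec.F1
open Cfsg.Agent.H420.QR Cfsg.Agent.R2.Spec.P1.Eig Cfsg.Agent.H403.NumTop

universe u w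

variable {t : Fam} {p f : ℕ} {L : Type w} [Group L] [Finite L] {G : Type u} [Group G] [Finite G]
variable {K : Subgroup G} [K.Normal] {S : Subgroup (G ⧸ K)} [S.Normal]
variable {t' : Fam} {v f' : ℕ}

/-- **Families `B`, `C`, `D`.** -/
theorem noB (h : LS t p f L G) (hL : Fam.Is p f L t) (hR : Red G K S) (hF : Frm G K S t' v f') (hvp : v ≠ p)
    (hp2 : p ≠ 2) (ht : CE t) {m : ℕ} (hB : IsB t' m) (hv : ¬ v ∣ ((p ^ f) ^ rk t + 1) / 2) : False := by
  obtain ⟨h0, w0, T⟩ := exists_TopD h hL hR hF hp2 ht hv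
  obtain ⟨hn, hn2⟩ := ht.rk6
  have hq3 := h.q_three hp2
  have hqo : Odd (p ^ f) := Nat.odd_iff.2 (h.q_odd hp2)
  have hS := h.bigS_CE hR hF hp2 ht
  have hm3 : 3 ≤ m := by
    have := (rk_of_bigS hF hS).1
    rw [hB.rk] at this
    exact this
  have hf1 : 1 ≤ f' := Nat.one_le_iff_ne_zero.2 hF.f_ne
  have hu2 : 2 ≤ v ^ f' := hF.prime.two_le.trans (Nat.le_self_pow hF.f_ne v)
  obtain ⟨F, c0, g1, g2, g3, g4, g5, g6⟩ := exists_TB hB hm3 hu2 T.top
  obtain ⟨r1, r2, r3⟩ := rank_S h hR hF hp2 ht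
  rw [hB.rk] at r1 r2
  have hh0 := T.ho.pos
  have hfh : 1 ≤ f' / h0 := Nat.div_pos (Nat.le_of_dvd hf1 T.hf) hh0
  have hBC : (t' = .psp m ∨ t' = .oodd m) ∨ (∃ m, t' = .oplus m ∨ t' = .ominus m) := by
    cases t' with
    | psp n => obtain rfl : n = m := hB; exact Or.inl (Or.inl rfl)
    | oodd n => obtain rfl : n = m := hB; exact Or.inl (Or.inr rfl)
    | oplus n => exact Or.inr ⟨n, Or.inl rfl⟩
    | ominus n => exact Or.inr ⟨n, Or.inr rfl⟩
    | _ => exact hB.elim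
  have hm11 : 12 ≤ rk t → 11 ≤ m := by
    intro h12
    rcases hBC with h1 | h1
    · exact (r1 ⟨m, h1⟩).2 h12
    · exact (r2 h1).2 h12
  have hk5 : 5 ≤ eta (cls t' (v ^ f') w0) := by
    rcases hBC with h1 | h1
    · have h5 := (r1 ⟨m, h1⟩).1
      have h6 : eta (cls t' (v ^ f') w0) = m := by
        have h7 := T.top
        rcases h1 with rfl | rfl
        · rcases h7 with h8 | ⟨h8, h9⟩
          · rw [h8, eta_two_mul']
          · rw [h8, eta_odd h9]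
        · rcases h7 with h8 | ⟨h8, h9⟩
          · rw [h8, eta_two_mul']
          · rw [h8, eta_odd h9]
      omega
    · have h5 := (r2 h1).1
      rcases g3 with ⟨h6, -⟩ | h6 <;> omega
  obtain ⟨k1, ε1, S1⟩ := sgB h hL hR hF hp2 ht hB T (δ := 1) (Or.inl rfl)
  obtain ⟨k2, ε2, S2⟩ := sgB h hL hR hF hp2 ht hB T (δ := -1) (Or.inr rfl)
  refine NB.false (v := v) (w := v ^ (f' / h0)) (h := h0) (F := F) (c0 := c0)
    (P0 := ttor t' (v ^ f') (cls t' (v ^ f') w0)) (ε0 := eB (cls t' (v ^ f') w0)) ?_ S1 S2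
  refine ⟨⟨eB_pm _, by omega, T.l, g1⟩, hn, hn2, hq3, hqo, hF.prime, ?_, ⟨f', hf1, rfl⟩, ?_, ?_, T.ho, T.vh, g2, g3, g4,
    fun hv2 => g5 ?_, hk5, hm11⟩
  · intro hd
    exact hvp ((Nat.prime_dvd_prime_iff_eq hF.prime h.prime).1 (hF.prime.dvd_of_dvd_pow hd))
  · rw [← pow_mul, Nat.div_mul_cancel T.hf]
  · exact hF.prime.two_le.trans (Nat.le_self_pow (by omega) v)
  · rw [hv2, pow_mod_two hf1]

end Cfsg.Agent.R2.Spec.X5
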