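import Cfsg.Agent.R2.Spec.X5.Core

/-!
# S3435, box X5 (helper12): the equality cases
-/

set_option autoImplicit false

namespace Cfsg.Agent.R2.Spec.X5

open Cfsg.Agent.R2.Spec.P1.Eig

variable {q V h F c0 P0 u k0 e1 e2 v : ℕ} {ε0 σ1 σ2 : ℤ}

/-- `v` divides `V - δ` -/
theorem Dat.v_dvd (D : Dat q V h F c0 P0 u k0 ε0) {e : ℕ} {σ δ : ℤ} (hv : v.Prime) (hvu : v ∣ u) (hvq : ¬ v ∣ q)
    (hvc : ¬ v ∣ c0) (he : 1 ≤ e) (hek : 1 ≤ k0)
    (h1 : (2 * h * F * (σ * (u : ℤ) ^ e - 1) = ε0 * c0 * (1 + δ * q))) : (v : ℤ) ∣ V - δ := by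
  have hl : (2 * h : ℤ) * P0 = q * V + 1 := by exact_mod_cast D.l
  have h2 : (ε0 * c0 : ℤ) * P0 = F * (ε0 * (u : ℤ) ^ k0 - 1) := by
    have h5 : (c0 : ℤ) * P0 = F * ((u : ℤ) ^ k0 - ε0) := by
      rw [← AN_int D.pm D.upos]
      exact_mod_cast D.s
    have h6 : ε0 * ε0 = 1 := by rcases D.pm with h | h <;> rw [h] <;> norm_num
    linear_combination ε0 * h5 + (F : ℤ) * (-1) * h6
  have h3 : (ε0 * c0 : ℤ) * (q * (V - δ)) = 2 * h * F * (ε0 * (u : ℤ) ^ k0 - σ * (u : ℤ) ^ e) := by
    linear_combination (-(ε0 * c0 : ℤ)) * hl + (2 * h : ℤ) * h2 + h1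
  have hvi : Prime (v : ℤ) := Nat.prime_iff_prime_int.1 hv
  have h4 : (v : ℤ) ∣ (ε0 * c0 : ℤ) * (q * (V - δ)) := by
    rw [h3]
    have hu : (v : ℤ) ∣ u := by exact_mod_cast hvu
    exact (dvd_sub ((hu.trans (dvd_pow_self _ (by omega))).mul_left _)
      ((hu.trans (dvd_pow_self _ (by omega))).mul_left _)).mul_left _
  rcases hvi.dvd_or_dvd h4 with h5 | h5
  · rcases hvi.dvd_or_dvd h5 with h6 | h6
    · exfalso
      rcases D.pm with h | h <;> rw [h] at h6
      · exact hvi.not_isUnit (isUnit_of_dvd_one h6)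
      · exact hvi.not_isUnit (isUnit_of_dvd_one (by simpa using h6))
    · exact absurd (by exact_mod_cast h6) hvc
  · rcases hvi.dvd_or_dvd h5 with h6 | h6
    · exact absurd (by exact_mod_cast h6) hvq
    · exact h6

/-- both equalities, `e ≥ 1` -/
theorem Dat.zero_pos (D : Dat q V h F c0 P0 u k0 ε0) (hv : v.Prime) (hvu : v ∣ u) (hvq : ¬ v ∣ q)
    (hvc : ¬ v ∣ c0) (hk : 1 ≤ k0) (hqo : Odd q) (hho : Odd h) (hFo : v = 2 → Odd F) (he1 : 1 ≤ e1) (he2 : 1 ≤ e2)
    (h1 : (2 * h * F * (σ1 * (u : ℤ) ^ e1 - 1) = ε0 * c0 * (1 + 1 * q)))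
    (h2 : (2 * h * F * (σ2 * (u : ℤ) ^ e2 - 1) = ε0 * c0 * (1 + (-1) * q))) : False := by
  have h3 := D.v_dvd hv hvu hvq hvc he1 hk h1
  have h4 := D.v_dvd hv hvu hvq hvc he2 hk h2
  have h5 : (v : ℤ) ∣ 2 := by
    have := dvd_sub h4 h3
    rwa [show ((V : ℤ) - -1) - ((V : ℤ) - 1) = 2 by ring] at this
  have hv2 : v = 2 := (Nat.prime_dvd_prime_iff_eq hv Nat.prime_two).1 (by exact_mod_cast h5)
  subst hv2
  have hFo := hFo rfl
  have hco : Odd c0 := by
    rw [← Nat.not_even_iff_odd, even_iff_two_dvd]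
    exact hvc
  have hue : Even (u : ℤ) := by
    rw [even_iff_two_dvd]
    exact_mod_cast hvu
  have key : ∀ (e : ℕ) (σ : ℤ), 1 ≤ e → Odd ((h : ℤ) * F * (σ * (u : ℤ) ^ e - 1)) := by
    intro e σ he
    have h6 : Even (σ * (u : ℤ) ^ e) := (hue.pow_of_ne_zero (by omega)).mul_left _
    have h7 : Odd (σ * (u : ℤ) ^ e - 1) := h6.sub_odd odd_one
    have h8 : Odd (h : ℤ) := by exact_mod_cast hho
    have h9 : Odd (F : ℤ) := by exact_mod_cast hFo
    exact (h8.mul h9).mul h7
  obtain ⟨m, hm⟩ := hqo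
  have hq : (q : ℤ) = 2 * m + 1 := by exact_mod_cast hm
  have hε : Odd (ε0 * c0 : ℤ) := by
    have h8 : Odd (c0 : ℤ) := by exact_mod_cast hco
    rcases D.pm with h | h <;> rw [h]
    · rwa [one_mul]
    · rw [neg_one_mul]; exact h8.neg
  have e1' : (h : ℤ) * F * (σ1 * (u : ℤ) ^ e1 - 1) = ε0 * c0 * (m + 1) := by
    rw [hq] at h1
    linarith
  have e2' : (h : ℤ) * F * (σ2 * (u : ℤ) ^ e2 - 1) = ε0 * c0 * (-m) := by
    rw [hq] at h2
    linarith
  have k1 := key e1 σ1 he1
  have k2 := key e2 σ2 he2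
  rw [e1', Int.odd_mul] at k1
  rw [e2', Int.odd_mul] at k2
  have k3 := k1.2
  have k4 := k2.2
  rw [Int.odd_iff] at k3 k4
  omega

/-- `3 ^ n - 1` is not a power of two, `n ≥ 4` even -/
theorem three_pow {n k : ℕ} (hn : Even n) (hn4 : 4 ≤ n) (h : 3 ^ n = 2 ^ k + 1) : False := by
  obtain ⟨j, hj⟩ := hn
  have h1 : (3 ^ j - 1) * (3 ^ j + 1) = 2 ^ k := by
    have h2 : 1 ≤ 3 ^ j := Nat.one_le_pow _ _ (by norm_num)
    obtain ⟨x, hx⟩ : ∃ x, 3 ^ j = x + 1 := ⟨3 ^ j - 1, by omega⟩
    rw [hj, pow_add] at h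
    rw [hx] at h ⊢
    have : x + 1 - 1 = x := by omega
    rw [this]
    nlinarith
  have h2 : 3 ^ j - 1 ∣ 2 ^ k := ⟨_, h1.symm⟩
  have h3 : 3 ^ j + 1 ∣ 2 ^ k := ⟨_, by rw [mul_comm]; exact h1.symm⟩
  obtain ⟨a, -, ha⟩ := (Nat.dvd_prime_pow Nat.prime_two).1 h2
  obtain ⟨b, -, hb⟩ := (Nat.dvd_prime_pow Nat.prime_two).1 h3
  have h9 : 3 ^ 2 ≤ 3 ^ j := Nat.pow_le_pow_right (by norm_num) (by omega)
  have h4 : 2 ^ b = 2 ^ a + 2 := by omega
  have ha2 : 2 ≤ a := by
    by_contra hcon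
    interval_cases a <;> omega
  have hb2 : 2 ≤ b := by
    by_contra hcon
    interval_cases b <;> omega
  obtain ⟨a', rfl⟩ := Nat.exists_eq_add_of_le ha2
  obtain ⟨b', rfl⟩ := Nat.exists_eq_add_of_le hb2
  rw [pow_add, pow_add] at h4
  omega

/-- both equalities, the classes of weight `k0` allowed -/
theorem Dat.zero_all (D : Dat q V h F c0 P0 u k0 ε0) {n : ℕ} (hn : Even n) (hn6 : 6 ≤ n) (hV : q * V = q ^ n)
    (hv : v.Prime) {f' : ℕ} (hvu : u = v ^ f') (hf' : 1 ≤ f') (hvq : ¬ v ∣ q)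
    (hk : 2 ≤ k0) (hqo : Odd q) (hq3 : 3 ≤ q) (hho : Odd h) (hFo : v = 2 → Odd F) (hF : 1 ≤ F)
    (hc : c0 ∣ 4) (hc2 : v = 2 → c0 = 1) (hFu : F = 1 ∨ F = u - 1 ∨ F = u + 1)
    (hσ1 : σ1 = 1 ∨ σ1 = -1) (hσ2 : σ2 = 1 ∨ σ2 = -1)
    (h1 : (2 * h * F * (σ1 * (u : ℤ) ^ e1 - 1) = ε0 * c0 * (1 + 1 * q)))
    (h2 : (2 * h * F * (σ2 * (u : ℤ) ^ e2 - 1) = ε0 * c0 * (1 + (-1) * q))) : False := by
  have hvu' : v ∣ u := by rw [hvu]; exact dvd_pow_self v (by omega)
  have hc4 : c0 = 1 ∨ c0 = 2 ∨ c0 = 4 := by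
    have h3 := Nat.le_of_dvd (by norm_num) hc
    interval_cases c0 <;> omega
  have hvc : ¬ v ∣ c0 := by
    intro hd
    have h3 : v ∣ 2 ^ 2 := hd.trans hc
    have h4 := (Nat.prime_dvd_prime_iff_eq hv Nat.prime_two).1 (hv.dvd_of_dvd_pow h3)
    rw [hc2 h4] at hd
    exact hv.one_lt.ne' (Nat.dvd_one.1 hd)
  have hu2 : 2 ≤ u := by rw [hvu]; exact hv.two_le.trans (Nat.le_self_pow (by omega) v)
  have hhpos : 1 ≤ h := hho.pos
  have hHF : 1 ≤ h * F := Nat.mul_pos hhpos hF
  have hl := D.l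
  have hs := D.s
  rw [hV] at hl
  have hue : v = 2 → Even u := fun h3 => by rw [hvu, h3]; exact (even_two).pow_of_ne_zero (by omega)
  have huo : v ≠ 2 → Odd u := fun h3 => by rw [hvu]; exact (hv.odd_of_ne_two h3).pow
  have hcz : (1 : ℤ) ≤ c0 := by rcases hc4 with h3 | h3 | h3 <;> rw [h3] <;> norm_num
  have hqz : (3 : ℤ) ≤ q := by exact_mod_cast hq3
  have hHFz : (1 : ℤ) ≤ h * F := by exact_mod_cast hHF
  rcases Nat.eq_zero_or_pos e1 with he1 | he1
  swap
  · rcases Nat.eq_zero_or_pos e2 with he2 | he2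
    swap
    · exact D.zero_pos hv hvu' hvq hvc (by omega) hqo hho hFo he1 he2 h1 h2
    · -- `e2 = 0`
      subst he2
      rw [pow_zero, mul_one] at h2
      have hσ : σ2 = -1 := by
        rcases hσ2 with h3 | h3
        · exfalso
          rw [h3] at h2
          rcases D.pm with h4 | h4 <;> rw [h4] at h2 <;> nlinarith
        · exact h3
      rw [hσ] at h2
      have hε : ε0 = 1 := by
        rcases D.pm with h4 | h4
        · exact h4
        · exfalso
          rw [h4] at h2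
          nlinarith
      rw [hε] at h1 h2 hs
      have h3 : (h : ℤ) * F * (σ1 * (u : ℤ) ^ e1 - 3) = c0 := by linarith
      have hσ' : σ1 = 1 := by
        rcases hσ1 with h4 | h4
        · exact h4
        · exfalso
          rw [h4] at h3
          have : (0 : ℤ) ≤ (u : ℤ) ^ e1 := by positivity
          nlinarith
      rw [hσ', one_mul] at h3
      have h4 : h * F * (u ^ e1) = c0 + 3 * (h * F) := by
        zify
        linarith
      have h5 : c0 ≤ 4 := by omega
      have h6 : u ^ e1 ≤ 7 := by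
        by_contra hcon
        have : h * F * 8 ≤ h * F * u ^ e1 := Nat.mul_le_mul_left _ (by omega)
        omega
      have h7 : 4 ≤ u ^ e1 := by
        by_contra hcon
        have : h * F * u ^ e1 ≤ h * F * 3 := Nat.mul_le_mul_left _ (by omega)
        omega
      have hcq : c0 * (q - 1) = 4 * (h * F) := by
        have : (c0 : ℤ) * (q - 1) = 4 * (h * F) := by linarith
        zify [show 1 ≤ q by omega]
        exact this
      rw [AN_one] at hs
      obtain ⟨y, hy⟩ : ∃ y, y = u ^ e1 := ⟨_, rfl⟩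
      rw [← hy] at h4 h6 h7
      have hup : ∀ z, y = z → z.Prime → u = z := by
        intro z hz hzp
        have h8 : u ∣ z := by rw [← hz, hy]; exact dvd_pow_self u (by omega)
        rcases (Nat.dvd_prime hzp).1 h8 with h9 | h9
        · omega
        · exact h9
      interval_cases y
      · -- `4`
        have hv2 : v = 2 := by
          by_contra h8
          have h9 := (huo h8).pow (n := e1)
          rw [← hy] at h9
          exact absurd h9 (by decide)
        have hc1 := hc2 hv2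
        have hHF1 : h * F = 1 := by omega
        have hh1 : h = 1 := Nat.eq_one_of_mul_eq_one_right hHF1
        have hF1 : F = 1 := Nat.eq_one_of_mul_eq_one_left hHF1
        have hq5 : q = 5 := by
          rw [hc1, hHF1] at hcq
          omega
        subst hq5 hh1 hF1
        rw [hc1] at hs
        obtain ⟨a, ha⟩ : (4 : ℕ) ∣ u ^ k0 := by
          obtain ⟨a, ha⟩ := (hue hv2).two_dvd
          obtain ⟨k, rfl⟩ := Nat.exists_eq_add_of_le hk
          rw [ha, pow_add]
          exact ⟨a ^ 2 * (2 * a) ^ k, by ring⟩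
        have h8 : 5 ^ n % 8 = 1 := by
          obtain ⟨j, hj⟩ := hn
          rw [hj, ← two_mul, pow_mul, Nat.pow_mod]
          norm_num
        have h9 : 0 < u ^ k0 := Nat.pow_pos (by omega)
        omega
      · -- `5`
        have hu5 := hup 5 rfl (by norm_num)
        have hc2' : c0 = 2 * (h * F) := by omega
        have hF1 : F = 1 := by
          rcases hFu with h8 | h8 | h8
          · exact h8
          · exfalso
            rw [hu5] at h8
            rw [h8] at hc2'
            omega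
          · exfalso
            rw [hu5] at h8
            rw [h8] at hc2'
            omega
        rw [hF1, mul_one] at hc2'
        have hh1 : h = 1 := by
          obtain ⟨m, hm⟩ := hho
          omega
        subst hF1 hh1
        have hc2'' : c0 = 2 := by omega
        have hq3' : q = 3 := by
          rw [hc2''] at hcq
          omega
        subst hq3'
        rw [hc2'', hu5] at hs
        have h8 : 3 ^ n % 4 = 1 := by
          obtain ⟨j, hj⟩ := hn
          rw [hj, ← two_mul, pow_mul, Nat.pow_mod]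
          norm_num
        have h9 : 5 ^ k0 % 4 = 1 := by
          rw [Nat.pow_mod]
          norm_num
        omega
      · -- `6`
        rcases hc4 with h8 | h8 | h8 <;> omega
      · -- `7`
        have hc4' : c0 = 4 := by omega
        rw [hc4'] at hcq
        have : q = 2 := by omega
        rw [this] at hqo
        exact absurd hqo (by decide)
  · -- `e1 = 0`
    subst he1
    rw [pow_zero, mul_one] at h1
    have hσ : σ1 = -1 := by
      rcases hσ1 with h3 | h3
      · exfalso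
        rw [h3] at h1
        rcases D.pm with h4 | h4 <;> rw [h4] at h1 <;> nlinarith
      · exact h3
    rw [hσ] at h1
    have hε : ε0 = -1 := by
      rcases D.pm with h4 | h4
      · exfalso
        rw [h4] at h1
        nlinarith
      · exact h4
    rw [hε] at h1 h2 hs
    have h3 : (h : ℤ) * F * (3 - σ2 * (u : ℤ) ^ e2) = c0 := by linarith
    have h3' : 2 * ((h : ℤ) * F) * (σ2 * (u : ℤ) ^ e2 - 1) = c0 * (q - 1) := by linarith
    have hpos : (1 : ℤ) < σ2 * (u : ℤ) ^ e2 := by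
      by_contra hcon
      push Not at hcon
      have : (0 : ℤ) < c0 * (q - 1) := by nlinarith
      rw [← h3'] at this
      nlinarith
    have hlt : σ2 * (u : ℤ) ^ e2 < 3 := by
      by_contra hcon
      push Not at hcon
      nlinarith
    have h4 : σ2 * (u : ℤ) ^ e2 = 2 := by omega
    have h5 : u ^ e2 = 2 := by
      rcases hσ2 with h6 | h6
      · rw [h6, one_mul] at h4
        exact_mod_cast h4
      · exfalso
        rw [h6] at h4
        have : (0 : ℤ) ≤ (u : ℤ) ^ e2 := by positivity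
        linarith
    have hu : u = 2 := by
      have he2 : e2 ≠ 0 := by
        rintro rfl
        rw [pow_zero] at h5
        omega
      have h8 : u ∣ 2 := by rw [← h5]; exact dvd_pow_self u he2
      rcases (Nat.dvd_prime Nat.prime_two).1 h8 with h9 | h9
      · omega
      · exact h9
    have hv2 : v = 2 := by
      have h8 : v ∣ 2 := by rw [← hu]; exact hvu'
      exact (Nat.prime_dvd_prime_iff_eq hv Nat.prime_two).1 h8
    have hc1 := hc2 hv2
    rw [h4, hc1] at h3
    have hHF1 : h * F = 1 := by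
      zify
      push_cast at h3
      linarith
    have hh1 : h = 1 := Nat.eq_one_of_mul_eq_one_right hHF1
    have hF1 : F = 1 := Nat.eq_one_of_mul_eq_one_left hHF1
    subst hh1 hF1
    rw [hc1] at h1
    have hq3' : q = 3 := by
      zify
      push_cast at h1
      linarith
    subst hq3'
    rw [hc1, hu, AN_neg] at hs
    exact three_pow hn (by omega) (k := k0 + 1) (by rw [pow_succ]; omega)

end Cfsg.Agent.R2.Spec.X5
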