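import Cfsg.Agent.R2.Spec.X5.SizeA
import Cfsg.Agent.R2.Spec.X5.Zero
import Cfsg.Agent.R2.Spec.X5.NumB
import Cfsg.Agent.R2.Spec.X5.FinA

/-!
# S3435, box X5 (helper12): the numbers, family `A`
-/

set_option autoImplicit false

namespace Cfsg.Agent.R2.Spec.X5

open Cfsg.Agent.R2.Spec.P1.Eig Cfsg.Agent.H403.NumTop

/-- the sign of the class `i` -/
def sA (e : Bool) (i : ℕ) : ℤ := if e || i % 2 == 0 then 1 else -1

theorem sA_pm (e : Bool) (i : ℕ) : sA e i = 1 ∨ sA e i = -1 := by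
  unfold sA
  split_ifs
  · exact Or.inl rfl
  · exact Or.inr rfl

theorem AA_AN (e : Bool) (i u : ℕ) : AA e i u = AN (sA e i) i u := by
  unfold AA sA
  split_ifs
  · rw [AN_one]
  · rw [AN_neg]

theorem gcd_AA {e : Bool} {k b u : ℕ} (hk : 1 ≤ k) (hu : 2 ≤ u) :
    Nat.gcd (AA e k u) (AA e b u) ≤ u ^ (Nat.gcd k b) + 1 := by
  obtain ⟨N, hN⟩ : ∃ N, N = Nat.gcd (AA e k u) (AA e b u) := ⟨_, rfl⟩
  have key : ∀ i, N ∣ AA e i u ↔ ((xv e u : ℤ) : ZMod N) ^ i = 1 := by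
    intro i
    rw [← ZMod.natCast_eq_zero_iff]
    rcases AA_eq (e := e) (i := i) (q := u) (by omega) with h | h
    · have h1 : ((AA e i u : ℕ) : ZMod N) = ((xv e u : ℤ) : ZMod N) ^ i - 1 := by
        have := congrArg (fun z : ℤ => (z : ZMod N)) h
        push_cast at this
        exact this
      rw [h1, sub_eq_zero]
    · have h1 : ((AA e i u : ℕ) : ZMod N) = -(((xv e u : ℤ) : ZMod N) ^ i - 1) := by
        have := congrArg (fun z : ℤ => (z : ZMod N)) h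
        push_cast at this
        rw [this]
      rw [h1, neg_eq_zero, sub_eq_zero]
  have h1 := (key k).1 (by rw [hN]; exact Nat.gcd_dvd_left _ _)
  have h2 := (key b).1 (by rw [hN]; exact Nat.gcd_dvd_right _ _)
  have h3 := (key (Nat.gcd k b)).2 (by
    rw [← orderOf_dvd_iff_pow_eq_one] at h1 h2 ⊢
    exact Nat.dvd_gcd h1 h2)
  rw [← hN]
  have hγ : 1 ≤ Nat.gcd k b := Nat.gcd_pos_of_pos_left _ hk
  have h4 : 0 < AN (sA e (Nat.gcd k b)) (Nat.gcd k b) u := by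
    have a1 := AN_ge (sA_pm e (Nat.gcd k b)) (Nat.gcd k b) (by omega : 1 ≤ u)
    have a2 : 2 ≤ u ^ (Nat.gcd k b) := le_trans hu (Nat.le_self_pow (by omega) u)
    omega
  rw [AA_AN] at h3
  exact (Nat.le_of_dvd h4 h3).trans (AN_le (sA_pm e _) _ _)

/-- **The data of one sign `δ`, family `A`** (`m` the rank of `S`). -/
structure SgA (q n u m k0 : ℕ) (e : Bool) (δ : ℤ) (k : ℕ) : Prop where
  big : m + 1 ≤ 2 * k
  le : k ≤ m
  ne : k ≠ k0
  low : k + 2 ≤ m → ∃ κ, 1 ≤ κ ∧ κ ≤ q + 1 ∧ ((AA e k u : ℕ) : ℤ) ∣ κ * ((q ^ (n - 1) : ℕ) - δ)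
  mid : k + 1 = m → ∃ T κ c1, c1 ≤ Nat.gcd m (AA e 1 u) ∧ T * c1 = AA e k u ∧ 1 ≤ κ ∧ κ ≤ q + 1 ∧
    (T : ℤ) ∣ κ * ((q ^ (n - 1) : ℕ) - δ)
  top : k = m → ∃ T κ, T * (AA e 1 u * Nat.gcd m (AA e 1 u)) = AA e k u ∧ 1 ≤ κ ∧ κ ≤ q + 1 ∧
    (T : ℤ) ∣ κ * ((q ^ (n - 1) : ℕ) - δ)
  two : ∀ b, 1 ≤ b → k + b + 1 = m → ∃ T κ c, c ≤ Nat.gcd m (AA e 1 u) ∧ T * c = Nat.lcm (AA e k u) (AA e b u) ∧
    1 ≤ κ ∧ κ ≤ q + 1 ∧ (T : ℤ) ∣ κ * ((q ^ (n - 1) : ℕ) - δ)
  sc6 : n = 6 → AA e 1 u * (2 * q ^ 4) ≤ 15 * (u ^ k + 1)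
  sc8 : n = 8 → AA e 1 u * (2 * q ^ 6) ≤ 21 * (u ^ k + 1)
  sc10 : n = 10 → AA e 1 u * q ^ 6 ≤ 4 * (u ^ k + 1)

/-- **The data, family `A`.** -/
structure NA (q n v u w h c0 P0 m k0 : ℕ) (e : Bool) : Prop where
  D : Dat q (q ^ (n - 1)) h 1 c0 P0 u k0 (sA e k0)
  n6 : 6 ≤ n
  ne : n % 2 = 0
  q3 : 3 ≤ q
  qo : Odd q
  vp : v.Prime
  vq : ¬ v ∣ q
  vu : ∃ f', 1 ≤ f' ∧ u = v ^ f'
  uw : u = w ^ h
  w2 : 2 ≤ w
  ho : Odd h
  vh : ¬ v ∣ h
  k0m : (k0 = m ∧ c0 = AA e 1 u * Nat.gcd m (AA e 1 u)) ∨ (k0 + 1 = m ∧ c0 = Nat.gcd m (AA e 1 u))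
  m9 : 9 ≤ m
  mn : n ≤ 10 → n + 3 ≤ m
  m17 : 12 ≤ n → 17 ≤ m

section

variable {q V h c0 P0 u k0 T κ c1 P k b r n v w m : ℕ} {δ : ℤ} {e : Bool}

theorem NA.facts (N : NA q n v u w h c0 P0 m k0 e) :
    2 ≤ u ∧ 1 ≤ h ∧ 1 ≤ c0 ∧ q * q ^ (n - 1) = q ^ n ∧ q ^ 6 ≤ q ^ n ∧ v ∣ u ∧ 2 ^ h ≤ u ∧
      1 ≤ Nat.gcd m (AA e 1 u) ∧ Nat.gcd m (AA e 1 u) ≤ AA e 1 u ∧ AA e 1 u ≤ u + 1 ∧ u ≤ AA e 1 u + 1 ∧
      ¬ v ∣ c0 := by
  obtain ⟨f', hf', hvu⟩ := N.vu
  have hn := N.n6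
  have hq3 := N.q3
  have hm := N.m9
  have hu2 : 2 ≤ u := by rw [hvu]; exact N.vp.two_le.trans (Nat.le_self_pow (by omega) v)
  have hvu' : v ∣ u := by rw [hvu]; exact dvd_pow_self v (by omega)
  have hd : 1 ≤ Nat.gcd m (AA e 1 u) := Nat.gcd_pos_of_pos_left _ (by omega)
  have a1 := AN_le (sA_pm e 1) 1 u
  have a2 := AN_ge (sA_pm e 1) 1 (by omega : 1 ≤ u)
  rw [← AA_AN, pow_one] at a1 a2
  have hw : 1 ≤ AA e 1 u := by omega
  have hdw : Nat.gcd m (AA e 1 u) ≤ AA e 1 u := Nat.le_of_dvd hw (Nat.gcd_dvd_right _ _)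
  have hvw : ¬ v ∣ AA e 1 u := by
    intro hd
    have hv1 := N.vp.one_lt
    have h5 : AA e 1 u = u - 1 ∨ AA e 1 u = u + 1 := by
      rw [AA_AN]
      rcases sA_pm e 1 with h | h <;> rw [h]
      · left; rw [AN_one, pow_one]
      · right; rw [AN_neg, pow_one]
    rcases h5 with h5 | h5
    · rw [h5] at hd
      have h3 := Nat.dvd_sub hvu' hd
      rw [show u - (u - 1) = 1 by omega] at h3
      exact hv1.ne' (Nat.dvd_one.1 h3)
    · rw [h5] at hd
      have h3 := (Nat.dvd_add_right hvu').1 hd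
      exact hv1.ne' (Nat.dvd_one.1 h3)
  refine ⟨hu2, N.ho.pos, ?_, by rw [← pow_succ']; congr 1; omega,
    Nat.pow_le_pow_right (by omega) hn, hvu', ?_, hd, hdw, a1, a2, ?_⟩
  · rcases N.k0m with ⟨-, h⟩ | ⟨-, h⟩ <;> rw [h]
    · exact Nat.mul_pos hw hd
    · exact hd
  · rw [N.uw]
    exact Nat.pow_le_pow_left N.w2 h
  · intro h1
    rcases N.k0m with ⟨-, h⟩ | ⟨-, h⟩ <;> rw [h] at h1
    · rcases N.vp.dvd_mul.1 h1 with h2 | h2
      · exact hvw h2
      · exact hvw (h2.trans (Nat.gcd_dvd_right _ _))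
    · exact hvw (h1.trans (Nat.gcd_dvd_right _ _))

theorem NA.up (N : NA q n v u w h c0 P0 m k0 e) :
    8 * u ^ (m - 2) ≤ 9 * q ^ n + 17 ∧ (3 ≤ h → 8 * u ^ (m - 2) ≤ 3 * q ^ n + 11) := by
  obtain ⟨hu2, hh, hc, hV, hq6, hvu, h2h, hd, hdw, hw1, hw2, hvc⟩ := N.facts
  have hcP := N.D.cP hV
  have a2 := AN_ge N.D.pm k0 (by omega : 1 ≤ u)
  have hm := N.m9
  have key : ∀ j, j ≤ h → 8 * j * u ^ (m - 2) ≤ 9 * (q ^ n + 1) + 8 * j := by
    intro j hj
    have e1 : 2 * j * u ^ k0 ≤ c0 * (q ^ n + 1) + 2 * j := by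
      calc 2 * j * u ^ k0 ≤ 2 * j * (AN (sA e k0) k0 u + 1) := Nat.mul_le_mul_left _ a2
        _ = 2 * j * 1 * AN (sA e k0) k0 u + 2 * j := by ring
        _ ≤ 2 * h * 1 * AN (sA e k0) k0 u + 2 * j := by gcongr
        _ = _ := by rw [hcP]
    rcases N.k0m with ⟨h1, h2⟩ | ⟨h1, h2⟩
    · have e2 : 4 * c0 ≤ 9 * u ^ 2 := by
        rw [h2]
        calc 4 * (AA e 1 u * Nat.gcd m (AA e 1 u)) ≤ 4 * ((u + 1) * (u + 1)) := by
              gcongr
              exact hdw.trans hw1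
          _ = (2 * (u + 1)) ^ 2 := by ring
          _ ≤ (3 * u) ^ 2 := by gcongr ?_ ^ 2; omega
          _ = _ := by ring
      have e3 : u ^ 2 * (8 * j * u ^ (m - 2)) ≤ u ^ 2 * (9 * (q ^ n + 1) + 8 * j) := by
        calc u ^ 2 * (8 * j * u ^ (m - 2)) = 4 * (2 * j * (u ^ 2 * u ^ (m - 2))) := by ring
          _ = 4 * (2 * j * u ^ k0) := by rw [← pow_add]; congr 3; omega
          _ ≤ 4 * (c0 * (q ^ n + 1) + 2 * j) := Nat.mul_le_mul_left _ e1
          _ = (4 * c0) * (q ^ n + 1) + 1 * (8 * j) := by ring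
          _ ≤ (9 * u ^ 2) * (q ^ n + 1) + u ^ 2 * (8 * j) := by
            have : 1 ≤ u ^ 2 := Nat.one_le_pow _ _ (by omega)
            gcongr
          _ = _ := by ring
      exact Nat.le_of_mul_le_mul_left e3 (Nat.pow_pos (by omega))
    · have e2 : 2 * c0 ≤ 3 * u := by
        rw [h2]
        have := hdw.trans hw1
        omega
      have e3 : u * (8 * j * u ^ (m - 2)) ≤ u * (9 * (q ^ n + 1) + 8 * j) := by
        calc u * (8 * j * u ^ (m - 2)) = 4 * (2 * j * (u * u ^ (m - 2))) := by ring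
          _ = 4 * (2 * j * u ^ k0) := by rw [← pow_succ']; congr 3; omega
          _ ≤ 4 * (c0 * (q ^ n + 1) + 2 * j) := Nat.mul_le_mul_left _ e1
          _ = 2 * ((2 * c0) * (q ^ n + 1)) + 1 * (8 * j) := by ring
          _ ≤ 2 * ((3 * u) * (q ^ n + 1)) + u * (8 * j) := by gcongr; omega
          _ = u * (6 * (q ^ n + 1) + 8 * j) := by ring
          _ ≤ _ := by gcongr; norm_num
      exact Nat.le_of_mul_le_mul_left e3 (by omega)
  constructor
  · have := key 1 hh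
    omega
  · intro h3
    have := key 3 h3
    omega

theorem NA.small (N : NA q n v u w h c0 P0 m k0 e) :
    ¬ ((m < 17 → u ^ (m - 2) ≤ 2 ^ 62) ∧ (u ^ (m - 2) ≤ 2 ^ 143 ∨ (3 ≤ h ∧ u ^ (m - 2) ≤ 2 ^ 280))) := by
  rintro ⟨g1, g2⟩
  obtain ⟨hu2, hh, hc, hV, hq6, hvu, h2h, hd, hdw, hw1, hw2, hvc⟩ := N.facts
  have hcP := N.D.cP hV
  have hm := N.m9
  obtain ⟨s, hs⟩ : ∃ s, s = q ^ (n / 2) := ⟨_, rfl⟩
  have hss : s * s = q ^ n := by
    have := N.ne
    rw [hs, ← pow_add]; congr 1; omega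
  have h729 : 729 ≤ s * s := by
    rw [hss]
    calc 729 = 3 ^ 6 := by norm_num
      _ ≤ q ^ 6 := Nat.pow_le_pow_left N.q3 6
      _ ≤ q ^ n := hq6
  have hne' : ∀ i, 1 ≤ i → s * s ≠ u ^ i := by
    intro i hi
    rw [hss]
    intro h1
    apply N.vq
    apply N.vp.dvd_of_dvd_pow (n := n)
    rw [h1]
    exact dvd_pow hvu (by omega)
  rw [← hss, ← AA_AN] at hcP
  have huw := N.uw
  have hF := Sq.finA (m := m) (s := s) (e := e) N.ho N.w2 hm (by rw [← huw]; exact g1) (by rw [← huw]; exact g2) h729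
  rw [← huw] at hF
  rcases N.k0m with ⟨h1, h2⟩ | ⟨h1, h2⟩
  · refine hne' m (by omega) (hF.1 ?_)
    rw [← h2, hcP, h1]
    ring
  · refine hne' (m - 1) (by omega) (hF.2 ?_)
    rw [← h2, hcP, show k0 = m - 1 by omega]
    ring

set_option exponentiation.threshold 1000 in
theorem NA.bigP (N : NA q n v u w h c0 P0 m k0 e) :
    2 ^ 61 ≤ q ^ n ∧ (17 ≤ m → ¬ (q ^ n ≤ 2 ^ 130) ∧ ¬ (3 ≤ h ∧ q ^ n ≤ 2 ^ 264)) := by
  obtain ⟨u1, u2⟩ := N.up
  have h1 := N.small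
  constructor
  · by_contra hcon
    apply h1
    norm_num at hcon
    refine ⟨fun _ => ?_, Or.inl ?_⟩
    · norm_num; omega
    · norm_num; omega
  · intro h17
    constructor
    · intro h2
      apply h1
      norm_num at h2
      refine ⟨fun h => by omega, Or.inl ?_⟩
      norm_num
      omega
    · rintro ⟨h3, h4⟩
      apply h1
      have h5 := u2 h3
      refine ⟨fun h => by omega, Or.inr ⟨h3, ?_⟩⟩
      norm_num at h4 ⊢
      omega

/-- **The equality.** -/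
theorem NA.eq (N : NA q n v u w h c0 P0 m k0 e) (hδ : δ = 1 ∨ δ = -1) (S : SgA q n u m k0 e δ k) :
    k < k0 ∧ (2 * h * (1 : ℕ) * (sA e k0 * sA e k * (u : ℤ) ^ (k0 - k) - 1) = sA e k0 * c0 * (1 + δ * q)) := by
  obtain ⟨hu2, hh, hc, hV, hq6, hvu, h2h, hd, hdw, hw1, hw2, hvc⟩ := N.facts
  obtain ⟨b1, b2⟩ := N.bigP
  obtain ⟨u1, u2⟩ := N.up
  have hq3 := N.q3
  have hn := N.n6
  have hm9 := N.m9
  have hsq := sq_le_two_mul h2h N.ho
  have hcP := N.D.cP hV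
  have hkm := S.le
  have hk0 := N.k0m
  have hne := S.ne
  have hu1' : 1 ≤ u := by omega
  have hP60 : 2 ^ 60 ≤ q ^ n := le_trans (by norm_num) b1
  rcases Nat.lt_or_ge k0 k with hlt | hle
  · exfalso
    have hk : k = k0 + 1 := by omega
    rcases hk0 with ⟨h7, h8⟩ | ⟨h7, h8⟩
    · omega
    obtain ⟨T, κ, h2, h3, h4, h5⟩ := S.top (by omega)
    rw [hk] at h2
    rw [AA_AN e (k0 + 1)] at h2
    rcases N.D.e3 (sA_pm e (k0 + 1)) hδ (Dvd.intro _ h2) h5 h3 with h6 | h6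
    · exact e3_ne N.vp hvu N.vh (fun h => N.vp.one_lt.ne' (Nat.dvd_one.1 h)) N.qo N.ho hδ h6
    · have D' : Dat q (q ^ (n - 1)) h 1 (Nat.gcd m (AA e 1 u)) P0 u k0 (sA e k0) := by rw [← h8]; exact N.D
      rw [h8] at h6
      exact D'.e3_sizeA hV hP60 hq6 (by omega) hsq hh hd hdw hw1 (by omega) h4 (sA_pm e _) h2 h6
  · have hlt : k < k0 := by omega
    refine ⟨hlt, ?_⟩
    obtain ⟨g, hg⟩ : ∃ g, k0 = k + g := ⟨k0 - k, by omega⟩
    rw [show k0 - k = g by omega]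
    have D' : Dat q (q ^ (n - 1)) h 1 c0 P0 u (k + g) (sA e k0) := by
      have := N.D
      rwa [← hg]
    rcases Nat.lt_or_ge (k + 1) m with hk1 | hk1
    · -- `k + 2 ≤ m`
      obtain ⟨κ, h3, h4, h5⟩ := S.low (by omega)
      rcases D'.e1 (sA_pm e k) hδ (T := AA e k u) (by rw [AA_AN]) h5 h3 with h6 | h6
      · exact h6
      exfalso
      obtain ⟨G, hG⟩ : ∃ G, G = 2 * h * 1 * u ^ g := ⟨_, rfl⟩
      have hue := Nat.one_le_pow g u hu1'
      have hHG : 2 * h * 1 ≤ G := by rw [hG]; exact Nat.le_mul_of_pos_right _ hue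
      have g1 : G * u ^ k ≤ c0 * (q ^ n + 1) + G := by
        have a2 := AN_ge N.D.pm k0 hu1'
        calc G * u ^ k = 2 * h * 1 * u ^ k0 := by rw [hG, hg, pow_add]; ring
          _ ≤ 2 * h * 1 * (AN (sA e k0) k0 u + 1) := Nat.mul_le_mul_left _ a2
          _ = c0 * (q ^ n + 1) + 2 * h * 1 := by rw [hcP]; ring
          _ ≤ _ := Nat.add_le_add_left hHG _
      have g2 : c0 * (q ^ n + 1) ≤ G * (u ^ k + 1) := by
        have a2 := AN_le N.D.pm k0 u
        calc c0 * (q ^ n + 1) = 2 * h * 1 * AN (sA e k0) k0 u := hcP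
          _ ≤ 2 * h * 1 * (u ^ k0 + 1) := Nat.mul_le_mul_left _ a2
          _ = G * u ^ k + 2 * h * 1 := by rw [hG, hg, pow_add]; ring
          _ ≤ G * u ^ k + G := Nat.add_le_add_left hHG _
          _ = _ := by ring
      have g4 : AN (sA e k) k u ≤ (q + 1) * (2 * h * 1 * (u ^ g + 1) + c0 * (q + 1)) := by
        rw [← AA_AN]
        exact h6.trans (Nat.mul_le_mul_right _ h4)
      rcases Nat.lt_or_ge n 12 with hn12 | hn12
      · have g3 : u ^ k ≤ 1 + (q + 1) * (2 * G + c0 * (q + 1)) := by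
          have a3 := AN_ge (sA_pm e k) k hu1'
          calc u ^ k ≤ AN (sA e k) k u + 1 := a3
            _ ≤ (q + 1) * (2 * h * 1 * (u ^ g + u ^ g) + c0 * (q + 1)) + 1 := by
              gcongr
              refine g4.trans ?_
              gcongr
            _ = _ := by rw [hG]; ring
        have hc' : c0 = AA e 1 u * Nat.gcd m (AA e 1 u) ∨ c0 = Nat.gcd m (AA e 1 u) := by
          rcases hk0 with ⟨-, h⟩ | ⟨-, h⟩
          · exact Or.inl h
          · exact Or.inr h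
        have hn3 : n = 6 ∨ n = 8 ∨ n = 10 := by
          have := N.ne
          omega
        have hmn := N.mn (by omega)
        have hw3 : AA e 1 u ≤ 3 * q := by
          by_contra hcon
          have h7 : 3 * q ≤ u := by omega
          have h8 : (3 * q) ^ (n + 1) ≤ u ^ (m - 2) :=
            (Nat.pow_le_pow_left h7 _).trans (Nat.pow_le_pow_right hu1' (by omega))
          have h9 : 3 * q ^ n ≤ (3 * q) ^ (n + 1) := by
            rw [mul_pow, pow_succ q]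
            calc 3 * q ^ n ≤ 3 ^ (n + 1) * q ^ n := by
                  gcongr
                  exact Nat.le_self_pow (by omega) 3
              _ ≤ 3 ^ (n + 1) * (q ^ n * q) := by
                gcongr
                exact Nat.le_mul_of_pos_right _ (by omega)
          omega
        rcases hn3 with rfl | rfl | rfl
        · have hq : 1149 ≤ q := by
            by_contra hcon
            have h7 : q ^ 6 ≤ 1148 ^ 6 := Nat.pow_le_pow_left (by omega) 6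
            norm_num at h7 b1
            omega
          obtain ⟨n1, n2, -⟩ := num6 hq
          have n3 := num6A hq hw3
          have := size_one_A g1 g2 g3 (S.sc6 rfl) n1 n2 hd hdw hc'
          omega
        · have hq : 197 ≤ q := by
            by_contra hcon
            have h7 : q ^ 8 ≤ 196 ^ 8 := Nat.pow_le_pow_left (by omega) 8
            norm_num at h7 b1
            omega
          obtain ⟨n1, n2, -⟩ := num8 hq
          have n3 := num8A hq hw3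
          have := size_one_A g1 g2 g3 (S.sc8 rfl) n1 n2 hd hdw hc'
          omega
        · have hq : 69 ≤ q := by
            by_contra hcon
            have h7 : q ^ 10 ≤ 68 ^ 10 := Nat.pow_le_pow_left (by omega) 10
            norm_num at h7 b1
            omega
          obtain ⟨n1, n2, n3⟩ := num10A hq hw3
          have := size_one_A g1 g2 g3 (S.sc10 rfl) n1 n2 hd hdw hc'
          omega
      · have hm := N.m17 hn12
        have hbig := S.big
        have hu15 : u ^ 15 ≤ 3 * q ^ n := by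
          have : u ^ 15 ≤ u ^ (m - 2) := Nat.pow_le_pow_right hu1' (by omega)
          omega
        obtain ⟨b, hb⟩ : ∃ b, k + b + 1 = m := ⟨m - 1 - k, by omega⟩
        obtain ⟨r, hr⟩ : ∃ r, k0 = k + b + r := ⟨k0 - (k + b), by omega⟩
        obtain ⟨T2, κ2, c2, p1, p2, p3, p4, p5⟩ := S.two b (by omega) hb
        have D2 : Dat q (q ^ (n - 1)) h 1 c0 P0 u (k + b + r) (sA e k0) := by
          have := N.D
          rwa [← hr]
        have hgb : g = b + r := by omega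
        have hγ : 1 ≤ Nat.gcd k b := Nat.gcd_pos_of_pos_left _ (by omega)
        have hγb : Nat.gcd k b + b ≤ k := by
          have h7 : Nat.gcd k b ∣ k - b := Nat.dvd_sub (Nat.gcd_dvd_left _ _) (Nat.gcd_dvd_right _ _)
          have h8 := Nat.le_of_dvd (by omega) h7
          omega
        have hr' : (r = 1 ∧ c0 = AA e 1 u * Nat.gcd m (AA e 1 u)) ∨ (r = 0 ∧ c0 = Nat.gcd m (AA e 1 u)) := by
          rcases hk0 with ⟨h1, h⟩ | ⟨h1, h⟩
          · exact Or.inl ⟨by omega, h⟩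
          · exact Or.inr ⟨by omega, h⟩
        have hc0' : c0 ≤ (u + 1) ^ 2 := by
          rcases hr' with ⟨-, h⟩ | ⟨-, h⟩ <;> rw [h]
          · rw [sq]; exact Nat.mul_le_mul hw1 (hdw.trans hw1)
          · exact (hdw.trans hw1).trans (Nat.le_self_pow two_ne_zero _)
        have h7 := D2.e2_sizeA hV hq3 (Nat.pow_le_pow_right (by omega) hn12) (by omega) (by omega) (by omega) hu2 hc0'
          hu15 hc hh (sA_pm e k) (sA_pm e b) hδ p3 p4 p5 p1 (by rw [← AA_AN, ← AA_AN]; exact p2) hγ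
          (by rw [← AA_AN, ← AA_AN]; exact gcd_AA (by omega) hu2)
        have h8 := D2.size_two_A hV hq3 hn12 rfl hu2 hd hdw hw1 hr' hu15 hh (sA_pm e k) (by omega) hγb
          (by rw [← hgb]; exact g4) h7 (by omega)
        obtain ⟨b3, b4⟩ := b2 hm
        rcases fin_two_A h8 h2h hu15 N.ho with ⟨h9, h10⟩ | ⟨h9, h10⟩
        · exact b3 h10.le
        · exact b4 ⟨h9, h10.le⟩
    · -- `k + 1 = m = k0`
      have hkm' : k + 1 = m := by omega
      obtain ⟨T, κ, c1, h1, h2, h3, h4, h5⟩ := S.mid hkm'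
      have hg1 : g = 1 := by omega
      subst hg1
      rw [AA_AN e k] at h2
      rcases D'.e1 (sA_pm e k) hδ (Dvd.intro _ h2) h5 h3 with h6 | h6
      · exact h6
      exfalso
      rcases hk0 with ⟨h7, h8⟩ | ⟨h7, h8⟩
      · exact D'.e1_sizeA hV hP60 hq6 (by omega) hu2 h8 hsq hh hd hdw hw1 hw2 (by omega) h4 (sA_pm e _) h1 h2 h6
      · omega

/-- **The contradiction.** -/
theorem NA.false {k' : ℕ} (N : NA q n v u w h c0 P0 m k0 e) (S1 : SgA q n u m k0 e 1 k)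
    (S2 : SgA q n u m k0 e (-1) k') : False := by
  obtain ⟨hu2, hh, hc, hV, hq6, hvu, h2h, hd, hdw, hw1, hw2, hvc⟩ := N.facts
  obtain ⟨h1, h2⟩ := N.eq (Or.inl rfl) S1
  obtain ⟨h3, h4⟩ := N.eq (Or.inr rfl) S2
  exact N.D.zero_pos N.vp hvu N.vq hvc (by omega) N.qo N.ho (fun _ => odd_one) (by omega) (by omega) h2 h4

end

end Cfsg.Agent.R2.Spec.X5
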