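import Cfsg.Agent.R2.Spec.X5.SizeB

/-!
# S3435, box X5 (helper12): sizes, two tori, family `A`
-/

set_option autoImplicit false

namespace Cfsg.Agent.R2.Spec.X5

open Cfsg.Agent.R2.Spec.P1.Eig

section

variable {q V h c0 P0 u k0 T κ c1 P k b r n w d γ : ℕ} {ε0 ε ε' δ : ℤ}

theorem small_uq (hu : u ^ 15 ≤ 3 * P) (hq : q ^ 12 ≤ P) (hP : 3 ^ 12 ≤ P) : 256 * (u ^ 2 * q ^ 2) ≤ P := by
  by_contra hcon
  rw [not_le] at hcon
  have hP0 : 0 < P := lt_of_lt_of_le (by norm_num) hP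
  have h5 : P ^ 9 * P ^ 21 ≤ P ^ 9 * (256 ^ 30 * 3 ^ 4) := by
    calc P ^ 9 * P ^ 21 = P ^ 30 := by ring
      _ ≤ (256 * (u ^ 2 * q ^ 2)) ^ 30 := Nat.pow_le_pow_left hcon.le 30
      _ = 256 ^ 30 * ((u ^ 15) ^ 4 * (q ^ 12) ^ 5) := by ring
      _ ≤ 256 ^ 30 * ((3 * P) ^ 4 * P ^ 5) := by gcongr
      _ = _ := by ring
  have h6 := Nat.le_of_mul_le_mul_left h5 (by positivity)
  have h7 := (Nat.pow_le_pow_left hP 21).trans h6
  exact absurd h7 (by norm_num)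

theorem small_uq' (hu : u ^ 15 ≤ 3 * P) (hq : q ^ 12 ≤ P) (hP : 3 ^ 12 ≤ P) : 16 * (u ^ 2 * q ^ 3) ≤ P := by
  by_contra hcon
  rw [not_le] at hcon
  have hP0 : 0 < P := lt_of_lt_of_le (by norm_num) hP
  have h5 : P ^ 23 * P ^ 37 ≤ P ^ 23 * (16 ^ 60 * 3 ^ 8) := by
    calc P ^ 23 * P ^ 37 = P ^ 60 := by ring
      _ ≤ (16 * (u ^ 2 * q ^ 3)) ^ 60 := Nat.pow_le_pow_left hcon.le 60
      _ = 16 ^ 60 * ((u ^ 15) ^ 8 * (q ^ 12) ^ 15) := by ring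
      _ ≤ 16 ^ 60 * ((3 * P) ^ 8 * P ^ 15) := by gcongr
      _ = _ := by ring
  have h6 := Nat.le_of_mul_le_mul_left h5 (by positivity)
  have h7 := (Nat.pow_le_pow_left hP 37).trans h6
  exact absurd h7 (by norm_num)

/-- `8 c0 (q + 1) ≤ H u ^ k` -/
theorem Dat.midA (D : Dat q V h 1 c0 P0 u k0 ε0) (hV : q * V = P) (hq : 3 ≤ q) (hP : q ^ 12 ≤ P) (hk : k0 + 1 ≤ 2 * k)
    (hu : 2 ≤ u) (hc0 : c0 ≤ (u + 1) ^ 2) (hu15 : u ^ 15 ≤ 3 * P) : 8 * c0 * (q + 1) ≤ 2 * h * 1 * u ^ k := by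
  have hP3 : 3 ^ 12 ≤ P := (Nat.pow_le_pow_left hq 12).trans hP
  have hcP := D.cP hV
  have a1 := AN_le D.pm k0 u
  have h1 : c0 * (P + 1) ≤ (2 * h * 1 * u ^ k) ^ 2 := by
    rcases Nat.eq_zero_or_pos (2 * h * 1) with h0 | h0
    · rw [h0] at hcP ⊢
      rw [hcP]
      simp
    · calc c0 * (P + 1) = 2 * h * 1 * AN ε0 k0 u := hcP
        _ ≤ 2 * h * 1 * (u ^ (2 * k)) := by
          gcongr
          refine a1.trans ?_
          have h3 : u ^ (k0 + 1) ≤ u ^ (2 * k) := Nat.pow_le_pow_right (by omega) hk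
          rw [pow_succ] at h3
          have h4 := Nat.one_le_pow k0 u (by omega)
          nlinarith
        _ ≤ (2 * h * 1) * (2 * h * 1) * (u ^ (2 * k)) := Nat.mul_le_mul_right _ (Nat.le_mul_of_pos_left _ h0)
        _ = _ := by ring
  have h2 : (8 * c0 * (q + 1)) ^ 2 ≤ c0 * (P + 1) := by
    have h3 : 64 * c0 * (q + 1) ^ 2 ≤ P + 1 := by
      have h5 : 36 * (64 * c0 * (q + 1) ^ 2) ≤ 36 * (256 * (u ^ 2 * q ^ 2)) := by
        calc 36 * (64 * c0 * (q + 1) ^ 2) ≤ 36 * (64 * (u + 1) ^ 2 * (q + 1) ^ 2) := by gcongr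
          _ = 64 * (2 * (u + 1)) ^ 2 * (3 * (q + 1)) ^ 2 := by ring
          _ ≤ 64 * (3 * u) ^ 2 * (4 * q) ^ 2 := by gcongr ?_ * ?_ ^ 2 * ?_ ^ 2 <;> omega
          _ = _ := by ring
      have h6 := small_uq hu15 hP hP3
      omega
    calc (8 * c0 * (q + 1)) ^ 2 = c0 * (64 * c0 * (q + 1) ^ 2) := by ring
      _ ≤ _ := Nat.mul_le_mul_left _ h3
  exact (Nat.pow_le_pow_iff_left two_ne_zero).1 (h2.trans h1)

/-- **Two tori: the bound of `u ^ b`.** -/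
theorem Dat.e2_sizeA (D : Dat q V h 1 c0 P0 u (k + b + r) ε0) (hV : q * V = P) (hq : 3 ≤ q) (hP : q ^ 12 ≤ P)
    (hk2 : k + b + r + 1 ≤ 2 * k) (hb : 1 ≤ b) (hk : 6 ≤ k)
    (hu : 2 ≤ u) (hc0 : c0 ≤ (u + 1) ^ 2) (hu15 : u ^ 15 ≤ 3 * P) (hc1 : 1 ≤ c0) (hh : 1 ≤ h) (hε : ε = 1 ∨ ε = -1)
    (hε' : ε' = 1 ∨ ε' = -1)
    (hδ : δ = 1 ∨ δ = -1) (hκ1 : 1 ≤ κ) (hκ : κ ≤ q + 1) (h4 : (T : ℤ) ∣ κ * ((V : ℤ) - δ)) {c : ℕ} (hc : c ≤ d)
    (hT : T * c = Nat.lcm (AN ε k u) (AN ε' b u)) (hγ : 1 ≤ γ)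
    (hg : Nat.gcd (AN ε k u) (AN ε' b u) ≤ u ^ γ + 1) :
    u ^ b ≤ 48 * d * (q + 1) * (h * (u ^ r * u ^ γ)) := by
  have hu1 : 1 ≤ u := by omega
  have hmid := D.midA (k := k) hV hq hP hk2 hu hc0 hu15
  have hH : 1 ≤ 2 * h * 1 := Nat.mul_pos (Nat.mul_pos two_pos hh) one_pos
  rcases D.e2 hε hε' hδ (Dvd.intro _ hT) h4 hκ1 with h5 | h5
  · exfalso
    refine e2_ne (H := 2 * h * 1) (c0 := c0) (q := q) (u := u) (k := k) (b := b) (r := r) (C0 := ε0 * c0)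
      (τ := ε0 * ε * ε') (a := ε) (a' := ε') (δ := δ) (pm_mul (pm_mul D.pm hε) hε') hε hε' hδ ?_ hu (by omega) hk hH
      (by omega) hc1 hmid (by push_cast; push_cast at h5; exact h5)
    rw [abs_mul, abs_pm D.pm, one_mul, Nat.abs_cast]
  · have a1 := AN_ge hε k hu1
    have a2 := AN_ge hε' b hu1
    have b1 : u ^ k ≤ 2 * AN ε k u := by
      have : 2 ≤ u ^ k := le_trans hu (Nat.le_self_pow (by omega) u)
      omega
    have b2 : u ^ b ≤ 2 * AN ε' b u := by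
      have : 2 ≤ u ^ b := le_trans hu (Nat.le_self_pow (by omega) u)
      omega
    have b0 : 2 * (u ^ γ + 1) ≤ 3 * u ^ γ := by
      have : 2 ≤ u ^ γ := le_trans hu (Nat.le_self_pow (by omega) u)
      omega
    have b3 : 2 * (AN ε k u * AN ε' b u) ≤ 3 * u ^ γ * d * T := by
      rw [← Nat.gcd_mul_lcm (AN ε k u) (AN ε' b u), ← hT]
      calc 2 * (Nat.gcd (AN ε k u) (AN ε' b u) * (T * c)) ≤ 2 * ((u ^ γ + 1) * (T * d)) := by gcongr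
        _ = 2 * (u ^ γ + 1) * (T * d) := by ring
        _ ≤ 3 * u ^ γ * (T * d) := Nat.mul_le_mul_right _ b0
        _ = _ := by ring
    have b4 : u ^ b + 1 ≤ u ^ k := by
      have h3 : u ^ b * 2 ≤ u ^ k := by
        calc u ^ b * 2 ≤ u ^ b * u := by gcongr
          _ = u ^ (b + 1) := by ring
          _ ≤ u ^ k := Nat.pow_le_pow_right (by omega) (by omega)
      have := Nat.one_le_pow b u hu1
      omega
    have b5 : 1 ≤ u ^ r * u ^ k := Nat.mul_pos (Nat.pow_pos hu1) (Nat.pow_pos hu1)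
    have b6 : T ≤ (q + 1) * (2 * h * 1 * (4 * (u ^ r * u ^ k))) := by
      calc T ≤ κ * (2 * h * 1 * (u ^ r * (u ^ k + u ^ b + 1) + 1) + c0 * (q + 1)) := h5
        _ ≤ (q + 1) * (2 * h * 1 * (u ^ r * (u ^ k + u ^ k) + u ^ r * u ^ k) + 2 * h * 1 * (u ^ r * u ^ k)) := by
          have g1 : c0 * (q + 1) ≤ 2 * h * 1 * (u ^ r * u ^ k) := by
            calc c0 * (q + 1) ≤ 8 * c0 * (q + 1) := by nlinarith
              _ ≤ 2 * h * 1 * u ^ k := hmid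
              _ ≤ _ := by
                gcongr
                exact Nat.le_mul_of_pos_left _ (Nat.pow_pos hu1)
          rw [add_assoc (u ^ k) (u ^ b) 1]
          gcongr
        _ = (q + 1) * (2 * h * 1 * (4 * (u ^ r * u ^ k))) := by ring
    have b7 : u ^ k * u ^ b ≤ u ^ k * (48 * d * (q + 1) * (h * (u ^ r * u ^ γ))) := by
      calc u ^ k * u ^ b ≤ (2 * AN ε k u) * (2 * AN ε' b u) := Nat.mul_le_mul b1 b2
        _ = 2 * (2 * (AN ε k u * AN ε' b u)) := by ring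
        _ ≤ 2 * (3 * u ^ γ * d * ((q + 1) * (2 * h * 1 * (4 * (u ^ r * u ^ k))))) := by
          refine Nat.mul_le_mul_left _ (b3.trans (Nat.mul_le_mul_left _ b6))
        _ = u ^ k * (48 * d * (q + 1) * (h * (u ^ r * u ^ γ))) := by ring
    exact Nat.le_of_mul_le_mul_left b7 (Nat.pow_pos hu1)

/-- **The bound of `P`.** -/
theorem Dat.size_two_A (D : Dat q V h 1 c0 P0 u (k + b + r) ε0) (hV : q * V = P) (hq : 3 ≤ q) (hn : 12 ≤ n)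
    (hPn : P = q ^ n) (hu : 2 ≤ u) (hd : 1 ≤ d) (hdw : d ≤ w) (hw : w ≤ u + 1)
    (hr : (r = 1 ∧ c0 = w * d) ∨ (r = 0 ∧ c0 = d)) (hu15 : u ^ 15 ≤ 3 * P) (hh : 1 ≤ h) (hε : ε = 1 ∨ ε = -1)
    (hk1 : 1 ≤ k) (hγ : γ + b ≤ k)
    (h3 : AN ε k u ≤ (q + 1) * (2 * h * 1 * (u ^ (b + r) + 1) + c0 * (q + 1)))
    (h2 : u ^ b ≤ 48 * d * (q + 1) * (h * (u ^ r * u ^ γ))) (hb : 1 ≤ b) : P ^ 11 ≤ 3 ^ 24 * ((2 ^ 23) ^ 12) ^ 5 * h ^ 360 := by
  have hu1 : 1 ≤ u := by omega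
  have hcP := D.cP hV
  have a1 := AN_le D.pm (k + b + r) u
  have a3 := AN_ge hε k hu1
  have hq12 : q ^ 12 ≤ P := by rw [hPn]; exact Nat.pow_le_pow_right (by omega) hn
  have hP3 : 3 ^ 12 ≤ P := (Nat.pow_le_pow_left hq 12).trans hq12
  have hc0 : 1 ≤ c0 := by
    rcases hr with ⟨-, h⟩ | ⟨-, h⟩ <;> rw [h]
    · exact Nat.mul_pos (hd.trans hdw) hd
    · exact hd
  have hc0' : c0 ≤ (u + 1) ^ 2 := by
    rcases hr with ⟨-, h⟩ | ⟨-, h⟩ <;> rw [h]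
    · rw [sq]; exact Nat.mul_le_mul hw (hdw.trans hw)
    · exact (hdw.trans hw).trans (Nat.le_self_pow two_ne_zero _)
  have hue : 2 * (u ^ (b + r) + 1) ≤ 3 * u ^ (b + r) := by
    have : 2 ≤ u ^ (b + r) := le_trans hu (Nat.le_self_pow (by omega) u)
    omega
  have e0 : u ^ (k + b + r) = u ^ k * u ^ (b + r) := by rw [add_assoc, pow_add]
  rcases le_or_gt (c0 * (q + 1)) (3 * h * u ^ (b + r)) with hI | hI
  · -- case I
    obtain ⟨Y, hY⟩ : ∃ Y, Y = u ^ (b + r) := ⟨_, rfl⟩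
    rw [← hY] at hI h3 hue e0
    have hY1 : 1 ≤ Y := by rw [hY]; exact Nat.one_le_pow _ _ hu1
    have f1 : u ^ k ≤ 1 + (q + 1) * (6 * h * Y) := by
      calc u ^ k ≤ AN ε k u + 1 := a3
        _ ≤ (q + 1) * (2 * h * 1 * (Y + 1) + c0 * (q + 1)) + 1 := by gcongr
        _ = (q + 1) * (h * (2 * (Y + 1)) + c0 * (q + 1)) + 1 := by ring
        _ ≤ (q + 1) * (h * (3 * Y) + 3 * h * Y) + 1 := by gcongr
        _ = _ := by ring
    have f2 : u ^ k ≤ 7 * (q + 1) * (h * Y) := by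
      have : 1 ≤ (q + 1) * (h * Y) := Nat.mul_pos (by omega) (Nat.mul_pos hh hY1)
      calc u ^ k ≤ 1 + (q + 1) * (6 * h * Y) := f1
        _ ≤ (q + 1) * (h * Y) + (q + 1) * (6 * h * Y) := by gcongr
        _ = _ := by ring
    have f3 : u ^ γ ≤ 7 * (q + 1) * (h * u ^ r) := by
      have g1 : u ^ b * u ^ γ ≤ u ^ b * (7 * (q + 1) * (h * u ^ r)) := by
        calc u ^ b * u ^ γ = u ^ (γ + b) := by rw [← pow_add, add_comm]
          _ ≤ u ^ k := Nat.pow_le_pow_right hu1 hγ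
          _ ≤ 7 * (q + 1) * (h * Y) := f2
          _ = _ := by rw [hY, pow_add]; ring
      exact Nat.le_of_mul_le_mul_left g1 (Nat.pow_pos hu1)
    obtain ⟨G, hG⟩ : ∃ G, G = 2 * h * Y := ⟨_, rfl⟩
    have f4 : G ≤ 672 * d * h ^ 3 * (q + 1) ^ 2 * (u ^ r) ^ 3 := by
      calc G = 2 * h * (u ^ b * u ^ r) := by rw [hG, hY, pow_add]
        _ ≤ 2 * h * ((48 * d * (q + 1) * (h * (u ^ r * (7 * (q + 1) * (h * u ^ r))))) * u ^ r) := by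
          gcongr
          refine h2.trans ?_
          gcongr
        _ = _ := by ring
    have f5 : u ^ k + 1 ≤ 4 * (q + 1) * G := by
      have : 2 ≤ (q + 1) * (2 * (h * Y)) := by
        have : 1 ≤ h * Y := Nat.mul_pos hh hY1
        nlinarith
      calc u ^ k + 1 ≤ (1 + (q + 1) * (6 * h * Y)) + 1 := by gcongr
        _ ≤ (q + 1) * (2 * (h * Y)) + (q + 1) * (6 * h * Y) := by omega
        _ = _ := by rw [hG]; ring
    have f6 : c0 * (P + 1) ≤ 4 * (q + 1) * G ^ 2 := by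
      calc c0 * (P + 1) = 2 * h * 1 * AN ε0 (k + b + r) u := hcP
        _ ≤ 2 * h * 1 * (u ^ k * Y + 1) := by gcongr; rw [← e0]; exact a1
        _ ≤ 2 * h * 1 * (u ^ k * Y + Y) := by gcongr
        _ = G * (u ^ k + 1) := by rw [hG]; ring
        _ ≤ G * (4 * (q + 1) * G) := Nat.mul_le_mul_left _ f5
        _ = _ := by ring
    have f7 : c0 * (P + 1) ≤ c0 * (4 * 672 ^ 2 * ((q + 1) ^ 5 * (h ^ 6 * u ^ 6))) := by
      refine f6.trans ?_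
      rcases hr with ⟨rfl, hc⟩ | ⟨rfl, hc⟩
      · calc 4 * (q + 1) * G ^ 2 ≤ 4 * (q + 1) * (672 * d * h ^ 3 * (q + 1) ^ 2 * (u ^ 1) ^ 3) ^ 2 := by gcongr
          _ = (d * d) * (4 * 672 ^ 2 * ((q + 1) ^ 5 * (h ^ 6 * u ^ 6))) := by ring
          _ ≤ _ := by rw [hc]; gcongr
      · calc 4 * (q + 1) * G ^ 2 ≤ 4 * (q + 1) * (672 * d * h ^ 3 * (q + 1) ^ 2 * (u ^ 0) ^ 3) ^ 2 := by gcongr
          _ = d * (4 * 672 ^ 2 * ((q + 1) ^ 5 * (h ^ 6 * d))) := by ring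
          _ ≤ _ := by
            rw [hc]
            gcongr
            calc d ≤ u + 1 := hdw.trans hw
              _ ≤ 2 * u := by omega
              _ ≤ u * u := by gcongr
              _ = u ^ 2 := by ring
              _ ≤ u ^ 6 := Nat.pow_le_pow_right hu1 (by norm_num)
    have f8 := Nat.le_of_mul_le_mul_left f7 hc0
    have f9 : 243 * P ≤ 243 * (2 ^ 23 * (q ^ 5 * (h ^ 6 * u ^ 6))) := by
      calc 243 * P ≤ 243 * (4 * 672 ^ 2 * ((q + 1) ^ 5 * (h ^ 6 * u ^ 6))) := by omega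
        _ = 4 * 672 ^ 2 * ((3 * (q + 1)) ^ 5 * (h ^ 6 * u ^ 6)) := by ring
        _ ≤ 4 * 672 ^ 2 * ((4 * q) ^ 5 * (h ^ 6 * u ^ 6)) := by gcongr 4 * 672 ^ 2 * (?_ ^ 5 * _); omega
        _ = 4 * 672 ^ 2 * 4 ^ 5 * (q ^ 5 * (h ^ 6 * u ^ 6)) := by ring
        _ ≤ 243 * 2 ^ 23 * (q ^ 5 * (h ^ 6 * u ^ 6)) := by gcongr ?_ * _; norm_num
        _ = _ := by ring
    have f10 : P ≤ 2 ^ 23 * (q ^ 5 * (h ^ 6 * u ^ 6)) := by omega
    have f11 : q ^ (n - 5) ≤ 2 ^ 23 * (h ^ 6 * u ^ 6) := by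
      have g1 : q ^ 5 * q ^ (n - 5) ≤ q ^ 5 * (2 ^ 23 * (h ^ 6 * u ^ 6)) := by
        calc q ^ 5 * q ^ (n - 5) = q ^ n := by rw [← pow_add]; congr 1; omega
          _ ≤ 2 ^ 23 * (q ^ 5 * (h ^ 6 * u ^ 6)) := by rw [← hPn]; exact f10
          _ = _ := by ring
      exact Nat.le_of_mul_le_mul_left g1 (Nat.pow_pos (by omega))
    have f12 : P ^ 7 ≤ (2 ^ 23) ^ 12 * (h ^ 72 * u ^ 72) := by
      calc P ^ 7 = q ^ (7 * n) := by rw [hPn, ← pow_mul, mul_comm]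
        _ ≤ q ^ (12 * (n - 5)) := Nat.pow_le_pow_right (by omega) (by omega)
        _ = (q ^ (n - 5)) ^ 12 := by rw [← pow_mul, mul_comm]
        _ ≤ (2 ^ 23 * (h ^ 6 * u ^ 6)) ^ 12 := Nat.pow_le_pow_left f11 12
        _ = _ := by ring
    have hP0 : 0 < P := by omega
    have f13 : P ^ 24 * P ^ 11 ≤ P ^ 24 * (3 ^ 24 * ((2 ^ 23) ^ 12) ^ 5 * h ^ 360) := by
      obtain ⟨C, hC⟩ : ∃ C, C = (2 ^ 23) ^ 12 := ⟨_, rfl⟩
      rw [← hC] at f12 ⊢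
      calc P ^ 24 * P ^ 11 = (P ^ 7) ^ 5 := by ring
        _ ≤ (C * (h ^ 72 * u ^ 72)) ^ 5 := Nat.pow_le_pow_left f12 5
        _ = C ^ 5 * h ^ 360 * (u ^ 15) ^ 24 := by ring
        _ ≤ C ^ 5 * h ^ 360 * (3 * P) ^ 24 := by gcongr
        _ = _ := by ring
    exact Nat.le_of_mul_le_mul_left f13 (Nat.pow_pos hP0)
  · -- case II
    exfalso
    obtain ⟨Y, hY⟩ : ∃ Y, Y = u ^ (b + r) := ⟨_, rfl⟩
    rw [← hY] at hI h3 hue e0
    have hY1 : 1 ≤ Y := by rw [hY]; exact Nat.one_le_pow _ _ hu1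
    have f1 : u ^ k ≤ 3 * c0 * (q + 1) ^ 2 := by
      calc u ^ k ≤ AN ε k u + 1 := a3
        _ ≤ (q + 1) * (2 * h * 1 * (Y + 1) + c0 * (q + 1)) + 1 := by gcongr
        _ = (q + 1) * (h * (2 * (Y + 1)) + c0 * (q + 1)) + 1 := by ring
        _ ≤ (q + 1) * (h * (3 * Y) + c0 * (q + 1)) + c0 * (q + 1) * (q + 1) := by
          have : 1 ≤ c0 * (q + 1) * (q + 1) := Nat.mul_pos (Nat.mul_pos hc0 (by omega)) (by omega)
          gcongr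
        _ = (q + 1) * (3 * h * Y + c0 * (q + 1)) + c0 * (q + 1) * (q + 1) := by ring
        _ ≤ (q + 1) * (c0 * (q + 1) + c0 * (q + 1)) + c0 * (q + 1) * (q + 1) := by gcongr
        _ = _ := by ring
    have f2 : c0 * (P + 1) ≤ c0 * (3 * c0 * (q + 1) ^ 3) := by
      calc c0 * (P + 1) = 2 * h * 1 * AN ε0 (k + b + r) u := hcP
        _ ≤ 2 * h * 1 * (u ^ k * Y + 1) := by gcongr; rw [← e0]; exact a1
        _ = 2 * h * (u ^ k * Y) + 2 * h := by ring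
        _ ≤ 2 * h * (u ^ k * Y) + h * (u ^ k * Y) := by
          have g1 : 2 ≤ u ^ k := le_trans hu (Nat.le_self_pow (by omega) u)
          have g2 : 2 ≤ u ^ k * Y := by nlinarith
          nlinarith
        _ = (3 * h * Y) * u ^ k := by ring
        _ ≤ (c0 * (q + 1)) * (3 * c0 * (q + 1) ^ 2) := Nat.mul_le_mul hI.le f1
        _ = _ := by ring
    have f3 := Nat.le_of_mul_le_mul_left f2 hc0
    have f4 : 108 * (3 * c0 * (q + 1) ^ 3) ≤ 108 * (16 * (u ^ 2 * q ^ 3)) := by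
      calc 108 * (3 * c0 * (q + 1) ^ 3) ≤ 108 * (3 * (u + 1) ^ 2 * (q + 1) ^ 3) := by gcongr
        _ = 3 * (2 * (u + 1)) ^ 2 * (3 * (q + 1)) ^ 3 := by ring
        _ ≤ 3 * (3 * u) ^ 2 * (4 * q) ^ 3 := by gcongr ?_ * ?_ ^ 2 * ?_ ^ 3 <;> omega
        _ = _ := by ring
    have f5 := small_uq' hu15 hq12 hP3
    omega

theorem pow_le_pow19 (j : ℕ) : (19 + j) ^ 4 ≤ 19 ^ 4 * 2 ^ j := by
  induction j with
  | zero => norm_num
  | succ n ih =>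
    have h1 : (19 + (n + 1)) ^ 4 ≤ 2 * (19 + n) ^ 4 := by
      ring_nf
      linarith [Nat.zero_le n, Nat.zero_le (n ^ 2), Nat.zero_le (n ^ 3), Nat.zero_le (n ^ 4)]
    calc (19 + (n + 1)) ^ 4 ≤ 2 * (19 + n) ^ 4 := h1
      _ ≤ 2 * (19 ^ 4 * 2 ^ n) := Nat.mul_le_mul_left _ ih
      _ = 19 ^ 4 * 2 ^ (n + 1) := by ring

set_option exponentiation.threshold 4000 in
/-- **The finite domain.** -/
theorem fin_two_A (h7 : P ^ 11 ≤ 3 ^ 24 * ((2 ^ 23) ^ 12) ^ 5 * h ^ 360) (hu : 2 ^ h ≤ u) (hu15 : u ^ 15 ≤ 3 * P)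
    (hh : Odd h) : (h = 1 ∧ P < 2 ^ 130) ∨ (3 ≤ h ∧ P < 2 ^ 264) := by
  obtain ⟨C, hC⟩ : ∃ C, C = ((2 ^ 23) ^ 12) ^ 5 := ⟨_, rfl⟩
  rw [← hC] at h7
  rcases Nat.lt_or_ge h 3 with h3 | h3
  · have h1 : h = 1 := by
      obtain ⟨j, hj⟩ := hh
      omega
    subst h1
    refine Or.inl ⟨rfl, ?_⟩
    by_contra hcon
    rw [not_lt] at hcon
    have h4 := (Nat.pow_le_pow_left hcon 11).trans h7
    rw [hC] at h4
    norm_num at h4
  · refine Or.inr ⟨h3, ?_⟩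
    have h9 : h < 19 := by
      by_contra hcon
      rw [not_lt] at hcon
      obtain ⟨j, rfl⟩ := Nat.exists_eq_add_of_le hcon
      have h4 := pow_le_pow19 j
      have h5 : (2 ^ 15) ^ (19 + j) ≤ 3 * P := by
        calc (2 ^ 15) ^ (19 + j) = (2 ^ (19 + j)) ^ 15 := by rw [← pow_mul, ← pow_mul, mul_comm]
          _ ≤ u ^ 15 := Nat.pow_le_pow_left hu 15
          _ ≤ 3 * P := hu15
      obtain ⟨Z, hZ⟩ : ∃ Z, Z = 2 ^ j := ⟨_, rfl⟩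
      have hZ1 : 1 ≤ Z := by rw [hZ]; exact Nat.one_le_pow _ _ two_pos
      have e3 : (2 ^ 15) ^ (19 + j) = (2 ^ 15) ^ 19 * Z ^ 15 := by
        rw [hZ, pow_add, ← pow_mul 2 15 j, ← pow_mul 2 j 15, mul_comm 15 j]
      rw [e3] at h5
      rw [← hZ] at h4
      obtain ⟨D, hD⟩ : ∃ D, D = (2 ^ 15) ^ 19 := ⟨_, rfl⟩
      rw [← hD] at h5
      have h6 : Z ^ 90 * (D ^ 11 * Z ^ 75) ≤ Z ^ 90 * (3 ^ 35 * C * (19 ^ 4) ^ 90) := by
        calc Z ^ 90 * (D ^ 11 * Z ^ 75) = (D * Z ^ 15) ^ 11 := by ring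
          _ ≤ (3 * P) ^ 11 := Nat.pow_le_pow_left h5 11
          _ = 3 ^ 11 * P ^ 11 := by ring
          _ ≤ 3 ^ 11 * (3 ^ 24 * C * (19 + j) ^ 360) := Nat.mul_le_mul_left _ h7
          _ = 3 ^ 35 * C * ((19 + j) ^ 4) ^ 90 := by
            rw [← pow_mul (19 + j) 4 90]
            obtain ⟨W, hW⟩ : ∃ W, W = (19 + j) ^ (4 * 90) := ⟨_, rfl⟩
            rw [show (360 : ℕ) = 4 * 90 by norm_num, ← hW]
            ring
          _ ≤ 3 ^ 35 * C * (19 ^ 4 * Z) ^ 90 := Nat.mul_le_mul_left _ (Nat.pow_le_pow_left h4 90)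
          _ = Z ^ 90 * (3 ^ 35 * C * (19 ^ 4) ^ 90) := by
            obtain ⟨W, hW⟩ : ∃ W, W = 19 ^ 4 := ⟨_, rfl⟩
            rw [← hW]
            ring
      have h8 := Nat.le_of_mul_le_mul_left h6 (Nat.pow_pos hZ1)
      have h10 : D ^ 11 * 1 ≤ D ^ 11 * Z ^ 75 := Nat.mul_le_mul_left _ (Nat.one_le_pow _ _ hZ1)
      have h11 := h10.trans h8
      rw [hC, hD] at h11
      norm_num at h11
    by_contra hcon
    rw [not_lt] at hcon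
    have h9' : h ≤ 17 := by
      obtain ⟨j, hj⟩ := hh
      omega
    have h4 : P ^ 11 ≤ 3 ^ 24 * C * 17 ^ 360 := h7.trans (Nat.mul_le_mul_left _ (Nat.pow_le_pow_left h9' 360))
    have h5 := (Nat.pow_le_pow_left hcon 11).trans h4
    rw [hC] at h5
    norm_num at h5

end

end Cfsg.Agent.R2.Spec.X5
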