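import Cfsg.Agent.R2.Spec.X5.SizeE3

/-!
# S3435, box X5 (helper12): sizes, two tori, families `B`, `C`, `D`
-/

set_option autoImplicit false

namespace Cfsg.Agent.R2.Spec.X5

open Cfsg.Agent.R2.Spec.P1.Eig

/-- in `ZMod N` -/
theorem dvd_two_of {N : ℕ} (h : (-1 : ZMod N) = 1) : N ∣ 2 := by
  rw [← ZMod.natCast_eq_zero_iff]
  push_cast
  have h2 : (2 : ZMod N) = 1 - (-1) := by ring
  rw [h2, h, sub_self]

theorem AN_zmod {ε : ℤ} (hε : ε = 1 ∨ ε = -1) {k u N : ℕ} (hu : 1 ≤ u) (h : N ∣ AN ε k u) :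
    ((u : ℕ) : ZMod N) ^ k = (ε : ℤ) := by
  have h1 := (ZMod.natCast_eq_zero_iff _ _).2 h
  have h2 : ((AN ε k u : ℕ) : ℤ) = (u : ℤ) ^ k - ε := AN_int hε hu
  have h3 : (((AN ε k u : ℕ) : ℤ) : ZMod N) = 0 := by rw [Int.cast_natCast]; exact h1
  rw [h2] at h3
  push_cast at h3
  linear_combination h3

/-- **The sign of the second torus.** -/
theorem gcd_two {ε : ℤ} (hε : ε = 1 ∨ ε = -1) {k b u : ℕ} (hk : 1 ≤ k) (hb : 1 ≤ b) (hu : 1 ≤ u) (ho : ε = 1 → Odd k) :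
    ∃ ε' : ℤ, (ε' = 1 ∨ ε' = -1) ∧ Nat.gcd (AN ε k u) (AN ε' b u) ∣ 2 := by
  rcases hε with rfl | rfl
  · refine ⟨-1, Or.inr rfl, ?_⟩
    have h1 := AN_zmod (Or.inl rfl) hu (Nat.gcd_dvd_left (AN 1 k u) (AN (-1) b u))
    have h2 := AN_zmod (Or.inr rfl) hu (Nat.gcd_dvd_right (AN 1 k u) (AN (-1) b u))
    apply dvd_two_of
    have h3 := congrArg (· ^ b) h1
    have h4 := congrArg (· ^ k) h2
    simp only [← pow_mul] at h3 h4
    push_cast at h3 h4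
    rw [one_pow] at h3
    rw [(ho rfl).neg_one_pow, mul_comm b k, h3] at h4
    exact h4.symm
  · obtain ⟨i, k', hk', hk2⟩ := Nat.exists_eq_two_pow_mul_odd (n := k) (by omega)
    obtain ⟨j, b', hb', hb2⟩ := Nat.exists_eq_two_pow_mul_odd (n := b) (by omega)
    rcases lt_trichotomy i j with hij | hij | hij
    · refine ⟨-1, Or.inr rfl, ?_⟩
      have h1 := AN_zmod (Or.inr rfl) hu (Nat.gcd_dvd_left (AN (-1) k u) (AN (-1) b u))
      have h2 := AN_zmod (Or.inr rfl) hu (Nat.gcd_dvd_right (AN (-1) k u) (AN (-1) b u))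
      apply dvd_two_of
      have h3 := congrArg (· ^ (2 ^ (j - i) * b')) h1
      have h4 := congrArg (· ^ k') h2
      simp only [← pow_mul] at h3 h4
      push_cast at h3 h4
      have he : Even (2 ^ (j - i) * b') := (even_two.pow_of_ne_zero (by omega)).mul_right _
      have hij' : 2 ^ j = 2 ^ i * 2 ^ (j - i) := by rw [← pow_add]; congr 1; omega
      have hkb : k * (2 ^ (j - i) * b') = b * k' := by
        rw [hk2, hb2, hij']; ring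
      rw [he.neg_one_pow, hkb] at h3
      rw [hk'.neg_one_pow, h3] at h4
      exact h4.symm
    · refine ⟨1, Or.inl rfl, ?_⟩
      have h1 := AN_zmod (Or.inr rfl) hu (Nat.gcd_dvd_left (AN (-1) k u) (AN 1 b u))
      have h2 := AN_zmod (Or.inl rfl) hu (Nat.gcd_dvd_right (AN (-1) k u) (AN 1 b u))
      apply dvd_two_of
      have h3 := congrArg (· ^ b') h1
      have h4 := congrArg (· ^ k') h2
      simp only [← pow_mul] at h3 h4
      push_cast at h3 h4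
      have hkb : k * b' = b * k' := by
        rw [hk2, hb2, hij]; ring
      rw [hb'.neg_one_pow, hkb] at h3
      rw [one_pow, h3] at h4
      exact h4
    · refine ⟨-1, Or.inr rfl, ?_⟩
      have h1 := AN_zmod (Or.inr rfl) hu (Nat.gcd_dvd_left (AN (-1) k u) (AN (-1) b u))
      have h2 := AN_zmod (Or.inr rfl) hu (Nat.gcd_dvd_right (AN (-1) k u) (AN (-1) b u))
      apply dvd_two_of
      have h3 := congrArg (· ^ (2 ^ (i - j) * k')) h2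
      have h4 := congrArg (· ^ b') h1
      simp only [← pow_mul] at h3 h4
      push_cast at h3 h4
      have he : Even (2 ^ (i - j) * k') := (even_two.pow_of_ne_zero (by omega)).mul_right _
      have hij' : 2 ^ i = 2 ^ j * 2 ^ (i - j) := by rw [← pow_add]; congr 1; omega
      have hkb : b * (2 ^ (i - j) * k') = k * b' := by
        rw [hk2, hb2, hij']; ring
      rw [he.neg_one_pow, hkb] at h3
      rw [hb'.neg_one_pow, h3] at h4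
      exact h4.symm

section

variable {q V h F c0 P0 u k0 T κ c1 P k b r n : ℕ} {ε0 ε ε' δ : ℤ}

/-- `8 c0 (q + 1) ≤ H u ^ k` -/
theorem Dat.mid (D : Dat q V h F c0 P0 u k0 ε0) (hV : q * V = P) (hq : 3 ≤ q) (hP : q ^ 12 ≤ P) (hk : k0 + 1 ≤ 2 * k)
    (hu : 2 ≤ u) (hc0 : c0 ≤ 4) : 8 * c0 * (q + 1) ≤ 2 * h * F * u ^ k := by
  have hcP := D.cP hV
  have a1 := AN_le D.pm k0 u
  have h1 : c0 * (P + 1) ≤ (2 * h * F * u ^ k) ^ 2 := by
    rcases Nat.eq_zero_or_pos (2 * h * F) with h0 | h0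
    · rw [h0] at hcP ⊢
      rw [hcP]
      simp
    · calc c0 * (P + 1) = 2 * h * F * AN ε0 k0 u := hcP
        _ ≤ 2 * h * F * (u ^ (2 * k)) := by
          gcongr
          refine a1.trans ?_
          have h3 : u ^ (k0 + 1) ≤ u ^ (2 * k) := Nat.pow_le_pow_right (by omega) hk
          rw [pow_succ] at h3
          have h4 := Nat.one_le_pow k0 u (by omega)
          nlinarith
        _ ≤ (2 * h * F) * (2 * h * F) * (u ^ (2 * k)) := Nat.mul_le_mul_right _ (Nat.le_mul_of_pos_left _ h0)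
        _ = _ := by ring
  have h2 : (8 * c0 * (q + 1)) ^ 2 ≤ c0 * (P + 1) := by
    have h3 : 64 * c0 * (q + 1) ^ 2 ≤ P + 1 := by
      calc 64 * c0 * (q + 1) ^ 2 ≤ 64 * 4 * (q + 1) ^ 2 := by gcongr
        _ ≤ 64 * 4 * (2 * q) ^ 2 := by gcongr; omega
        _ = 1024 * q ^ 2 := by ring
        _ ≤ 3 ^ 10 * q ^ 2 := by gcongr; norm_num
        _ ≤ q ^ 10 * q ^ 2 := by gcongr
        _ = q ^ 12 := by ring
        _ ≤ P + 1 := by omega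
    calc (8 * c0 * (q + 1)) ^ 2 = c0 * (64 * c0 * (q + 1) ^ 2) := by ring
      _ ≤ _ := Nat.mul_le_mul_left _ h3
  exact (Nat.pow_le_pow_iff_left two_ne_zero).1 (h2.trans h1)

/-- the equality of `e2` is impossible -/
theorem e2_ne {H c0 q u k b r : ℕ} {C0 τ a a' δ : ℤ} (hτ : τ = 1 ∨ τ = -1) (ha : a = 1 ∨ a = -1) (ha' : a' = 1 ∨ a' = -1)
    (hδ : δ = 1 ∨ δ = -1) (hC : |C0| = c0) (hu : 2 ≤ u) (hb : b + 1 ≤ k) (hk : 6 ≤ k) (hH : 1 ≤ H) (hq : 1 ≤ q)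
    (hc0 : 1 ≤ c0)
    (hm : 8 * c0 * (q + 1) ≤ H * u ^ k) (h : (H : ℤ) * (τ * (u : ℤ) ^ r * (a * (u : ℤ) ^ k + a' * (u : ℤ) ^ b - 1) - 1) =
      C0 * (1 + δ * q)) : False := by
  have h1 : |C0 * (1 + δ * (q : ℤ))| ≤ c0 * (q + 1) := by
    rw [abs_mul, hC]
    gcongr
    rcases hδ with h | h <;> rw [h] <;> refine abs_le.2 ⟨?_, ?_⟩ <;> linarith [Int.natCast_nonneg q]
  have hub : (2 : ℤ) * (u : ℤ) ^ b ≤ (u : ℤ) ^ k := by
    have h3 : 2 * u ^ b ≤ u ^ k := by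
      calc 2 * u ^ b ≤ u * u ^ b := by gcongr
        _ = u ^ (b + 1) := by ring
        _ ≤ u ^ k := Nat.pow_le_pow_right (by omega) hb
    exact_mod_cast h3
  have huk : (64 : ℤ) ≤ (u : ℤ) ^ k := by
    have h3 : 2 ^ 6 ≤ u ^ k := (Nat.pow_le_pow_left hu 6).trans (Nat.pow_le_pow_right (by omega) hk)
    exact_mod_cast h3
  have hur : (1 : ℤ) ≤ (u : ℤ) ^ r := by exact_mod_cast Nat.one_le_pow r u (by omega)
  have hub0 : (0 : ℤ) ≤ (u : ℤ) ^ b := by positivity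
  have h2 : (u : ℤ) ^ k ≤ 4 * |(τ * (u : ℤ) ^ r * (a * (u : ℤ) ^ k + a' * (u : ℤ) ^ b - 1) - 1)| := by
    have h3 : (u : ℤ) ^ k ≤ 2 * |(a * (u : ℤ) ^ k + a' * (u : ℤ) ^ b - 1)| + 2 := by
      rcases ha with h | h <;> rcases ha' with h' | h' <;> rw [h, h']
      · rw [abs_of_nonneg (by linarith)]; linarith
      · rw [abs_of_nonneg (by linarith)]; linarith
      · rw [abs_of_nonpos (by linarith)]; linarith
      · rw [abs_of_nonpos (by linarith)]; linarith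
    have h4 : |(a * (u : ℤ) ^ k + a' * (u : ℤ) ^ b - 1)| ≤
        |(τ * (u : ℤ) ^ r * (a * (u : ℤ) ^ k + a' * (u : ℤ) ^ b - 1))| := by
      rw [abs_mul, abs_mul, abs_pm hτ, one_mul, abs_of_nonneg (by positivity : (0 : ℤ) ≤ (u : ℤ) ^ r)]
      exact le_mul_of_one_le_left (abs_nonneg _) hur
    have h5 := abs_sub_abs_le_abs_sub (τ * (u : ℤ) ^ r * (a * (u : ℤ) ^ k + a' * (u : ℤ) ^ b - 1)) 1
    rw [abs_one] at h5
    linarith
  have h3 : (H : ℤ) * |(τ * (u : ℤ) ^ r * (a * (u : ℤ) ^ k + a' * (u : ℤ) ^ b - 1) - 1)| ≤ c0 * (q + 1) := by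
    rw [← abs_of_nonneg (by positivity : (0 : ℤ) ≤ (H : ℤ)), ← abs_mul, h]
    exact h1
  have h4 : (8 : ℤ) * c0 * (q + 1) ≤ H * (u : ℤ) ^ k := by exact_mod_cast hm
  have h5 : (H : ℤ) * (u : ℤ) ^ k ≤ H * (4 * |(τ * (u : ℤ) ^ r * (a * (u : ℤ) ^ k + a' * (u : ℤ) ^ b - 1) - 1)|) := by
    gcongr
  have h6 : (1 : ℤ) ≤ (c0 : ℤ) * (q + 1) := by
    have : 1 ≤ c0 * (q + 1) := Nat.mul_pos hc0 (by omega)
    exact_mod_cast this
  nlinarith

/-- **Two tori: the bound of `u ^ b`.** -/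
theorem Dat.e2_size (D : Dat q V h F c0 P0 u (k + b + r) ε0) (hV : q * V = P) (hq : 3 ≤ q) (hP : q ^ 12 ≤ P)
    (hk2 : k + b + r + 1 ≤ 2 * k) (hb : 1 ≤ b) (hk : 6 ≤ k)
    (hu : 2 ≤ u) (hc0 : c0 ≤ 4) (hc1 : 1 ≤ c0) (hh : 1 ≤ h) (hF : 1 ≤ F) (hε : ε = 1 ∨ ε = -1) (hε' : ε' = 1 ∨ ε' = -1)
    (hδ : δ = 1 ∨ δ = -1) (hκ1 : 1 ≤ κ) (hκ : κ ≤ q + 1) (h4 : (T : ℤ) ∣ κ * ((V : ℤ) - δ)) {c : ℕ} (hc : c ∣ 2)
    (hT : T * c = Nat.lcm (AN ε k u) (AN ε' b u)) (hg : Nat.gcd (AN ε k u) (AN ε' b u) ∣ 2) :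
    u ^ b ≤ 64 * (q + 1) * (2 * h * F * u ^ r) := by
  have hu1 : 1 ≤ u := by omega
  have hmid := D.mid (k := k) hV hq hP hk2 hu hc0
  have hH : 1 ≤ 2 * h * F := Nat.mul_pos (Nat.mul_pos two_pos hh) hF
  rcases D.e2 hε hε' hδ (Dvd.intro _ hT) h4 hκ1 with h5 | h5
  · exfalso
    refine e2_ne (H := 2 * h * F) (c0 := c0) (q := q) (u := u) (k := k) (b := b) (r := r) (C0 := ε0 * c0)
      (τ := ε0 * ε * ε') (a := ε) (a' := ε') (δ := δ) (pm_mul (pm_mul D.pm hε) hε') hε hε' hδ ?_ hu (by omega) hk hH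
      (by omega) hc1 hmid (by push_cast; exact h5)
    rw [abs_mul, abs_pm D.pm, one_mul, Nat.abs_cast]
  · have a1 := AN_ge hε k hu1
    have a2 := AN_ge hε' b hu1
    have b1 : u ^ k ≤ 2 * AN ε k u := by
      have : 2 ≤ u ^ k := le_trans hu (Nat.le_self_pow (by omega) u)
      omega
    have b2 : u ^ b ≤ 2 * AN ε' b u := by
      have : 2 ≤ u ^ b := le_trans hu (Nat.le_self_pow (by omega) u)
      omega
    have b3 : AN ε k u * AN ε' b u ≤ 4 * T := by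
      rw [← Nat.gcd_mul_lcm, ← hT]
      have g1 := Nat.le_of_dvd two_pos hc
      have g2 := Nat.le_of_dvd two_pos hg
      calc Nat.gcd (AN ε k u) (AN ε' b u) * (T * c) ≤ 2 * (T * 2) := by gcongr
        _ = 4 * T := by ring
    have b4 : u ^ b + 1 ≤ u ^ k := by
      have h3 : u ^ b * 2 ≤ u ^ k := by
        calc u ^ b * 2 ≤ u ^ b * u := by gcongr
          _ = u ^ (b + 1) := by ring
          _ ≤ u ^ k := Nat.pow_le_pow_right (by omega) (by omega)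
      have := Nat.one_le_pow b u hu1
      omega
    have b5 : 1 ≤ u ^ r * u ^ k := Nat.mul_pos (Nat.pow_pos hu1) (Nat.pow_pos hu1)
    have b6 : T ≤ (q + 1) * (2 * h * F * (4 * (u ^ r * u ^ k))) := by
      calc T ≤ κ * (2 * h * F * (u ^ r * (u ^ k + u ^ b + 1) + 1) + c0 * (q + 1)) := h5
        _ ≤ (q + 1) * (2 * h * F * (u ^ r * (u ^ k + u ^ k) + u ^ r * u ^ k) + 2 * h * F * (u ^ r * u ^ k)) := by
          have g1 : c0 * (q + 1) ≤ 2 * h * F * (u ^ r * u ^ k) := by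
            calc c0 * (q + 1) ≤ 8 * c0 * (q + 1) := by nlinarith
              _ ≤ 2 * h * F * u ^ k := hmid
              _ ≤ _ := by
                gcongr
                exact Nat.le_mul_of_pos_left _ (Nat.pow_pos hu1)
          rw [add_assoc (u ^ k) (u ^ b) 1]
          gcongr
        _ = (q + 1) * (2 * h * F * (4 * (u ^ r * u ^ k))) := by ring
    have b7 : u ^ k * u ^ b ≤ u ^ k * (64 * (q + 1) * (2 * h * F * u ^ r)) := by
      calc u ^ k * u ^ b ≤ (2 * AN ε k u) * (2 * AN ε' b u) := Nat.mul_le_mul b1 b2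
        _ = 4 * (AN ε k u * AN ε' b u) := by ring
        _ ≤ 4 * (4 * ((q + 1) * (2 * h * F * (4 * (u ^ r * u ^ k))))) := by
          refine Nat.mul_le_mul_left _ (b3.trans (Nat.mul_le_mul_left _ b6))
        _ = u ^ k * (64 * (q + 1) * (2 * h * F * u ^ r)) := by ring
    exact Nat.le_of_mul_le_mul_left b7 (Nat.pow_pos hu1)

/-- **The bound of `P`.** -/
theorem size_two_B {G X : ℕ} (h1 : c0 * (P + 1) ≤ G * (X + 1)) (h2 : X ≤ 1 + 2 * ((q + 1) * (2 * G + c0 * (q + 1))))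
    (hG : G ≤ 256 * (q + 1) * (h * (u + 1)) ^ 2) (hc0 : c0 ≤ 4) (hc1 : 1 ≤ c0) (hq : 3 ≤ q) (hh : 1 ≤ h) (hu : 2 ≤ u)
    (hn : 12 ≤ n) (hP : P = q ^ n) (hu10 : u ^ 10 ≤ 3 * P) : P ^ 7 ≤ 3 ^ 28 * (2 ^ 84) ^ 5 * h ^ 80 := by
  obtain ⟨G0, hG0⟩ : ∃ G0, G0 = 256 * (q + 1) * (h * (u + 1)) ^ 2 := ⟨_, rfl⟩
  rw [← hG0] at hG
  have hG1 : 4 * (q + 1) ≤ G0 := by
    rw [hG0]
    calc 4 * (q + 1) ≤ 256 * (q + 1) := by omega
      _ ≤ 256 * (q + 1) * (h * (u + 1)) ^ 2 := Nat.le_mul_of_pos_right _ (Nat.pow_pos (Nat.mul_pos hh (by omega)))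
  have e1 : P + 1 ≤ 8 * (q + 1) * G0 ^ 2 := by
    calc P + 1 ≤ c0 * (P + 1) := Nat.le_mul_of_pos_left _ hc1
      _ ≤ G * (X + 1) := h1
      _ ≤ G0 * (1 + 2 * ((q + 1) * (2 * G0 + 4 * (q + 1))) + 1) := by
        gcongr
        refine h2.trans ?_
        gcongr
      _ ≤ G0 * ((q + 1) * G0 + 2 * ((q + 1) * (2 * G0 + G0)) + (q + 1) * G0) := by
        have : 1 ≤ (q + 1) * G0 := Nat.mul_pos (by omega) (by omega)
        gcongr
      _ = 8 * (q + 1) * G0 ^ 2 := by ring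
  have e2 : 432 * P ≤ 432 * (3 * 2 ^ 21 * (q ^ 3 * (h ^ 4 * u ^ 4))) := by
    calc 432 * P ≤ 432 * (8 * (q + 1) * G0 ^ 2) := by omega
      _ = 2 ^ 19 * (3 * (q + 1)) ^ 3 * h ^ 4 * (2 * (u + 1)) ^ 4 := by rw [hG0]; ring
      _ ≤ 2 ^ 19 * (4 * q) ^ 3 * h ^ 4 * (3 * u) ^ 4 := by
        gcongr ?_ * ?_ ^ 3 * _ * ?_ ^ 4 <;> omega
      _ = _ := by ring
  have e3 : P ≤ 3 * 2 ^ 21 * (q ^ 3 * (h ^ 4 * u ^ 4)) := by omega
  have e4 : q ^ (n - 3) ≤ 3 * 2 ^ 21 * (h ^ 4 * u ^ 4) := by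
    have h5 : q ^ 3 * q ^ (n - 3) ≤ q ^ 3 * (3 * 2 ^ 21 * (h ^ 4 * u ^ 4)) := by
      calc q ^ 3 * q ^ (n - 3) = q ^ n := by rw [← pow_add]; congr 1; omega
        _ ≤ 3 * 2 ^ 21 * (q ^ 3 * (h ^ 4 * u ^ 4)) := by rw [← hP]; exact e3
        _ = _ := by ring
    exact Nat.le_of_mul_le_mul_left h5 (Nat.pow_pos (by omega))
  have e5 : P ^ 3 ≤ 3 ^ 4 * 2 ^ 84 * (h ^ 16 * u ^ 16) := by
    calc P ^ 3 = q ^ (3 * n) := by rw [hP, ← pow_mul, mul_comm]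
      _ ≤ q ^ (4 * (n - 3)) := Nat.pow_le_pow_right (by omega) (by omega)
      _ = (q ^ (n - 3)) ^ 4 := by rw [← pow_mul, mul_comm]
      _ ≤ (3 * 2 ^ 21 * (h ^ 4 * u ^ 4)) ^ 4 := Nat.pow_le_pow_left e4 4
      _ = _ := by ring
  have hP0 : 0 < P := by rw [hP]; exact Nat.pow_pos (by omega)
  have e6 : P ^ 8 * P ^ 7 ≤ P ^ 8 * (3 ^ 28 * (2 ^ 84) ^ 5 * h ^ 80) := by
    calc P ^ 8 * P ^ 7 = (P ^ 3) ^ 5 := by ring
      _ ≤ (3 ^ 4 * 2 ^ 84 * (h ^ 16 * u ^ 16)) ^ 5 := Nat.pow_le_pow_left e5 5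
      _ = 3 ^ 20 * (2 ^ 84) ^ 5 * h ^ 80 * (u ^ 10) ^ 8 := by ring
      _ ≤ 3 ^ 20 * (2 ^ 84) ^ 5 * h ^ 80 * (3 * P) ^ 8 := by gcongr
      _ = _ := by ring
  exact Nat.le_of_mul_le_mul_left e6 (Nat.pow_pos hP0)

theorem sq_le_pow {h : ℕ} (hh : 11 ≤ h) : h ^ 2 ≤ 121 * 2 ^ (h - 11) := by
  obtain ⟨j, rfl⟩ := Nat.exists_eq_add_of_le hh
  rw [Nat.add_sub_cancel_left]
  clear hh
  induction j with
  | zero => norm_num
  | succ n ih =>
    have h1 : (11 + (n + 1)) ^ 2 ≤ 2 * (11 + n) ^ 2 := by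
      ring_nf
      linarith [Nat.zero_le n, Nat.zero_le (n ^ 2)]
    calc (11 + (n + 1)) ^ 2 ≤ 2 * (11 + n) ^ 2 := h1
      _ ≤ 2 * (121 * 2 ^ n) := Nat.mul_le_mul_left _ ih
      _ = 121 * 2 ^ (n + 1) := by ring

/-- **The finite domain.** -/
theorem fin_two_B (h7 : P ^ 7 ≤ 3 ^ 28 * (2 ^ 84) ^ 5 * h ^ 80) (hu : 2 ^ h ≤ u) (hu10 : u ^ 10 ≤ 3 * P) (hh : Odd h) :
    (h = 1 ∧ P < 2 ^ 67) ∨ (3 ≤ h ∧ P < 2 ^ 103) := by
  rcases Nat.lt_or_ge h 3 with h3 | h3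
  · have h1 : h = 1 := by
      obtain ⟨j, hj⟩ := hh
      omega
    subst h1
    refine Or.inl ⟨rfl, ?_⟩
    by_contra hcon
    rw [not_lt] at hcon
    have h4 := (Nat.pow_le_pow_left hcon 7).trans h7
    norm_num at h4
  · refine Or.inr ⟨h3, ?_⟩
    have h9 : h < 11 := by
      by_contra hcon
      rw [not_lt] at hcon
      obtain ⟨j, rfl⟩ := Nat.exists_eq_add_of_le hcon
      have h4 := sq_le_pow hcon
      rw [Nat.add_sub_cancel_left] at h4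
      have h5 : (2 ^ 10) ^ (11 + j) ≤ 3 * P := by
        calc (2 ^ 10) ^ (11 + j) = (2 ^ (11 + j)) ^ 10 := by rw [← pow_mul, ← pow_mul, mul_comm]
          _ ≤ u ^ 10 := Nat.pow_le_pow_left hu 10
          _ ≤ 3 * P := hu10
      have h6 : (2 ^ 40) ^ j * (((2 ^ 10) ^ 11) ^ 7 * (2 ^ 30) ^ j) ≤
          (2 ^ 40) ^ j * (3 ^ 35 * (2 ^ 84) ^ 5 * 121 ^ 40) := by
        calc (2 ^ 40) ^ j * (((2 ^ 10) ^ 11) ^ 7 * (2 ^ 30) ^ j) = ((2 ^ 10) ^ (11 + j)) ^ 7 := by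
              have e1 : (2 ^ 40) ^ j = (2 ^ j) ^ 40 := by rw [← pow_mul, ← pow_mul, mul_comm]
              have e2 : (2 ^ 30) ^ j = (2 ^ j) ^ 30 := by rw [← pow_mul, ← pow_mul, mul_comm]
              have e3 : (2 ^ 10) ^ (11 + j) = (2 ^ 10) ^ 11 * (2 ^ j) ^ 10 := by
                rw [pow_add, ← pow_mul 2 10 j, ← pow_mul 2 j 10, mul_comm 10 j]
              rw [e1, e2, e3]
              ring
          _ ≤ (3 * P) ^ 7 := Nat.pow_le_pow_left h5 7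
          _ = 3 ^ 7 * P ^ 7 := by ring
          _ ≤ 3 ^ 7 * (3 ^ 28 * (2 ^ 84) ^ 5 * (11 + j) ^ 80) := Nat.mul_le_mul_left _ h7
          _ = 3 ^ 35 * (2 ^ 84) ^ 5 * ((11 + j) ^ 2) ^ 40 := by ring
          _ ≤ 3 ^ 35 * (2 ^ 84) ^ 5 * (121 * 2 ^ j) ^ 40 := Nat.mul_le_mul_left _ (Nat.pow_le_pow_left h4 40)
          _ = (2 ^ 40) ^ j * (3 ^ 35 * (2 ^ 84) ^ 5 * 121 ^ 40) := by
            have e1 : (2 ^ 40) ^ j = (2 ^ j) ^ 40 := by rw [← pow_mul, ← pow_mul, mul_comm]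
            rw [e1]
            ring
      have h8 := Nat.le_of_mul_le_mul_left h6 (Nat.pow_pos (Nat.pow_pos two_pos))
      have h10 : ((2 ^ 10) ^ 11) ^ 7 * 1 ≤ ((2 ^ 10) ^ 11) ^ 7 * (2 ^ 30) ^ j :=
        Nat.mul_le_mul_left _ (Nat.one_le_pow _ _ (by norm_num))
      have h11 := h10.trans h8
      norm_num at h11
    by_contra hcon
    rw [not_lt] at hcon
    have h9' : h ≤ 9 := by
      obtain ⟨j, hj⟩ := hh
      omega
    have h4 : P ^ 7 ≤ 3 ^ 28 * (2 ^ 84) ^ 5 * 9 ^ 80 := h7.trans (by gcongr)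
    have h5 := (Nat.pow_le_pow_left hcon 7).trans h4
    norm_num at h5

end

end Cfsg.Agent.R2.Spec.X5
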