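import Cfsg.Agent.R2.Spec.X5.SizeOne

/-!
# S3435, box X5 (helper12): sizes, the class above
-/

set_option autoImplicit false

namespace Cfsg.Agent.R2.Spec.X5

open Cfsg.Agent.R2.Spec.P1.Eig

theorem AN_le {ε : ℤ} (hε : ε = 1 ∨ ε = -1) (k u : ℕ) : AN ε k u ≤ u ^ k + 1 := by
  rcases hε with rfl | rfl
  · rw [AN_one]; omega
  · rw [AN_neg]

theorem AN_ge {ε : ℤ} (hε : ε = 1 ∨ ε = -1) (k : ℕ) {u : ℕ} (hu : 1 ≤ u) : u ^ k ≤ AN ε k u + 1 := by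
  have := Nat.one_le_pow k u hu
  rcases hε with rfl | rfl
  · rw [AN_one]; omega
  · rw [AN_neg]; omega

theorem sq_le_two_mul {h u : ℕ} (hu : 2 ^ h ≤ u) (ho : Odd h) : h ^ 2 ≤ 2 * u := by
  refine le_trans ?_ (Nat.mul_le_mul_left 2 hu)
  obtain ⟨k, rfl⟩ := ho
  clear hu
  induction k with
  | zero => norm_num
  | succ n ih =>
    have e : 2 * 2 ^ (2 * (n + 1) + 1) = 4 * (2 * 2 ^ (2 * n + 1)) := by ring
    rw [e]
    rcases Nat.eq_zero_or_pos n with rfl | hn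
    · norm_num
    · have h5 : (2 * (n + 1) + 1) ^ 2 ≤ 4 * (2 * n + 1) ^ 2 := by
        obtain ⟨k, rfl⟩ := Nat.exists_eq_add_of_le hn
        ring_nf
        nlinarith [Nat.zero_le k, Nat.zero_le (k ^ 2)]
      exact h5.trans (Nat.mul_le_mul_left 4 ih)

/-- **Finishing.** -/
theorem fin_pow {P u q h : ℕ} (hP : 2 ^ 60 ≤ P) (hu : u ^ 5 ≤ 3 * P) (hq : q ^ 6 ≤ P) (hh : h ^ 2 ≤ 2 * u)
    (h1 : P ≤ 528 * (u ^ 3 * q) + 256 * (h * u * q ^ 2)) : False := by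
  have hP0 : 0 < P := lt_of_lt_of_le (by norm_num) hP
  rcases le_total (528 * (u ^ 3 * q)) (256 * (h * u * q ^ 2)) with h2 | h2
  · have h3 : P ≤ 512 * (h * u * q ^ 2) := by linarith
    have h4 : P ^ 2 ≤ 2 ^ 19 * (u ^ 3 * q ^ 4) := by
      calc P ^ 2 ≤ (512 * (h * u * q ^ 2)) ^ 2 := Nat.pow_le_pow_left h3 2
        _ = 2 ^ 18 * (h ^ 2 * (u ^ 2 * q ^ 4)) := by ring
        _ ≤ 2 ^ 18 * ((2 * u) * (u ^ 2 * q ^ 4)) := by gcongr
        _ = _ := by ring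
    have h5 : P ^ 19 * P ^ 11 ≤ P ^ 19 * ((2 ^ 19) ^ 15 * 3 ^ 9) := by
      calc P ^ 19 * P ^ 11 = (P ^ 2) ^ 15 := by ring
        _ ≤ (2 ^ 19 * (u ^ 3 * q ^ 4)) ^ 15 := Nat.pow_le_pow_left h4 15
        _ = (2 ^ 19) ^ 15 * ((u ^ 5) ^ 9 * (q ^ 6) ^ 10) := by ring
        _ ≤ (2 ^ 19) ^ 15 * ((3 * P) ^ 9 * P ^ 10) := by gcongr
        _ = P ^ 19 * ((2 ^ 19) ^ 15 * 3 ^ 9) := by ring
    have h6 := Nat.le_of_mul_le_mul_left h5 (by positivity)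
    have h7 := (Nat.pow_le_pow_left hP 11).trans h6
    exact absurd h7 (by norm_num)
  · have h3 : P ≤ 1056 * (u ^ 3 * q) := by linarith
    have h5 : P ^ 23 * P ^ 7 ≤ P ^ 23 * (1056 ^ 30 * 3 ^ 18) := by
      calc P ^ 23 * P ^ 7 = P ^ 30 := by ring
        _ ≤ (1056 * (u ^ 3 * q)) ^ 30 := Nat.pow_le_pow_left h3 30
        _ = 1056 ^ 30 * ((u ^ 5) ^ 18 * (q ^ 6) ^ 5) := by ring
        _ ≤ 1056 ^ 30 * ((3 * P) ^ 18 * P ^ 5) := by gcongr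
        _ = P ^ 23 * (1056 ^ 30 * 3 ^ 18) := by ring
    have h6 := Nat.le_of_mul_le_mul_left h5 (by positivity)
    have h7 := (Nat.pow_le_pow_left hP 7).trans h6
    exact absurd h7 (by norm_num)

/-- **Finishing, family `A`.** -/
theorem fin_powA {P u q h : ℕ} (hP : 2 ^ 60 ≤ P) (hu : u ^ 7 ≤ 3 * P) (hq : q ^ 6 ≤ P) (hh : h ^ 2 ≤ 2 * u)
    (h1 : P ≤ 80 * (u ^ 2 * q) + 64 * (h * u ^ 2 * q ^ 2)) : False := by
  have hP0 : 0 < P := lt_of_lt_of_le (by norm_num) hP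
  rcases le_total (80 * (u ^ 2 * q)) (64 * (h * u ^ 2 * q ^ 2)) with h2 | h2
  · have h3 : P ≤ 128 * (h * u ^ 2 * q ^ 2) := by linarith
    have h4 : P ^ 2 ≤ 2 ^ 15 * (u ^ 5 * q ^ 4) := by
      calc P ^ 2 ≤ (128 * (h * u ^ 2 * q ^ 2)) ^ 2 := Nat.pow_le_pow_left h3 2
        _ = 2 ^ 14 * (h ^ 2 * (u ^ 4 * q ^ 4)) := by ring
        _ ≤ 2 ^ 14 * ((2 * u) * (u ^ 4 * q ^ 4)) := by gcongr
        _ = _ := by ring
    have h5 : P ^ 29 * P ^ 13 ≤ P ^ 29 * ((2 ^ 15) ^ 21 * 3 ^ 15) := by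
      calc P ^ 29 * P ^ 13 = (P ^ 2) ^ 21 := by ring
        _ ≤ (2 ^ 15 * (u ^ 5 * q ^ 4)) ^ 21 := Nat.pow_le_pow_left h4 21
        _ = (2 ^ 15) ^ 21 * ((u ^ 7) ^ 15 * (q ^ 6) ^ 14) := by ring
        _ ≤ (2 ^ 15) ^ 21 * ((3 * P) ^ 15 * P ^ 14) := by gcongr
        _ = P ^ 29 * ((2 ^ 15) ^ 21 * 3 ^ 15) := by ring
    have h6 := Nat.le_of_mul_le_mul_left h5 (by positivity)
    have h7 := (Nat.pow_le_pow_left hP 13).trans h6
    exact absurd h7 (by norm_num)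
  · have h3 : P ≤ 160 * (u ^ 2 * q) := by linarith
    have h5 : P ^ 19 * P ^ 23 ≤ P ^ 19 * (160 ^ 42 * 3 ^ 12) := by
      calc P ^ 19 * P ^ 23 = P ^ 42 := by ring
        _ ≤ (160 * (u ^ 2 * q)) ^ 42 := Nat.pow_le_pow_left h3 42
        _ = 160 ^ 42 * ((u ^ 7) ^ 12 * (q ^ 6) ^ 7) := by ring
        _ ≤ 160 ^ 42 * ((3 * P) ^ 12 * P ^ 7) := by gcongr
        _ = P ^ 19 * (160 ^ 42 * 3 ^ 12) := by ring
    have h6 := Nat.le_of_mul_le_mul_left h5 (by positivity)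
    have h7 := (Nat.pow_le_pow_left hP 23).trans h6
    exact absurd h7 (by norm_num)

section

variable {q V h F c0 P0 u k0 T κ c1 P w d : ℕ} {ε0 ε δ : ℤ}

theorem Dat.cP (D : Dat q V h F c0 P0 u k0 ε0) (hV : q * V = P) : c0 * (P + 1) = 2 * h * F * AN ε0 k0 u := by
  have h1 := D.l
  have h2 := D.s
  rw [hV] at h1
  calc c0 * (P + 1) = 2 * h * (c0 * P0) := by rw [← h1]; ring
    _ = 2 * h * F * AN ε0 k0 u := by rw [h2]; ring

/-- **The class above, families `D`: sizes.** -/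
theorem Dat.e3_size (D : Dat q V h F c0 P0 u k0 ε0) (hV : q * V = P) (hP : 2 ^ 60 ≤ P) (hqP : q ^ 6 ≤ P) (hk0 : 5 ≤ k0)
    (hh : h ^ 2 ≤ 2 * u) (hh1 : 1 ≤ h) (hF : 1 ≤ F) (hFu : F ≤ u + 1) (hc0 : 1 ≤ c0) (hc0' : c0 ≤ 4) (hq1 : 1 ≤ q)
    (hκ : κ ≤ q + 1) (hε : ε = 1 ∨ ε = -1) (hc1 : c1 ≤ 4) (hT : T * c1 = AN ε (k0 + 1) u)
    (h3 : T ≤ κ * (2 * h * F * (u + 1) + u * c0 * (q + 1))) : False := by
  have hu := D.upos
  have hcP := D.cP hV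
  have a1 := AN_le D.pm k0 u
  have a2 := AN_ge D.pm k0 hu
  have a3 := AN_ge hε (k0 + 1) hu
  have hu5 : u ^ 5 ≤ 3 * P := by
    have e1 : u ^ 5 ≤ u ^ k0 := Nat.pow_le_pow_right hu hk0
    have e2 : 2 * AN ε0 k0 u ≤ 4 * (P + 1) := by
      calc 2 * AN ε0 k0 u ≤ 2 * h * F * AN ε0 k0 u := by
            gcongr
            nlinarith
        _ = c0 * (P + 1) := hcP.symm
        _ ≤ 4 * (P + 1) := by gcongr
    omega
  have e1 : P + 1 ≤ 2 * h * (u + 1) * (u ^ k0 + 1) := by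
    calc P + 1 ≤ c0 * (P + 1) := Nat.le_mul_of_pos_left _ hc0
      _ = 2 * h * F * AN ε0 k0 u := hcP
      _ ≤ 2 * h * (u + 1) * (u ^ k0 + 1) := by gcongr
  have e2 : u ^ (k0 + 1) ≤ 1 + 4 * ((q + 1) * (2 * h * (u + 1) * (u + 1) + u * 4 * (q + 1))) := by
    calc u ^ (k0 + 1) ≤ AN ε (k0 + 1) u + 1 := a3
      _ = 1 + c1 * T := by rw [← hT]; ring
      _ ≤ 1 + 4 * ((q + 1) * (2 * h * (u + 1) * (u + 1) + u * 4 * (q + 1))) := by
        gcongr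
        refine h3.trans ?_
        gcongr
  have e3 : u * (P + 1) ≤ u * (8 * h * u + 256 * (h ^ 2 * u ^ 2 * q) + 256 * (h * u * q ^ 2)) := by
    calc u * (P + 1) ≤ u * (2 * h * (u + 1) * (u ^ k0 + 1)) := Nat.mul_le_mul_left _ e1
      _ = 2 * h * (u + 1) * (u ^ (k0 + 1) + u) := by ring
      _ ≤ 2 * h * (u + u) * ((1 + 4 * ((q + 1) * (2 * h * (u + 1) * (u + 1) + u * 4 * (q + 1)))) + u) := by gcongr
      _ ≤ 2 * h * (u + u) * ((u + 4 * ((q + q) * (2 * h * (u + u) * (u + u) + u * 4 * (q + q)))) + u) := by gcongr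
      _ = u * (8 * h * u + 256 * (h ^ 2 * u ^ 2 * q) + 256 * (h * u * q ^ 2)) := by ring
  have e4 := Nat.le_of_mul_le_mul_left e3 hu
  refine fin_pow hP hu5 hqP hh ?_
  have e5 : h * u ≤ h ^ 2 * u ^ 2 * q := by
    calc h * u = h * u * 1 := by ring
      _ ≤ h * u * (h * u * q) := by
        gcongr
        exact Nat.mul_pos (Nat.mul_pos hh1 hu) hq1
      _ = _ := by ring
  have e6 : h ^ 2 * u ^ 2 * q ≤ 2 * (u ^ 3 * q) := by
    calc h ^ 2 * u ^ 2 * q ≤ (2 * u) * u ^ 2 * q := by gcongr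
      _ = _ := by ring
  linarith

/-- **The class above, family `A`: sizes.** -/
theorem Dat.e3_sizeA (D : Dat q V h 1 d P0 u k0 ε0) (hV : q * V = P) (hP : 2 ^ 60 ≤ P) (hqP : q ^ 6 ≤ P) (hk0 : 8 ≤ k0)
    (hh : h ^ 2 ≤ 2 * u) (hh1 : 1 ≤ h) (hd : 1 ≤ d) (hdw : d ≤ w) (hw : w ≤ u + 1) (hq1 : 1 ≤ q)
    (hκ : κ ≤ q + 1) (hε : ε = 1 ∨ ε = -1) (hT : T * (w * d) = AN ε (k0 + 1) u)
    (h3 : T ≤ κ * (2 * h * 1 * (u + 1) + u * d * (q + 1))) : False := by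
  have hu := D.upos
  have hcP := D.cP hV
  have a1 := AN_le D.pm k0 u
  have a2 := AN_ge D.pm k0 hu
  have a3 := AN_ge hε (k0 + 1) hu
  have hu7 : u ^ 7 ≤ 3 * P := by
    have e1 : u ^ 8 ≤ u ^ k0 := Nat.pow_le_pow_right hu hk0
    have e2 : 2 * AN ε0 k0 u ≤ (2 * u) * (P + 1) := by
      calc 2 * AN ε0 k0 u ≤ 2 * h * 1 * AN ε0 k0 u := by
            gcongr
            omega
        _ = d * (P + 1) := hcP.symm
        _ ≤ (2 * u) * (P + 1) := by gcongr; omega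
    have e3 : AN ε0 k0 u ≤ u * (P + 1) := by linarith
    have e4 : u * u ^ 7 ≤ u * (P + 2) := by
      have : u * u ^ 7 = u ^ 8 := by ring
      rw [this]
      have : u * (P + 2) = u * (P + 1) + u := by ring
      omega
    have e5 := Nat.le_of_mul_le_mul_left e4 hu
    omega
  have e2 : u ^ (k0 + 1) ≤ 1 + (w * d) * ((q + 1) * (2 * h * 1 * (u + 1) + u * d * (q + 1))) := by
    calc u ^ (k0 + 1) ≤ AN ε (k0 + 1) u + 1 := a3
      _ = 1 + (w * d) * T := by rw [← hT]; ring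
      _ ≤ 1 + (w * d) * ((q + 1) * (2 * h * 1 * (u + 1) + u * d * (q + 1))) := by
        gcongr
        refine h3.trans ?_
        gcongr
  have e3 : (u * d) * (P + 1) ≤ (u * d) * (4 * h + 32 * (h ^ 2 * u * q) + 64 * (h * u ^ 2 * q ^ 2)) := by
    calc (u * d) * (P + 1) = u * (d * (P + 1)) := by ring
      _ = u * (2 * h * 1 * AN ε0 k0 u) := by rw [hcP]
      _ ≤ u * (2 * h * 1 * (u ^ k0 + 1)) := by gcongr
      _ = 2 * h * (u ^ (k0 + 1) + u) := by ring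
      _ ≤ 2 * h * ((1 + (w * d) * ((q + 1) * (2 * h * 1 * (u + 1) + u * d * (q + 1)))) + u) := by gcongr
      _ ≤ 2 * h * ((u * d + ((u + u) * d) * ((q + q) * (2 * h * 1 * (u + u) + u * (u + u) * (q + q)))) + u * d) := by
        gcongr
        · exact Nat.mul_pos hu hd
        · omega
        · omega
        · exact Nat.le_mul_of_pos_right _ hd
      _ = (u * d) * (4 * h + 32 * (h ^ 2 * u * q) + 32 * (h * u ^ 2 * q ^ 2)) := by ring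
      _ ≤ _ := by gcongr; norm_num
  have e4 := Nat.le_of_mul_le_mul_left e3 (Nat.mul_pos hu hd)
  refine fin_powA hP hu7 hqP hh ?_
  have e5 : h ≤ h ^ 2 * u * q := by
    calc h = h * 1 := by ring
      _ ≤ h * (h * u * q) := by
        gcongr
        exact Nat.mul_pos (Nat.mul_pos hh1 hu) hq1
      _ = _ := by ring
  have e6 : h ^ 2 * u * q ≤ 2 * (u ^ 2 * q) := by
    calc h ^ 2 * u * q ≤ (2 * u) * u * q := by gcongr
      _ = _ := by ring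
  omega

/-- **The class below the top, family `A`: sizes.** -/
theorem Dat.e1_sizeA (D : Dat q V h 1 c0 P0 u (k0 + 1) ε0) (hV : q * V = P) (hP : 2 ^ 60 ≤ P) (hqP : q ^ 6 ≤ P)
    (hk0 : 8 ≤ k0) (hu2 : 2 ≤ u) (hc0 : c0 = w * d)
    (hh : h ^ 2 ≤ 2 * u) (hh1 : 1 ≤ h) (hd : 1 ≤ d) (hdw : d ≤ w) (hw : w ≤ u + 1) (hwu : u ≤ w + 1) (hq1 : 1 ≤ q)
    (hκ : κ ≤ q + 1) (hε : ε = 1 ∨ ε = -1) (hc1 : c1 ≤ d) (hT : T * c1 = AN ε k0 u)
    (h3 : T ≤ κ * (2 * h * 1 * (u ^ 1 + 1) + c0 * (q + 1))) : False := by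
  have hu := D.upos
  have hcP := D.cP hV
  rw [pow_one] at h3
  subst hc0
  have a1 := AN_le D.pm (k0 + 1) u
  have a2 := AN_ge D.pm (k0 + 1) hu
  have a3 := AN_ge hε k0 hu
  have hw1 : 1 ≤ w := by omega
  have hu7 : u ^ 7 ≤ 3 * P := by
    have e1 : u ^ 9 ≤ u ^ (k0 + 1) := Nat.pow_le_pow_right hu (by omega)
    have e2 : 2 * AN ε0 (k0 + 1) u ≤ (4 * u ^ 2) * (P + 1) := by
      calc 2 * AN ε0 (k0 + 1) u ≤ 2 * h * 1 * AN ε0 (k0 + 1) u := by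
            gcongr
            omega
        _ = (w * d) * (P + 1) := hcP.symm
        _ ≤ ((u + u) * (u + u)) * (P + 1) := by gcongr <;> omega
        _ = _ := by ring
    have e3 : AN ε0 (k0 + 1) u ≤ u ^ 2 * (2 * (P + 1)) := by linarith
    have e4 : u ^ 2 * u ^ 7 ≤ u ^ 2 * (2 * (P + 1) + 1) := by
      have : u ^ 2 * u ^ 7 = u ^ 9 := by ring
      rw [this]
      have : u ^ 2 * (2 * (P + 1) + 1) = u ^ 2 * (2 * (P + 1)) + u ^ 2 := by ring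
      have h4 : 1 ≤ u ^ 2 := Nat.one_le_pow _ _ hu
      omega
    have e5 := Nat.le_of_mul_le_mul_left e4 (by positivity)
    omega
  have e2 : u ^ k0 ≤ 1 + d * ((q + 1) * (2 * h * 1 * (u + 1) + (w * d) * (q + 1))) := by
    calc u ^ k0 ≤ AN ε k0 u + 1 := a3
      _ = 1 + c1 * T := by rw [← hT]; ring
      _ ≤ 1 + d * ((q + 1) * (2 * h * 1 * (u + 1) + (w * d) * (q + 1))) := by
        gcongr
        refine h3.trans ?_
        gcongr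
  have e3 : (w * d) * (P + 1) ≤ (w * d) * (6 * h + 32 * (h ^ 2 * u * q) + 64 * (h * u ^ 2 * q ^ 2)) := by
    calc (w * d) * (P + 1) = (2 * h * 1 * AN ε0 (k0 + 1) u) := by rw [hcP]
      _ ≤ (2 * h * 1 * (u ^ (k0 + 1) + 1)) := by gcongr
      _ = 2 * h * (u * u ^ k0 + 1) := by ring
      _ ≤ 2 * h * (u * (1 + d * ((q + 1) * (2 * h * 1 * (u + 1) + (w * d) * (q + 1)))) + 1) := by gcongr
      _ = 2 * h * (u + 1 + u * d * ((q + 1) * (2 * h * 1 * (u + 1) + (w * d) * (q + 1)))) := by ring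
      _ ≤ 2 * h * (3 * (w * d) + (2 * w) * d * ((q + q) * (2 * h * 1 * (u + u) + ((u + u) * (u + u)) * (q + q)))) := by
        have g1 : u + 1 ≤ 3 * (w * d) := by
          have : w ≤ w * d := Nat.le_mul_of_pos_right _ hd
          omega
        gcongr <;> omega
      _ = (w * d) * (6 * h + 32 * (h ^ 2 * u * q) + 64 * (h * u ^ 2 * q ^ 2)) := by ring
  have e4 := Nat.le_of_mul_le_mul_left e3 (Nat.mul_pos hw1 hd)
  refine fin_powA hP hu7 hqP hh ?_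
  have e5 : h ≤ h ^ 2 * u * q := by
    calc h = h * 1 := by ring
      _ ≤ h * (h * u * q) := by
        gcongr
        exact Nat.mul_pos (Nat.mul_pos hh1 hu) hq1
      _ = _ := by ring
  have e6 : h ^ 2 * u * q ≤ 2 * (u ^ 2 * q) := by
    calc h ^ 2 * u * q ≤ (2 * u) * u * q := by gcongr
      _ = _ := by ring
  linarith

end

end Cfsg.Agent.R2.Spec.X5
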