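import Cfsg.Agent.R2.Spec.X5.Core

/-!
# S3435, box X5 (helper12): sizes, one torus and the primitive part
-/

set_option autoImplicit false

namespace Cfsg.Agent.R2.Spec.X5

/-- the bound of `G = H Y` by the primitive part -/
theorem size_g {G X c0 P w ρ a g Q : ℕ} (hw : 1 ≤ w) (h1 : G * X ≤ c0 * (P + 1) + G) (h4 : w * ρ ≤ a * (X + 1))
    (hnum : a * (P + 1) + 2 * a * (g * Q) ≤ g * Q * ρ) (hρ : 2 * a < ρ) : w * G ≤ g * Q * c0 := by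
  by_contra hcon
  rw [not_le] at hcon
  have e1 : w * G * ρ ≤ a * c0 * (P + 1) + 2 * a * (w * G) := by
    calc w * G * ρ = G * (w * ρ) := by ring
      _ ≤ G * (a * (X + 1)) := Nat.mul_le_mul_left _ h4
      _ = a * (G * X) + a * G := by ring
      _ ≤ a * (c0 * (P + 1) + G) + a * G := by gcongr
      _ = a * c0 * (P + 1) + 2 * a * G := by ring
      _ ≤ a * c0 * (P + 1) + 2 * a * (w * G) := by
        gcongr
        exact Nat.le_mul_of_pos_left _ hw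
  obtain ⟨ρ', hρ'⟩ := Nat.exists_eq_add_of_lt hρ
  rw [hρ'] at e1 hnum
  have e2 : w * G * (ρ' + 1) ≤ a * c0 * (P + 1) := by nlinarith
  have e3 : a * (P + 1) ≤ g * Q * (ρ' + 1) := by nlinarith
  have e4 : a * c0 * (P + 1) ≤ g * Q * c0 * (ρ' + 1) := by
    calc a * c0 * (P + 1) = c0 * (a * (P + 1)) := by ring
      _ ≤ c0 * (g * Q * (ρ' + 1)) := Nat.mul_le_mul_left _ e3
      _ = g * Q * c0 * (ρ' + 1) := by ring
  have e5 : g * Q * c0 * (ρ' + 1) < w * G * (ρ' + 1) := Nat.mul_lt_mul_of_pos_right hcon (by omega)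
  omega

/-- families `B`, `C`, `D` -/
theorem size_one_B {G X c0 c1 P q ρ a g Q : ℕ} (h1 : G * X ≤ c0 * (P + 1) + G) (h2 : c0 * (P + 1) ≤ G * (X + 1))
    (h3 : X ≤ 1 + c1 * ((q + 1) * (2 * G + c0 * (q + 1)))) (h4 : ρ ≤ a * (X + 1))
    (hnum : a * (P + 1) + 2 * a * (g * Q) ≤ g * Q * ρ) (hρ : 2 * a < ρ) (hc0 : 1 ≤ c0) (hc0' : c0 ≤ 4) (hc1 : c1 ≤ 2) :
    P + 1 ≤ g * Q * (2 + 2 * ((q + 1) * (8 * (g * Q) + 4 * (q + 1)))) := by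
  have hG := size_g (w := 1) le_rfl h1 (by rwa [one_mul]) hnum hρ
  rw [one_mul] at hG
  have e1 : c0 * (P + 1) ≤ c0 * (g * Q * (2 + 2 * ((q + 1) * (8 * (g * Q) + 4 * (q + 1))))) := by
    calc c0 * (P + 1) ≤ G * (X + 1) := h2
      _ ≤ (g * Q * c0) * (1 + 2 * ((q + 1) * (2 * (g * Q * 4) + 4 * (q + 1))) + 1) := by
        gcongr
        refine h3.trans ?_
        have : G ≤ g * Q * 4 := hG.trans (Nat.mul_le_mul_left _ hc0')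
        gcongr
      _ = c0 * (g * Q * (2 + 2 * ((q + 1) * (8 * (g * Q) + 4 * (q + 1))))) := by ring
  exact Nat.le_of_mul_le_mul_left e1 hc0

/-- family `A` -/
theorem size_one_A {G X c0 w d P q ρ a g Q : ℕ} (h1 : G * X ≤ c0 * (P + 1) + G) (h2 : c0 * (P + 1) ≤ G * (X + 1))
    (h3 : X ≤ 1 + (q + 1) * (2 * G + c0 * (q + 1))) (h4 : w * ρ ≤ a * (X + 1))
    (hnum : a * (P + 1) + 2 * a * (g * Q) ≤ g * Q * ρ) (hρ : 2 * a < ρ) (hd : 1 ≤ d) (hdw : d ≤ w)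
    (hc : c0 = w * d ∨ c0 = d) :
    P + 1 ≤ g * Q * (2 + (q + 1) * (2 * (g * Q) + w * (q + 1))) := by
  have hw : 1 ≤ w := hd.trans hdw
  have hG := size_g hw h1 h4 hnum hρ
  obtain ⟨c, hc1, hcw⟩ : ∃ c, c0 = c * d ∧ 1 ≤ c ∧ c ≤ w := by
    rcases hc with h | h
    · exact ⟨w, h, hw, le_rfl⟩
    · exact ⟨1, by rw [h, one_mul], le_rfl, hw⟩
  obtain ⟨hcw1, hcw2⟩ := hcw
  have hGd : G ≤ g * Q * d := by
    refine Nat.le_of_mul_le_mul_left (hG.trans ?_) hw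
    rw [hc1]
    calc g * Q * (c * d) ≤ g * Q * (w * d) := by gcongr
      _ = w * (g * Q * d) := by ring
  have e1 : (w * c0) * (P + 1) ≤ (w * c0) * (g * Q * (2 + (q + 1) * (2 * (g * Q) + w * (q + 1)))) := by
    calc (w * c0) * (P + 1) = w * (c0 * (P + 1)) := by ring
      _ ≤ w * (G * (X + 1)) := Nat.mul_le_mul_left _ h2
      _ = w * G * (X + 1) := by ring
      _ ≤ (g * Q * c0) * (1 + (q + 1) * (2 * (g * Q * d) + w * d * (q + 1)) + 1) := by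
        gcongr
        refine h3.trans ?_
        have : c0 ≤ w * d := by
          rw [hc1]
          exact Nat.mul_le_mul_right _ hcw2
        gcongr
      _ ≤ (g * Q * c0) * (w * 1 + (q + 1) * (2 * (g * Q * w) + w * w * (q + 1)) + w * 1) := by
        gcongr <;> omega
      _ = (w * c0) * (g * Q * (2 + (q + 1) * (2 * (g * Q) + w * (q + 1)))) := by ring
  refine Nat.le_of_mul_le_mul_left e1 (Nat.mul_pos hw ?_)
  rw [hc1]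
  exact Nat.mul_pos hcw1 hd

/-- the numbers -/
theorem num6 {q : ℕ} (hq : 1149 ≤ q) :
    15 * (q ^ 6 + 1) + 2 * 15 * (8 * q ^ 2) ≤ 8 * q ^ 2 * (2 * q ^ 4) ∧ 2 * 15 < 2 * q ^ 4 ∧
    8 * q ^ 2 * (2 + 2 * ((q + 1) * (8 * (8 * q ^ 2) + 4 * (q + 1)))) < q ^ 6 + 1 := by
  obtain ⟨k, rfl⟩ := Nat.exists_eq_add_of_le hq
  refine ⟨?_, ?_, ?_⟩
  · ring_nf
    linarith [Nat.zero_le k, Nat.zero_le (k ^ 2), Nat.zero_le (k ^ 3), Nat.zero_le (k ^ 4), Nat.zero_le (k ^ 5), Nat.zero_le (k ^ 6)]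
  · calc 2 * 15 < 2 * 1149 ^ 4 := by norm_num
      _ ≤ _ := by gcongr
  · ring_nf
    linarith [Nat.zero_le k, Nat.zero_le (k ^ 2), Nat.zero_le (k ^ 3), Nat.zero_le (k ^ 4), Nat.zero_le (k ^ 5), Nat.zero_le (k ^ 6)]

theorem num8 {q : ℕ} (hq : 197 ≤ q) :
    21 * (q ^ 8 + 1) + 2 * 21 * (11 * q ^ 2) ≤ 11 * q ^ 2 * (2 * q ^ 6) ∧ 2 * 21 < 2 * q ^ 6 ∧
    11 * q ^ 2 * (2 + 2 * ((q + 1) * (8 * (11 * q ^ 2) + 4 * (q + 1)))) < q ^ 8 + 1 := by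
  obtain ⟨k, rfl⟩ := Nat.exists_eq_add_of_le hq
  refine ⟨?_, ?_, ?_⟩
  · ring_nf
    linarith [Nat.zero_le k, Nat.zero_le (k ^ 2), Nat.zero_le (k ^ 3), Nat.zero_le (k ^ 4), Nat.zero_le (k ^ 5), Nat.zero_le (k ^ 6), Nat.zero_le (k ^ 7), Nat.zero_le (k ^ 8)]
  · calc 2 * 21 < 2 * 197 ^ 6 := by norm_num
      _ ≤ _ := by gcongr
  · ring_nf
    linarith [Nat.zero_le k, Nat.zero_le (k ^ 2), Nat.zero_le (k ^ 3), Nat.zero_le (k ^ 4), Nat.zero_le (k ^ 5), Nat.zero_le (k ^ 6), Nat.zero_le (k ^ 7), Nat.zero_le (k ^ 8)]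

theorem num10 {q : ℕ} (hq : 337 ≤ q) :
    4 * (q ^ 10 + 1) + 2 * 4 * (1 * (4 * q ^ 4 + 1)) ≤ 1 * (4 * q ^ 4 + 1) * (q ^ 6) ∧ 2 * 4 < q ^ 6 ∧
    1 * (4 * q ^ 4 + 1) * (2 + 2 * ((q + 1) * (8 * (1 * (4 * q ^ 4 + 1)) + 4 * (q + 1)))) < q ^ 10 + 1 := by
  obtain ⟨k, rfl⟩ := Nat.exists_eq_add_of_le hq
  refine ⟨?_, ?_, ?_⟩
  · ring_nf
    linarith [Nat.zero_le k, Nat.zero_le (k ^ 2), Nat.zero_le (k ^ 3), Nat.zero_le (k ^ 4), Nat.zero_le (k ^ 5), Nat.zero_le (k ^ 6), Nat.zero_le (k ^ 7), Nat.zero_le (k ^ 8), Nat.zero_le (k ^ 9), Nat.zero_le (k ^ 10)]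
  · calc 2 * 4 < 337 ^ 6 := by norm_num
      _ ≤ _ := by gcongr
  · ring_nf
    linarith [Nat.zero_le k, Nat.zero_le (k ^ 2), Nat.zero_le (k ^ 3), Nat.zero_le (k ^ 4), Nat.zero_le (k ^ 5), Nat.zero_le (k ^ 6), Nat.zero_le (k ^ 7), Nat.zero_le (k ^ 8), Nat.zero_le (k ^ 9), Nat.zero_le (k ^ 10)]

/-- the numbers, family `A` (`w + 1 ≤ 3 q`) -/
theorem num6A {q w : ℕ} (hq : 1149 ≤ q) (hw : w ≤ 3 * q) :
    8 * q ^ 2 * (2 + (q + 1) * (2 * (8 * q ^ 2) + w * (q + 1))) < q ^ 6 + 1 := by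
  refine lt_of_le_of_lt (b := 8 * q ^ 2 * (2 + (q + 1) * (2 * (8 * q ^ 2) + 3 * q * (q + 1)))) (by gcongr) ?_
  obtain ⟨k, rfl⟩ := Nat.exists_eq_add_of_le hq
  ring_nf
  linarith [Nat.zero_le k, Nat.zero_le (k ^ 2), Nat.zero_le (k ^ 3), Nat.zero_le (k ^ 4), Nat.zero_le (k ^ 5), Nat.zero_le (k ^ 6)]

theorem num8A {q w : ℕ} (hq : 197 ≤ q) (hw : w ≤ 3 * q) :
    11 * q ^ 2 * (2 + (q + 1) * (2 * (11 * q ^ 2) + w * (q + 1))) < q ^ 8 + 1 := by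
  refine lt_of_le_of_lt (b := 11 * q ^ 2 * (2 + (q + 1) * (2 * (11 * q ^ 2) + 3 * q * (q + 1)))) (by gcongr) ?_
  obtain ⟨k, rfl⟩ := Nat.exists_eq_add_of_le hq
  ring_nf
  linarith [Nat.zero_le k, Nat.zero_le (k ^ 2), Nat.zero_le (k ^ 3), Nat.zero_le (k ^ 4), Nat.zero_le (k ^ 5), Nat.zero_le (k ^ 6), Nat.zero_le (k ^ 7), Nat.zero_le (k ^ 8)]

theorem num10A {q w : ℕ} (hq : 69 ≤ q) (hw : w ≤ 3 * q) :
    4 * (q ^ 10 + 1) + 2 * 4 * (5 * q ^ 4) ≤ 5 * q ^ 4 * (q ^ 6) ∧ 2 * 4 < q ^ 6 ∧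
    5 * q ^ 4 * (2 + (q + 1) * (2 * (5 * q ^ 4) + w * (q + 1))) < q ^ 10 + 1 := by
  refine ⟨?_, ?_, lt_of_le_of_lt (b := 5 * q ^ 4 * (2 + (q + 1) * (2 * (5 * q ^ 4) + 3 * q * (q + 1)))) (by gcongr) ?_⟩
  · obtain ⟨k, rfl⟩ := Nat.exists_eq_add_of_le hq
    ring_nf
    linarith [Nat.zero_le k, Nat.zero_le (k ^ 2), Nat.zero_le (k ^ 3), Nat.zero_le (k ^ 4), Nat.zero_le (k ^ 5), Nat.zero_le (k ^ 6), Nat.zero_le (k ^ 7), Nat.zero_le (k ^ 8), Nat.zero_le (k ^ 9), Nat.zero_le (k ^ 10)]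
  · calc 2 * 4 < 69 ^ 6 := by norm_num
      _ ≤ _ := by gcongr
  · obtain ⟨k, rfl⟩ := Nat.exists_eq_add_of_le hq
    ring_nf
    linarith [Nat.zero_le k, Nat.zero_le (k ^ 2), Nat.zero_le (k ^ 3), Nat.zero_le (k ^ 4), Nat.zero_le (k ^ 5), Nat.zero_le (k ^ 6), Nat.zero_le (k ^ 7), Nat.zero_le (k ^ 8), Nat.zero_le (k ^ 9), Nat.zero_le (k ^ 10)]

/-- families `B`, `C`, `D`, the primitive part alone -/
theorem size_R {G X c0 P q ρ a g Q R : ℕ} (h1 : G * X ≤ c0 * (P + 1) + G) (h4 : R ≤ X + 1) (h5 : ρ ≤ a * R)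
    (h6 : R ≤ 2 * G + c0 * (q + 1))
    (hnum : a * (P + 1) + 2 * a * (g * Q) ≤ g * Q * ρ) (hρ : 2 * a < ρ) (hc0' : c0 ≤ 4) :
    ρ ≤ a * (8 * (g * Q) + 4 * (q + 1)) := by
  have hG := size_g (w := 1) le_rfl h1 (by rw [one_mul]; exact h5.trans (Nat.mul_le_mul_left _ h4)) hnum hρ
  rw [one_mul] at hG
  refine h5.trans (Nat.mul_le_mul_left _ (h6.trans ?_))
  have : G ≤ g * Q * 4 := hG.trans (Nat.mul_le_mul_left _ hc0')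
  calc 2 * G + c0 * (q + 1) ≤ 2 * (g * Q * 4) + 4 * (q + 1) := by gcongr
    _ = _ := by ring

theorem num10R {q : ℕ} (hq : 69 ≤ q) :
    4 * (q ^ 10 + 1) + 2 * 4 * (1 * (4 * q ^ 4 + 1)) ≤ 1 * (4 * q ^ 4 + 1) * (q ^ 6) ∧ 2 * 4 < q ^ 6 ∧
    4 * (8 * (1 * (4 * q ^ 4 + 1)) + 4 * (q + 1)) < q ^ 6 := by
  obtain ⟨k, rfl⟩ := Nat.exists_eq_add_of_le hq
  refine ⟨?_, ?_, ?_⟩
  · ring_nf
    linarith [Nat.zero_le k, Nat.zero_le (k ^ 2), Nat.zero_le (k ^ 3), Nat.zero_le (k ^ 4), Nat.zero_le (k ^ 5), Nat.zero_le (k ^ 6), Nat.zero_le (k ^ 7), Nat.zero_le (k ^ 8), Nat.zero_le (k ^ 9), Nat.zero_le (k ^ 10)]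
  · calc 2 * 4 < 69 ^ 6 := by norm_num
      _ ≤ _ := by gcongr
  · ring_nf
    linarith [Nat.zero_le k, Nat.zero_le (k ^ 2), Nat.zero_le (k ^ 3), Nat.zero_le (k ^ 4), Nat.zero_le (k ^ 5), Nat.zero_le (k ^ 6)]

end Cfsg.Agent.R2.Spec.X5
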