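import Cfsg.Agent.R2.Spec.X5.NoA

/-!
# S3435, box X5 (helper12): `v ∣ (q ^ n + 1) / 2`, the type of `S`
-/

set_option autoImplicit false
set_option linter.unusedSectionVars false
set_option linter.unusedVariables false

namespace Cfsg.Agent.R2.Spec.X5

open Subgroup Cfsg
open Cfsg.Agent.H426.LieFam Cfsg.Agent.R2.Spec Cfsg.Agent.R2.Spec.P1 Cfsg.Agent.R2.Spec.F1
open Cfsg.Agent.H420.QR Cfsg.Agent.R2.Spec.P1.Eig Cfsg.Agent.H403.NumTop

universe u w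

variable {t : Fam} {p f : ℕ} {L : Type w} [Group L] [Finite L] {G : Type u} [Group G] [Finite G]
variable {K : Subgroup G} [K.Normal] {S : Subgroup (G ⧸ K)} [S.Normal]
variable {t' : Fam} {v f' : ℕ}

/-- **Two tori, families `B`, `C`**, `k + b ≤ m`. -/
theorem torC {t : Fam} {p f m : ℕ} {X : Type u} [Group X] (hp : p.Prime) (h : Fam.Is p f X t)
    (ht : t = .psp m ∨ t = .oodd m)
    {k b : ℕ} (hk : 1 ≤ k) (hb : 1 ≤ b) (hkm : k + b ≤ m) {δ δ' : ℤ} (hδ : δ = 1 ∨ δ = -1) (hδ' : δ' = 1 ∨ δ' = -1) :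
    ∃ x : X, ∃ c, c ∣ 2 ∧ orderOf x * c = Nat.lcm (AN δ k (p ^ f)) (AN δ' b (p ^ f)) := by
  rcases ht with rfl | rfl
  · obtain ⟨hm, -, F, _, _, hch, hF, ⟨E⟩⟩ := h
    obtain ⟨A, hA⟩ := sp_AN (F := F) hδ hk
    obtain ⟨B, hB⟩ := sp_AN (F := F) hδ' hb
    obtain ⟨C, hC⟩ := Cfsg.Agent.H376.SpEmb.exists_block (n := m) (by omega) A hA B hB
    obtain ⟨x, c, hc, hx⟩ := psp_of_sp hC
    refine ⟨E.symm x, c, hc, ?_⟩
    rw [MulEquiv.orderOf_eq, hx, Nat.card_eq_fintype_card, hF]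
  · obtain ⟨hm, hodd, F, _, _, hch, hF, ⟨E⟩⟩ := h
    have h2 : (2 : F) ≠ 0 := by
      intro h2
      have h3 : ((2 : ℕ) : F) = 0 := by exact_mod_cast h2
      rw [CharP.cast_eq_zero_iff F p] at h3
      have h4 := (Nat.prime_dvd_prime_iff_eq hp Nat.prime_two).1 h3
      rw [h4] at hodd
      have h5 : f ≠ 0 := by
        rintro rfl
        have := Fintype.one_lt_card (α := F)
        rw [hF] at this
        simp at this
      exact (Nat.not_even_iff_odd.2 hodd) (Nat.even_pow.2 ⟨even_two, h5⟩)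
    obtain ⟨x, c, hc, hx⟩ := odd_of_elt h2 hm hkm ((elt_AN (F := F) hδ hk).prod (elt_AN hδ' hb))
    refine ⟨E.symm x, c, hc, ?_⟩
    rw [MulEquiv.orderOf_eq, hx, Nat.card_eq_fintype_card, hF]

theorem four_dvd {u : ℕ} (hu : u % 2 = 1) : ∃ δ : ℤ, (δ = 1 ∨ δ = -1) ∧ 4 ∣ AN δ 1 u := by
  rcases (show u % 4 = 1 ∨ u % 4 = 3 by omega) with h | h
  · exact ⟨1, Or.inl rfl, by rw [AN_one, pow_one]; omega⟩
  · exact ⟨-1, Or.inr rfl, by rw [AN_neg, pow_one]; omega⟩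

theorem two_dvd_of_four {N c : ℕ} (h : 4 ∣ N * c) (hc : c ∣ 2) : 2 ∣ N := by
  obtain ⟨d, hd⟩ := hc
  obtain ⟨b, hb⟩ := h
  have h1 : N * 2 = 4 * b * d := by rw [hd, ← mul_assoc, hb]
  exact ⟨b * d, by nlinarith⟩

/-- a prime divides the torus of its class -/
theorem dvd_B {u r : ℕ} (hr : r.Prime) (h3 : 3 ≤ orderOf ((u : ℕ) : ZMod r)) (hu : 1 ≤ u) :
    r ∣ AN (eB (orderOf ((u : ℕ) : ZMod r))) (eta (orderOf ((u : ℕ) : ZMod r))) u := by
  have hf := Fact.mk hr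
  obtain ⟨j, hj⟩ : ∃ j, j = orderOf ((u : ℕ) : ZMod r) := ⟨_, rfl⟩
  rw [← hj] at h3 ⊢
  have h1 : ((u : ℕ) : ZMod r) ^ j = 1 := by rw [hj]; exact pow_orderOf_eq_one _
  rcases Nat.mod_two_eq_zero_or_one j with h | h
  · rw [eB_even h, AN_neg]
    have he := eta_even h
    have h2 : (((u : ℕ) : ZMod r) ^ (eta j)) ^ 2 = 1 := by rw [← pow_mul, mul_comm, he, h1]
    rcases (show _ = (1 : ZMod r) ∨ _ = (-1 : ZMod r) from sq_eq_one_iff.1 h2) with h4 | h4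
    · exfalso
      have h5 := orderOf_dvd_of_pow_eq_one h4
      rw [← hj] at h5
      have := Nat.le_of_dvd (by omega) h5
      omega
    · rw [← ZMod.natCast_eq_zero_iff]
      push_cast
      push_cast at h4
      rw [h4]
      ring
  · rw [eB_odd h, eta_odd h, AN_one, ← ZMod.natCast_eq_zero_iff, Nat.cast_sub (Nat.one_le_pow _ _ hu)]
    push_cast
    push_cast at h1
    rw [h1, sub_self]

/-- the number `A` -/
theorem factsA {q n : ℕ} (hqo : q % 2 = 1) (hq3 : 3 ≤ q) (hn : 2 ≤ n) (hn2 : n % 2 = 0) :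
    2 * ((q ^ n + 1) / 2) = q ^ n + 1 ∧ ((q ^ n + 1) / 2) % 2 = 1 ∧
      ∀ r : ℕ, r.Prime → r ∣ (q ^ n + 1) / 2 → 5 ≤ r ∧ ¬ r ∣ q ^ 2 - 1 ∧ ¬ r ∣ q := by
  obtain ⟨m, hm⟩ : ∃ m, n = 2 * m := ⟨n / 2, by omega⟩
  have hsq : ∃ k, q ^ n = 8 * k + 1 := by
    have h1 : q ^ 2 % 8 = 1 := by
      have h2 : q % 8 = 1 ∨ q % 8 = 3 ∨ q % 8 = 5 ∨ q % 8 = 7 := by omega
      rcases h2 with h2 | h2 | h2 | h2 <;> rw [Nat.pow_mod, h2]
    have h3 : q ^ n % 8 = 1 := by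
      rw [hm, pow_mul, Nat.pow_mod, h1, one_pow]
      rfl
    exact ⟨q ^ n / 8, by omega⟩
  obtain ⟨A, hA⟩ : ∃ A, A = (q ^ n + 1) / 2 := ⟨_, rfl⟩
  rw [← hA]
  have hA2 : 2 * A = q ^ n + 1 := by
    obtain ⟨k, hk⟩ := hsq
    omega
  have hAo : A % 2 = 1 := by
    obtain ⟨k, hk⟩ := hsq
    omega
  have hA3 : ¬ 3 ∣ A := by
    intro h3
    have h4 : 3 ∣ q ^ n + 1 := by rw [← hA2]; exact Dvd.dvd.mul_left h3 2
    have h5 : q ^ 2 % 3 = 0 ∨ q ^ 2 % 3 = 1 := by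
      rw [Nat.pow_mod]
      have : q % 3 = 0 ∨ q % 3 = 1 ∨ q % 3 = 2 := by omega
      rcases this with h6 | h6 | h6 <;> rw [h6]
      · left; rfl
      · right; rfl
      · right; rfl
    have h6 : q ^ n % 3 = 0 ∨ q ^ n % 3 = 1 := by
      rw [hm, pow_mul, Nat.pow_mod]
      rcases h5 with h5 | h5 <;> rw [h5]
      · left
        rw [zero_pow (by omega)]
        rfl
      · right
        rw [one_pow]
        rfl
    omega
  have hAd : A ∣ q ^ n + 1 := by rw [← hA2]; exact Dvd.intro_left 2 rfl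
  refine ⟨hA2, hAo, fun r hr hd => ?_⟩
  have hr2 : r ≠ 2 := by rintro rfl; omega
  have hr3 : r ≠ 3 := by rintro rfl; exact hA3 hd
  have hr4 : r ≠ 4 := by rintro rfl; exact absurd hr (by norm_num)
  have := hr.two_le
  have hd' := hd.trans hAd
  refine ⟨by omega, ?_, ?_⟩
  · intro h1
    have h2 : r ∣ q ^ n - 1 := by
      rw [hm, pow_mul]
      exact h1.trans (Nat.sub_one_dvd_pow_sub_one _ _)
    have h3 := Nat.one_le_pow n q (by omega)
    have h4 : r ∣ q ^ n + 1 - (q ^ n - 1) := Nat.dvd_sub hd' h2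
    rw [show q ^ n + 1 - (q ^ n - 1) = 2 by omega] at h4
    exact hr2 ((Nat.prime_dvd_prime_iff_eq hr Nat.prime_two).1 h4)
  · intro h1
    have h2 : r ∣ q ^ n := h1.trans (dvd_pow_self q (by omega))
    have h4 := (Nat.dvd_add_right h2).1 hd'
    exact hr.one_lt.ne' (Nat.dvd_one.1 h4)

/-- `v ∤ q ^ (n - 1) - δ` -/
theorem not_dvd_V {q n v : ℕ} {δ : ℤ} (hδ : δ = 1 ∨ δ = -1) (hq3 : 3 ≤ q) (hn : 2 ≤ n)
    (hv : v ∣ q ^ n + 1) (hv2 : ¬ v ∣ q ^ 2 - 1) : ¬ v ∣ AN δ (n - 1) q := by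
  intro h1
  apply hv2
  have hq1 : 1 ≤ q := by omega
  have h2 : (v : ℤ) ∣ (q : ℤ) ^ (n - 1) - δ := by
    rw [← AN_int hδ hq1]
    exact_mod_cast h1
  have h3 : (v : ℤ) ∣ (q : ℤ) ^ n + 1 := by exact_mod_cast hv
  have h4 : (v : ℤ) ∣ δ * q + 1 := by
    have h5 : δ * (q : ℤ) + 1 = ((q : ℤ) ^ n + 1) - q * ((q : ℤ) ^ (n - 1) - δ) := by
      have : (q : ℤ) ^ n = q * (q : ℤ) ^ (n - 1) := by rw [← pow_succ']; congr 1; omega
      rw [this]
      ring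
    rw [h5]
    exact dvd_sub h3 (h2.mul_left _)
  have h5 : (v : ℤ) ∣ (q : ℤ) ^ 2 - 1 := by
    have h6 : (q : ℤ) ^ 2 - 1 = (δ * q + 1) * (δ * q - 1) := by
      rcases hδ with rfl | rfl <;> ring
    rw [h6]
    exact h4.mul_right _
  have h6 : 1 ≤ q ^ 2 := Nat.one_le_pow _ _ hq1
  have h7 : ((q ^ 2 - 1 : ℕ) : ℤ) = (q : ℤ) ^ 2 - 1 := by
    rw [Nat.cast_sub h6]
    push_cast
    ring
  rw [← h7] at h5
  exact_mod_cast h5

/-- **The classes `n - 1`, `2 n - 2` are not adjacent to `v`.** -/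
theorem nap_icl (h : LS t p f L G) (hL : Fam.Is p f L t) (hR : Red G K S) (hF : Frm G K S t' v f') (hvp : v ≠ p)
    (hp2 : p ≠ 2) (ht : CE t) (hv : v ∣ ((p ^ f) ^ rk t + 1) / 2) {δ : ℤ} (hδ : δ = 1 ∨ δ = -1) {w : ℕ}
    (hw : w.Prime) (hwc : cls t (p ^ f) w = icl (rk t) δ) :
    3 ≤ cls t' (v ^ f') w ∧ nap t' (cls t' (v ^ f') w) := by
  obtain ⟨hn, hn2⟩ := ht.rk6
  have hq3 := h.q_three hp2
  have hS := h.bigS_CE hR hF hp2 ht
  obtain ⟨hA2, hAo, hAp⟩ := factsA (h.q_odd hp2) hq3 (by omega : 2 ≤ rk t) hn2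
  obtain ⟨hv5, hvq2, hvq⟩ := hAp v hF.prime hv
  have hJ := icl_JJ (δ := δ) hn
  have hwI := ht.in_J hJ hw hwc
  have hwv := h.ne_v_J hR hF hp2 ht hJ hw hwc
  have hwS := (h.good_J hR hF hp2 ht hJ hw hwc).2
  have hvN : v ∣ (p ^ f) ^ rk t + 1 := by rw [← hA2]; exact hv.mul_left 2
  have hq1 : 1 ≤ p ^ f := by omega
  have hnv : ¬ ∃ g : S, orderOf g = v * w := by
    intro hg
    obtain ⟨x, hx⟩ := (h.ord _).1 (exists_of_S hg)
    have h1 := (lwin_CE hL h.prime hp2 ht).win δ w hw (hwI.not_dvd h.fpos) (by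
      rw [← cls_eq_co (t := t) (by intro k hk; obtain ⟨n, rfl | rfl, -⟩ := ht <;> cases hk), hwc]
      unfold icl
      rcases hδ with rfl | rfl
      · right; simp
      · left; simp) x (by rw [hx]; exact Dvd.intro_left _ rfl)
    rw [hx] at h1
    have hV := not_dvd_V hδ hq3 (by omega : 2 ≤ rk t) hvN hvq2
    rcases h1 with h1 | h1
    · rcases hF.prime.dvd_mul.1 ((Dvd.intro _ rfl).trans h1) with h2 | h2
      · exact hV h2
      · exact hvp ((Nat.prime_dvd_prime_iff_eq hF.prime h.prime).1 h2)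
    · rcases hF.prime.dvd_mul.1 ((Dvd.intro _ rfl).trans h1) with h2 | h2
      · exact hV h2
      · apply hvq2
        have h3 : AN (-δ) 1 (p ^ f) ∣ (p ^ f) ^ 2 - 1 := by
          have h4 : (p ^ f) ^ 2 - 1 = (p ^ f + 1) * (p ^ f - 1) := by
            have := Nat.sq_sub_sq (p ^ f) 1
            rwa [one_pow] at this
          rw [h4]
          rcases hδ with rfl | rfl
          · rw [AN_neg, pow_one]
            exact Dvd.intro _ rfl
          · rw [show (- -1 : ℤ) = 1 by norm_num, AN_one, pow_one]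
            exact Dvd.intro_left _ rfl
        exact h2.trans h3
  rcases hF.vcase hw hwI.ne_two hwv hwS hnv with h1 | ⟨h1, h2, hk⟩
  · exact h1
  · have := (rk_of_bigS hF hS).2.2.1 hk
    omega

end Cfsg.Agent.R2.Spec.X5
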