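import Cfsg.Agent.R2.Spec.X5.VA

/-!
# S3435, box X5 (helper12): `v ∣ (q ^ n + 1) / 2`: `S = PΩ^-_2m(u)`, `m` even
-/

set_option autoImplicit false
set_option linter.unusedSectionVars false
set_option linter.unusedVariables false

namespace Cfsg.Agent.R2.Spec.X5

open Subgroup Cfsg
open Cfsg.Agent.H426.LieFam Cfsg.Agent.R2.Spec Cfsg.Agent.R2.Spec.P1 Cfsg.Agent.R2.Spec.F1
open Cfsg.Agent.H420.QR Cfsg.Agent.R2.Spec.P1.Eig Cfsg.Agent.H403.NumTop

universe u w

variable {t : Fam} {p f : ℕ} {L : Type w} [Group L] [Finite L] {G : Type u} [Group G] [Finite G]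
variable {K : Subgroup G} [K.Normal] {S : Subgroup (G ⧸ K)} [S.Normal]
variable {t' : Fam} {v f' : ℕ}

/-- the element orders of `S` divisible by a prime of the class `2 n` divide `A` -/
theorem ordA (h : LS t p f L G) (hL : Fam.Is p f L t) (hp2 : p ≠ 2) (ht : CE t) {w N : ℕ}
    (hw : w.Prime) (hwc : cls t (p ^ f) w = 2 * rk t) (hN : ∃ y : S, orderOf y = N) (hd : w ∣ N) :
    N ∣ ((p ^ f) ^ rk t + 1) / 2 := by
  obtain ⟨hn, hn2⟩ := ht.rk6
  have hqo := h.q_odd hp2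
  have hwI : In t (p ^ f) (2 * rk t) w := ht.in_J (by rw [mem_JJ]; omega) hw hwc
  have htf := top_facts_all ht.cla h.prime hL
  have htopL : P1.top t (2 * rk t) := by
    obtain ⟨k, rfl | rfl, -⟩ := ht
    · exact Or.inl rfl
    · exact Or.inl rfl
  have htt : ttor t (p ^ f) (2 * rk t) = ((p ^ f) ^ rk t + 1) / 2 := by
    obtain ⟨k, rfl | rfl, -⟩ := ht
    · change (if 2 * k = 2 * k then _ else _) = _
      rw [if_pos rfl, two_dvd_sub_one hqo]
      rfl
    · change (if 2 * k = 2 * k then _ else _) = _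
      rw [if_pos rfl, two_dvd_sub_one hqo]
      rfl
  obtain ⟨x', hx'⟩ := (h.ord N).1 (exists_of_S hN)
  have hPA := htf.ub w hw (hwI.not_dvd h.fpos) (by rw [hwc]; exact htopL) x' (by rw [hx']; exact hd)
  rwa [hwc, htt, hx'] at hPA

theorem AA_even {e : Bool} {k u : ℕ} (hk : 1 ≤ k) (hu : u % 2 = 1) : 2 ∣ AA e k u := by
  have h1 := pow_mod_two (u := u) hk
  unfold AA
  split_ifs <;> omega

/-- a prime divides the torus of its class, family `A` -/
theorem dvd_A {t : Fam} {m : ℕ} {e : Bool} (hA : IsA t m e) {u r : ℕ} (hu : 1 ≤ u) : r ∣ AA e (cls t u r) u := by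
  have h1 : ((sg t u : ℤ) : ZMod r) ^ (cls t u r) = 1 := pow_orderOf_eq_one _
  rw [hA.sg] at h1
  rw [← ZMod.natCast_eq_zero_iff]
  rcases AA_eq (e := e) (i := cls t u r) hu with h | h
  · have := congrArg (fun z : ℤ => (z : ZMod r)) h
    push_cast at this
    rw [this, h1, sub_self]
  · have := congrArg (fun z : ℤ => (z : ZMod r)) h
    push_cast at this
    rw [this, h1, sub_self, neg_zero]

/-- **The class `2 n` is not adjacent to `v` in `S`.** -/
theorem nap_two (h : LS t p f L G) (hL : Fam.Is p f L t) (hR : Red G K S) (hF : Frm G K S t' v f')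
    (hp2 : p ≠ 2) (ht : CE t) (hv : v ∣ ((p ^ f) ^ rk t + 1) / 2) {w : ℕ}
    (hw : w.Prime) (hwc : cls t (p ^ f) w = 2 * rk t) :
    3 ≤ cls t' (v ^ f') w ∧ nap t' (cls t' (v ^ f') w) := by
  obtain ⟨hn, hn2⟩ := ht.rk6
  have hq3 := h.q_three hp2
  have hS := h.bigS_CE hR hF hp2 ht
  obtain ⟨hA2, hAo, hAp⟩ := factsA (h.q_odd hp2) hq3 (by omega : 2 ≤ rk t) hn2
  obtain ⟨hv5, hvq2, hvq⟩ := hAp v hF.prime hv
  have hJ : 2 * rk t ∈ JJ (rk t) := by rw [mem_JJ]; omega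
  have hwI := ht.in_J hJ hw hwc
  have hw5 := hwI.five
  have hwv := h.ne_v_J hR hF hp2 ht hJ hw hwc
  have hwS := (h.good_J hR hF hp2 ht hJ hw hwc).2
  have h3 := h.irr_J hR hF hp2 ht hwI hwv (by rw [eta_two_mul']; omega)
  have hm := hF.mem_cls hw hwI.ne_two hwS h3
  have hvo : v % 2 = 1 := by
    rcases hF.prime.eq_two_or_odd with h1 | h1
    · omega
    · exact h1
  have hf1 : 1 ≤ f' := Nat.one_le_iff_ne_zero.2 hF.f_ne
  have huo : v ^ f' % 2 = 1 := by rw [pow_mod_two hf1]; exact hvo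
  have hu2 : 2 ≤ v ^ f' := hF.prime.two_le.trans (Nat.le_self_pow hF.f_ne v)
  have hm3 := (rk_of_bigS hF hS).1
  refine ⟨h3, ?_⟩
  by_contra hnap
  obtain ⟨j, hj⟩ : ∃ j, j = cls t' (v ^ f') w := ⟨_, rfl⟩
  -- an even order divisible by `w`
  suffices hx : ∃ x : S, w ∣ orderOf x ∧ 2 ∣ orderOf x by
    obtain ⟨x, h4, h5⟩ := hx
    have h6 := h5.trans (ordA (S := S) h hL hp2 ht hw hwc ⟨x, rfl⟩ h4)
    omega
  have hA : ∀ {m : ℕ} {e : Bool}, IsA t' m e → j + 2 ≤ m → ∃ x : S, w ∣ orderOf x ∧ 2 ∣ orderOf x := by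
    intro m e hA h4
    rw [hA.rk] at hm3
    obtain ⟨x, c1, h5, h6, h7⟩ := torL_one (k := j) hF.is hA hm3 (by omega) (by omega)
    rw [h7 h4, mul_one] at h5
    refine ⟨x, ?_, ?_⟩
    · rw [h5, hj]
      exact dvd_A hA (by omega)
    · rw [h5]
      exact AA_even (by omega) huo
  have hBw : (∀ n, t' ≠ .psu n) → w ∣ AN (eB j) (eta j) (v ^ f') := by
    intro h4
    have h5 : cls t' (v ^ f') w = orderOf ((v ^ f' : ℕ) : ZMod w) := cls_eq_co h4 _ _
    rw [hj, h5]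
    exact dvd_B hw (by rw [← h5]; exact h3) (by omega)
  have hk1 : 1 ≤ eta j := by
    have := le_two_eta j
    omega
  have hfin : ∀ {x : S} {c ε : _}, c ∣ 2 → 4 ∣ AN ε 1 (v ^ f') →
      orderOf x * c = Nat.lcm (AN (eB j) (eta j) (v ^ f')) (AN ε 1 (v ^ f')) → w ∣ AN (eB j) (eta j) (v ^ f') →
      ∃ x : S, w ∣ orderOf x ∧ 2 ∣ orderOf x := by
    intro x c ε h4 h5 h6 h7
    refine ⟨x, dvd_of_mul hw hw5 (c := c) ?_ h4, two_dvd_of_four (c := c) ?_ h4⟩
    · rw [h6]; exact h7.trans (Nat.dvd_lcm_left _ _)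
    · rw [h6]; exact h5.trans (Nat.dvd_lcm_right _ _)
  obtain ⟨ε, hε, h4⟩ := four_dvd huo
  have hcl := hF.cla
  cases t' with
  | psl n =>
    refine hA (m := n) (e := true) ⟨rfl, rfl⟩ ?_
    by_contra hcon
    exact hnap (show n < cls (.psl n) (v ^ f') w + 2 by omega)
  | psu n =>
    refine hA (m := n) (e := false) ⟨rfl, rfl⟩ ?_
    by_contra hcon
    exact hnap (show n < cls (.psu n) (v ^ f') w + 2 by omega)
  | psp n =>
    have h5 : eta j + 1 ≤ n := by
      by_contra hcon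
      exact hnap (show n < eta (cls (.psp n) (v ^ f') w) + 1 by rw [← hj]; omega)
    obtain ⟨x, c, h6, h7⟩ := torC hF.prime hF.is (Or.inl rfl) hk1 le_rfl h5 (eB_pm j) hε
    exact hfin h6 h4 h7 (hBw (by intro k hk; cases hk))
  | oodd n =>
    have h5 : eta j + 1 ≤ n := by
      by_contra hcon
      exact hnap (show n < eta (cls (.oodd n) (v ^ f') w) + 1 by rw [← hj]; omega)
    obtain ⟨x, c, h6, h7⟩ := torC hF.prime hF.is (Or.inr rfl) hk1 le_rfl h5 (eB_pm j) hε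
    exact hfin h6 h4 h7 (hBw (by intro k hk; cases hk))
  | oplus n =>
    have h5 : eta j + 1 < n := by
      by_contra hcon
      exact hnap (show n < eta (cls (.oplus n) (v ^ f') w) + 2 by rw [← hj]; omega)
    obtain ⟨x, c, h6, h7⟩ := torB hF.prime hF.is (show IsB (.oplus n) n from rfl) hk1 le_rfl h5 (eB_pm j) hε
    exact hfin h6 h4 h7 (hBw (by intro k hk; cases hk))
  | ominus n =>
    have h5 : eta j + 1 < n := by
      by_contra hcon
      exact hnap (show n < eta (cls (.ominus n) (v ^ f') w) + 2 by rw [← hj]; omega)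
    obtain ⟨x, c, h6, h7⟩ := torB hF.prime hF.is (show IsB (.ominus n) n from rfl) hk1 le_rfl h5 (eB_pm j) hε
    exact hfin h6 h4 h7 (hBw (by intro k hk; cases hk))
  | _ => exact hcl.elim

/-- **The type of `S`.** -/
theorem type_S (h : LS t p f L G) (hL : Fam.Is p f L t) (hR : Red G K S) (hF : Frm G K S t' v f') (hvp : v ≠ p)
    (hp2 : p ≠ 2) (ht : CE t) (hv : v ∣ ((p ^ f) ^ rk t + 1) / 2) :
    ∃ m, t' = .ominus m ∧ m % 2 = 0 ∧
      (∀ w, w.Prime → cls t (p ^ f) w = 2 * rk t → cls t' (v ^ f') w = 2 * m) ∧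
      ∀ w1 w2, w1.Prime → cls t (p ^ f) w1 = icl (rk t) 1 → w2.Prime → cls t (p ^ f) w2 = icl (rk t) (-1) →
        (cls t' (v ^ f') w1 = m - 1 ∧ cls t' (v ^ f') w2 = 2 * (m - 1)) ∨
        (cls t' (v ^ f') w1 = 2 * (m - 1) ∧ cls t' (v ^ f') w2 = m - 1) := by
  obtain ⟨hn, hn2⟩ := ht.rk6
  have hq3 := h.q_three hp2
  have hS := h.bigS_CE hR hF hp2 ht
  obtain ⟨hA2, hAo, hAp⟩ := factsA (h.q_odd hp2) hq3 (by omega : 2 ≤ rk t) hn2
  obtain ⟨hv5, hvq2, hvq⟩ := hAp v hF.prime hv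
  have hvo : v % 2 = 1 := by
    rcases hF.prime.eq_two_or_odd with h1 | h1
    · omega
    · exact h1
  have hf1 : 1 ≤ f' := Nat.one_le_iff_ne_zero.2 hF.f_ne
  have huo : v ^ f' % 2 = 1 := by rw [pow_mod_two hf1]; exact hvo
  have hu2 : 2 ≤ v ^ f' := hF.prime.two_le.trans (Nat.le_self_pow hF.f_ne v)
  have hm3 := (rk_of_bigS hF hS).1
  have hJ0 : 2 * rk t ∈ JJ (rk t) := by rw [mem_JJ]; omega
  have hJ1 : icl (rk t) 1 ∈ JJ (rk t) := icl_JJ hn
  have hJ2 : icl (rk t) (-1) ∈ JJ (rk t) := icl_JJ hn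
  have i1 : icl (rk t) 1 = rk t - 1 := if_pos rfl
  have i2 : icl (rk t) (-1) = 2 * (rk t - 1) := if_neg (by norm_num)
  have key : ∀ w0 w1 w2, w0.Prime → cls t (p ^ f) w0 = 2 * rk t → w1.Prime → cls t (p ^ f) w1 = icl (rk t) 1 →
      w2.Prime → cls t (p ^ f) w2 = icl (rk t) (-1) → ∃ m, t' = .ominus m ∧ m % 2 = 0 ∧
        cls t' (v ^ f') w0 = 2 * m ∧ ((cls t' (v ^ f') w1 = m - 1 ∧ cls t' (v ^ f') w2 = 2 * (m - 1)) ∨
        (cls t' (v ^ f') w1 = 2 * (m - 1) ∧ cls t' (v ^ f') w2 = m - 1)) := by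
    intro w0 w1 w2 h0 c0 h1 c1 h2 c2
    obtain ⟨a0, b0⟩ := nap_two h hL hR hF hp2 ht hv h0 c0
    obtain ⟨a1, b1⟩ := nap_icl h hL hR hF hvp hp2 ht hv (Or.inl rfl) h1 c1
    obtain ⟨a2, b2⟩ := nap_icl h hL hR hF hvp hp2 ht hv (Or.inr rfl) h2 c2
    have hI0 := ht.in_J hJ0 h0 c0
    have hI1 := ht.in_J hJ1 h1 c1
    have hI2 := ht.in_J hJ2 h2 c2
    have m0 := hF.mem_cls h0 hI0.ne_two (h.good_J hR hF hp2 ht hJ0 h0 c0).2 a0
    have m1 := hF.mem_cls h1 hI1.ne_two (h.good_J hR hF hp2 ht hJ1 h1 c1).2 a1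
    have m2 := hF.mem_cls h2 hI2.ne_two (h.good_J hR hF hp2 ht hJ2 h2 c2).2 a2
    have t0 := top_of_iso hF.cla a0 m0 b0
    have t1 := top_of_iso hF.cla a1 m1 b1
    have t2 := top_of_iso hF.cla a2 m2 b2
    have n01 := cls_ne h hR hF hp2 ht hJ0 hJ1 (by omega) h0 c0 h1 c1
    have n02 := cls_ne h hR hF hp2 ht hJ0 hJ2 (by omega) h0 c0 h2 c2
    have n12 := cls_ne h hR hF hp2 ht hJ1 hJ2 (by omega) h1 c1 h2 c2
    have hcl := hF.cla
    have hTF := top_facts_all hF.cla hF.prime hF.is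
    have hord := ordA (S := S) h hL hp2 ht h0 c0 (hTF.elt _ t0)
    have hwt : w0 ∣ ttor t' (v ^ f') (cls t' (v ^ f') w0) := by
      have := Fact.mk h0
      obtain ⟨x, hx⟩ := exists_prime_orderOf_dvd_card' (G := S) w0 (h.good_J hR hF hp2 ht hJ0 h0 c0).2
      have h5 := hTF.ub w0 h0 (fun hd => (h.ne_v_J hR hF hp2 ht hJ0 h0 c0)
        ((Nat.prime_dvd_prime_iff_eq h0 hF.prime).1 hd)) t0 x (by rw [hx])
      rwa [hx] at h5
    have hord := hord hwt
    generalize cls t' (v ^ f') w0 = x0 at *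
    generalize cls t' (v ^ f') w1 = x1 at *
    generalize cls t' (v ^ f') w2 = x2 at *
    cases t' with
    | psl n =>
      obtain ⟨-, t0⟩ := t0
      obtain ⟨-, t1⟩ := t1
      obtain ⟨-, t2⟩ := t2
      omega
    | psu n =>
      obtain ⟨-, t0⟩ := t0
      obtain ⟨-, t1⟩ := t1
      obtain ⟨-, t2⟩ := t2
      omega
    | psp n =>
      change x0 = 2 * n ∨ (x0 = n ∧ n % 2 = 1) at t0
      change x1 = 2 * n ∨ (x1 = n ∧ n % 2 = 1) at t1
      change x2 = 2 * n ∨ (x2 = n ∧ n % 2 = 1) at t2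
      omega
    | oodd n =>
      change x0 = 2 * n ∨ (x0 = n ∧ n % 2 = 1) at t0
      change x1 = 2 * n ∨ (x1 = n ∧ n % 2 = 1) at t1
      change x2 = 2 * n ∨ (x2 = n ∧ n % 2 = 1) at t2
      omega
    | oplus n =>
      change (x0 = n ∧ n % 2 = 1) ∨ x0 = 2 * (n - 1) ∨ (x0 = n - 1 ∧ n % 2 = 0) at t0
      change (x1 = n ∧ n % 2 = 1) ∨ x1 = 2 * (n - 1) ∨ (x1 = n - 1 ∧ n % 2 = 0) at t1
      change (x2 = n ∧ n % 2 = 1) ∨ x2 = 2 * (n - 1) ∨ (x2 = n - 1 ∧ n % 2 = 0) at t2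
      omega
    | ominus n =>
      have hn4 : 4 ≤ n := hF.is.1
      change x0 = 2 * n ∨ x0 = 2 * (n - 1) ∨ (x0 = n - 1 ∧ n % 2 = 0) at t0
      change x1 = 2 * n ∨ x1 = 2 * (n - 1) ∨ (x1 = n - 1 ∧ n % 2 = 0) at t1
      change x2 = 2 * n ∨ x2 = 2 * (n - 1) ∨ (x2 = n - 1 ∧ n % 2 = 0) at t2
      have hne : n % 2 = 0 := by omega
      refine ⟨n, rfl, hne, ?_, ?_⟩
      · by_contra hx0
        -- the torus is even
        have h8 : (v ^ f') ^ n % 8 = 1 := by
          obtain ⟨k, hk⟩ : ∃ k, n = 2 * k := ⟨n / 2, by omega⟩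
          have h9 : (v ^ f') ^ 2 % 8 = 1 := by
            have h10 : v ^ f' % 8 = 1 ∨ v ^ f' % 8 = 3 ∨ v ^ f' % 8 = 5 ∨ v ^ f' % 8 = 7 := by omega
            rcases h10 with h10 | h10 | h10 | h10 <;> rw [Nat.pow_mod, h10]
          rw [hk, pow_mul, Nat.pow_mod, h9, one_pow]
          rfl
        have hg : Nat.gcd 4 ((v ^ f') ^ n + 1) = 2 := by
          have : (v ^ f') ^ n + 1 = 2 * (4 * ((v ^ f') ^ n / 8) + 1) := by omega
          rw [this, show (4 : ℕ) = 2 * 2 by norm_num, Nat.gcd_mul_left]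
          have : Nat.gcd 2 (2 * 2 * ((v ^ f') ^ n / 8) + 1) = 1 := by
            have h11 : Nat.Coprime 2 (2 * 2 * ((v ^ f') ^ n / 8) + 1) := by
              rw [Nat.coprime_two_left, Nat.odd_iff]
              omega
            exact h11
          rw [this]
        have hpm1 := pow_mod_two (u := v ^ f') (m := n - 1) (by omega)
        have h1n1 := Nat.one_le_pow (n - 1) (v ^ f') (by omega)
        have hev : 2 ∣ ttor (.ominus n) (v ^ f') x0 := by
          rcases t0 with t0 | t0 | ⟨t0, -⟩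
          · exact absurd t0 hx0
          · have h12 : ttor (.ominus n) (v ^ f') x0 = ((v ^ f') ^ (n - 1) + 1) * (v ^ f' - 1) / 2 := by
              change (if x0 = 2 * n then _ else if x0 = n - 1 then _ else _) = _
              rw [if_neg (by omega), if_neg (by omega), hg]
            rw [h12]
            obtain ⟨a, ha⟩ : ∃ a, (v ^ f') ^ (n - 1) + 1 = 2 * a := ⟨((v ^ f') ^ (n - 1) + 1) / 2, by omega⟩
            obtain ⟨b, hb⟩ : ∃ b, v ^ f' - 1 = 2 * b := ⟨(v ^ f' - 1) / 2, by omega⟩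
            rw [ha, hb, show 2 * a * (2 * b) = 2 * (2 * (a * b)) by ring, Nat.mul_div_cancel_left _ two_pos]
            exact Dvd.intro _ rfl
          · have h12 : ttor (.ominus n) (v ^ f') x0 = ((v ^ f') ^ (n - 1) - 1) * (v ^ f' + 1) / 2 := by
              change (if x0 = 2 * n then _ else if x0 = n - 1 then _ else _) = _
              rw [if_neg (by omega), if_pos t0, hg]
            rw [h12]
            obtain ⟨a, ha⟩ : ∃ a, (v ^ f') ^ (n - 1) - 1 = 2 * a := ⟨((v ^ f') ^ (n - 1) - 1) / 2, by omega⟩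
            obtain ⟨b, hb⟩ : ∃ b, v ^ f' + 1 = 2 * b := ⟨(v ^ f' + 1) / 2, by omega⟩
            rw [ha, hb, show 2 * a * (2 * b) = 2 * (2 * (a * b)) by ring, Nat.mul_div_cancel_left _ two_pos]
            exact Dvd.intro _ rfl
        have := hev.trans hord
        omega
      · have h0' : x0 = 2 * n := by
          by_contra hx0
          have h8 : (v ^ f') ^ n % 8 = 1 := by
            obtain ⟨k, hk⟩ : ∃ k, n = 2 * k := ⟨n / 2, by omega⟩
            have h9 : (v ^ f') ^ 2 % 8 = 1 := by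
              have h10 : v ^ f' % 8 = 1 ∨ v ^ f' % 8 = 3 ∨ v ^ f' % 8 = 5 ∨ v ^ f' % 8 = 7 := by omega
              rcases h10 with h10 | h10 | h10 | h10 <;> rw [Nat.pow_mod, h10]
            rw [hk, pow_mul, Nat.pow_mod, h9, one_pow]
            rfl
          have hg : Nat.gcd 4 ((v ^ f') ^ n + 1) = 2 := by
            have : (v ^ f') ^ n + 1 = 2 * (4 * ((v ^ f') ^ n / 8) + 1) := by omega
            rw [this, show (4 : ℕ) = 2 * 2 by norm_num, Nat.gcd_mul_left]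
            have : Nat.gcd 2 (2 * 2 * ((v ^ f') ^ n / 8) + 1) = 1 := by
              have h11 : Nat.Coprime 2 (2 * 2 * ((v ^ f') ^ n / 8) + 1) := by
                rw [Nat.coprime_two_left, Nat.odd_iff]
                omega
              exact h11
            rw [this]
          have hpm1 := pow_mod_two (u := v ^ f') (m := n - 1) (by omega)
          have h1n1 := Nat.one_le_pow (n - 1) (v ^ f') (by omega)
          have hev : 2 ∣ ttor (.ominus n) (v ^ f') x0 := by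
            rcases t0 with t0 | t0 | ⟨t0, -⟩
            · exact absurd t0 hx0
            · have h12 : ttor (.ominus n) (v ^ f') x0 = ((v ^ f') ^ (n - 1) + 1) * (v ^ f' - 1) / 2 := by
                change (if x0 = 2 * n then _ else if x0 = n - 1 then _ else _) = _
                rw [if_neg (by omega), if_neg (by omega), hg]
              rw [h12]
              obtain ⟨a, ha⟩ : ∃ a, (v ^ f') ^ (n - 1) + 1 = 2 * a := ⟨((v ^ f') ^ (n - 1) + 1) / 2, by omega⟩
              obtain ⟨b, hb⟩ : ∃ b, v ^ f' - 1 = 2 * b := ⟨(v ^ f' - 1) / 2, by omega⟩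
              rw [ha, hb, show 2 * a * (2 * b) = 2 * (2 * (a * b)) by ring, Nat.mul_div_cancel_left _ two_pos]
              exact Dvd.intro _ rfl
            · have h12 : ttor (.ominus n) (v ^ f') x0 = ((v ^ f') ^ (n - 1) - 1) * (v ^ f' + 1) / 2 := by
                change (if x0 = 2 * n then _ else if x0 = n - 1 then _ else _) = _
                rw [if_neg (by omega), if_pos t0, hg]
              rw [h12]
              obtain ⟨a, ha⟩ : ∃ a, (v ^ f') ^ (n - 1) - 1 = 2 * a := ⟨((v ^ f') ^ (n - 1) - 1) / 2, by omega⟩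
              obtain ⟨b, hb⟩ : ∃ b, v ^ f' + 1 = 2 * b := ⟨(v ^ f' + 1) / 2, by omega⟩
              rw [ha, hb, show 2 * a * (2 * b) = 2 * (2 * (a * b)) by ring, Nat.mul_div_cancel_left _ two_pos]
              exact Dvd.intro _ rfl
          have := hev.trans hord
          omega
        omega
    | _ => exact hcl.elim
  obtain ⟨w0, hw0⟩ := h.exists_J hp2 ht hJ0
  obtain ⟨w1, hw1⟩ := h.exists_J hp2 ht hJ1
  obtain ⟨w2, hw2⟩ := h.exists_J hp2 ht hJ2
  obtain ⟨m, hm, hm2, -⟩ := key w0 w1 w2 hw0.prime hw0.cls_eq hw1.prime hw1.cls_eq hw2.prime hw2.cls_eq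
  refine ⟨m, hm, hm2, fun w hw hwc => ?_, fun x1 x2 g1 g2 g3 g4 => ?_⟩
  · obtain ⟨m', hm', -, h5, -⟩ := key w w1 w2 hw hwc hw1.prime hw1.cls_eq hw2.prime hw2.cls_eq
    have : m' = m := by
      rw [hm] at hm'
      exact (Fam.ominus.inj hm').symm
    rw [h5, this]
  · obtain ⟨m', hm', -, -, h5⟩ := key w0 x1 x2 hw0.prime hw0.cls_eq g1 g2 g3 g4
    have : m' = m := by
      rw [hm] at hm'
      exact (Fam.ominus.inj hm').symm
    rw [this] at h5
    exact h5

end Cfsg.Agent.R2.Spec.X5
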