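import Cfsg.Agent.R2.Spec.X5.VB

/-!
# S3435, box X5 (helper12): `v ∣ (q ^ n + 1) / 2`: the class of `v` in `L`, the factor `h0`
-/

set_option autoImplicit false
set_option linter.unusedSectionVars false
set_option linter.unusedVariables false

namespace Cfsg.Agent.R2.Spec.X5

open Subgroup Cfsg
open Cfsg.Agent.H426.LieFam Cfsg.Agent.R2.Spec Cfsg.Agent.R2.Spec.P1 Cfsg.Agent.R2.Spec.F1
open Cfsg.Agent.H420.QR Cfsg.Agent.R2.Spec.P1.Eig Cfsg.Agent.H403.NumTop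

universe u w

variable {t : Fam} {p f : ℕ} {L : Type w} [Group L] [Finite L] {G : Type u} [Group G] [Finite G]
variable {K : Subgroup G} [K.Normal] {S : Subgroup (G ⧸ K)} [S.Normal]
variable {t' : Fam} {v f' : ℕ}

/-- **The class of `v` is `4`.** -/
theorem cls_v (h : LS t p f L G) (hL : Fam.Is p f L t) (hR : Red G K S) (hF : Frm G K S t' v f') (hvp : v ≠ p)
    (hp2 : p ≠ 2) (ht : CE t) (hv : v ∣ ((p ^ f) ^ rk t + 1) / 2) :
    v ∣ (p ^ f) ^ 2 + 1 ∧ ∃ c, c % 2 = 1 ∧ rk t = 2 * c := by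
  obtain ⟨hn, hn2⟩ := ht.rk6
  have hq3 := h.q_three hp2
  have hS := h.bigS_CE hR hF hp2 ht
  obtain ⟨hA2, hAo, hAp⟩ := factsA (h.q_odd hp2) hq3 (by omega : 2 ≤ rk t) hn2
  obtain ⟨hv5, hvq2, hvq⟩ := hAp v hF.prime hv
  have hvN : v ∣ (p ^ f) ^ rk t + 1 := by rw [← hA2]; exact hv.mul_left 2
  have hfv := Fact.mk hF.prime
  obtain ⟨m, hm, hm2, hw0, hw12⟩ := type_S h hL hR hF hvp hp2 ht hv
  obtain ⟨l, hl⟩ : ∃ l, l = cls t (p ^ f) v := ⟨_, rfl⟩
  have hl' : l = orderOf ((p ^ f : ℕ) : ZMod v) := by rw [hl, ht.cls_eq]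
  have hz : ((p ^ f : ℕ) : ZMod v) ^ rk t = -1 := by
    have h3 := (ZMod.natCast_eq_zero_iff _ _).2 hvN
    push_cast at h3 ⊢
    linear_combination h3
  have h20 : (2 : ZMod v) ≠ 0 := by
    intro h0
    have h1 : ((2 : ℕ) : ZMod v) = 0 := by push_cast; exact h0
    have := (Nat.prime_dvd_prime_iff_eq hF.prime Nat.prime_two).1 ((ZMod.natCast_eq_zero_iff _ _).1 h1)
    omega
  have hl2n : l ∣ 2 * rk t := by
    rw [hl']
    apply orderOf_dvd_of_pow_eq_one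
    rw [mul_comm, pow_mul, hz]
    ring
  have hln : ¬ l ∣ rk t := by
    intro h1
    rw [hl', orderOf_dvd_iff_pow_eq_one, hz] at h1
    apply h20
    linear_combination -h1
  obtain ⟨c, hc⟩ := hl2n
  have hco : c % 2 = 1 := by
    by_contra hcon
    apply hln
    refine ⟨c / 2, ?_⟩
    have h1 : c = 2 * (c / 2) := by omega
    rw [h1, mul_left_comm] at hc
    omega
  have hle : l % 2 = 0 := by
    by_contra hcon
    have h1 : (l * c) % 2 = 1 := by
      rw [Nat.mul_mod, hco, show l % 2 = 1 by omega]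
    omega
  obtain ⟨k, hk⟩ : ∃ k, l = 2 * k := ⟨l / 2, by omega⟩
  have hkc : rk t = k * c := by
    rw [hk, mul_assoc] at hc
    omega
  have hk2 : k % 2 = 0 := by
    by_contra hcon
    have h1 : (k * c) % 2 = 1 := by
      rw [Nat.mul_mod, hco, show k % 2 = 1 by omega]
    omega
  have hl0 : 0 < l := by
    rcases Nat.eq_zero_or_pos l with h0 | h0
    · rw [h0, zero_mul] at hc
      omega
    · exact h0
  have hl4 : l = 4 := by
    by_contra hne
    have hl8 : 8 ≤ l := by omega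
    have hetal : eta l = k := by rw [hk, eta_two_mul']
    have hkn : k ≤ rk t := by
      rw [hkc]
      exact Nat.le_mul_of_pos_right _ (by omega)
    have hvI : In t (p ^ f) l v := ⟨hF.prime, hl.symm, by omega, ht.mem_iff.2 (by omega)⟩
    have hJ : rk t - 3 ∈ JJ (rk t) := by rw [mem_JJ]; omega
    obtain ⟨x, hx⟩ := h.exists_J hp2 ht hJ
    have hna : na t l (rk t - 3) := by
      rw [ht.na_iff, eta_odd (show (rk t - 3) % 2 = 1 by omega)]
      refine ⟨by omega, ?_, ?_⟩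
      · intro h1
        have := oddMul_parity h1
        omega
      · intro h1
        have := oddMul_parity h1
        omega
    have hxv := h.ne_v_J hR hF hp2 ht hJ hx.prime hx.cls_eq
    have hxS := (h.good_J hR hF hp2 ht hJ hx.prime hx.cls_eq).2
    have hb : 3 ≤ cls t' (v ^ f') x ∧ nap t' (cls t' (v ^ f') x) := by
      rcases hF.vcase hx.prime hx.ne_two hxv hxS (h.not_adj_S hvI hx hna) with h1 | ⟨h1, h2, hk⟩
      · exact h1
      · have := (rk_of_bigS hF hS).2.2.1 hk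
        omega
    have hmx := hF.mem_cls hx.prime hx.ne_two hxS hb.1
    have htop := top_of_iso hF.cla hb.1 hmx hb.2
    have hJ0 : 2 * rk t ∈ JJ (rk t) := by rw [mem_JJ]; omega
    have hJ1 : icl (rk t) 1 ∈ JJ (rk t) := icl_JJ hn
    have hJ2 : icl (rk t) (-1) ∈ JJ (rk t) := icl_JJ hn
    have i1 : icl (rk t) 1 = rk t - 1 := if_pos rfl
    have i2 : icl (rk t) (-1) = 2 * (rk t - 1) := if_neg (by norm_num)
    obtain ⟨w0, g0⟩ := h.exists_J hp2 ht hJ0
    obtain ⟨w1, g1⟩ := h.exists_J hp2 ht hJ1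
    obtain ⟨w2, g2⟩ := h.exists_J hp2 ht hJ2
    have n0 := cls_ne h hR hF hp2 ht hJ hJ0 (by omega) hx.prime hx.cls_eq g0.prime g0.cls_eq
    have n1 := cls_ne h hR hF hp2 ht hJ hJ1 (by omega) hx.prime hx.cls_eq g1.prime g1.cls_eq
    have n2 := cls_ne h hR hF hp2 ht hJ hJ2 (by omega) hx.prime hx.cls_eq g2.prime g2.cls_eq
    have e0 := hw0 w0 g0.prime g0.cls_eq
    have e12 := hw12 w1 w2 g1.prime g1.cls_eq g2.prime g2.cls_eq
    subst hm
    generalize cls (.ominus m) (v ^ f') x = y at *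
    change y = 2 * m ∨ y = 2 * (m - 1) ∨ (y = m - 1 ∧ m % 2 = 0) at htop
    omega
  have hk' : k = 2 := by omega
  refine ⟨?_, c, hco, by rw [hkc, hk']⟩
  have h4 : (((p ^ f : ℕ) : ZMod v) ^ 2) ^ 2 = 1 := by
    rw [← pow_mul, show 2 * 2 = l by omega, hl']
    exact pow_orderOf_eq_one _
  rcases sq_eq_one_iff.1 h4 with h5 | h5
  · exfalso
    have h6 := orderOf_dvd_of_pow_eq_one h5
    rw [← hl', hl4] at h6
    exact absurd (Nat.le_of_dvd two_pos h6) (by norm_num)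
  · rw [← ZMod.natCast_eq_zero_iff]
    push_cast
    push_cast at h5
    rw [h5]
    ring

/-- **The `v`-part.** -/
theorem v_part {v j x c : ℕ} (hv : v.Prime) (hv2 : v ≠ 2) (hc : c % 2 = 1) (hx : v ∣ x + 1) (hj : v ^ j ∣ x ^ c + 1) :
    v ^ j ∣ (x + 1) * c := by
  have hf := Fact.mk hv
  have hc0 : c ≠ 0 := by omega
  have hvx : ¬ v ∣ x := fun h1 => hv.one_lt.ne' (Nat.dvd_one.1 ((Nat.dvd_add_right h1).1 hx))
  have h1 := padicValNat.pow_add_pow (p := v) (hv.odd_of_ne_two hv2) (x := x) (y := 1) hx hvx (n := c) (Nat.odd_iff.2 hc)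
  rw [one_pow] at h1
  have hxc : x ^ c + 1 ≠ 0 := by positivity
  have h2 : j ≤ padicValNat v (x ^ c + 1) := (padicValNat_dvd_iff_le hxc).1 hj
  rw [padicValNat_dvd_iff_le (Nat.mul_ne_zero (by positivity) hc0), padicValNat.mul (by positivity) hc0, ← h1]
  exact h2

/-- **The factor.** -/
theorem fac_v (h : LS t p f L G) (hL : Fam.Is p f L t) (hR : Red G K S) (hF : Frm G K S t' v f') (hvp : v ≠ p)
    (hp2 : p ≠ 2) (ht : CE t) (hv : v ∣ ((p ^ f) ^ rk t + 1) / 2) {m : ℕ} (hm : t' = .ominus m)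
    (hw0 : ∀ w, w.Prime → cls t (p ^ f) w = 2 * rk t → cls t' (v ^ f') w = 2 * m) (hm2 : m % 2 = 0) :
    ∃ h0, h0 * ((v ^ f') ^ m + 1) = (p ^ f) ^ rk t + 1 ∧ v ∣ h0 ∧
      h0 ≤ ((p ^ f) ^ 2 + 1) * (rk t / 2) * f' := by
  obtain ⟨hn, hn2⟩ := ht.rk6
  have hq3 := h.q_three hp2
  have hqo := h.q_odd hp2
  have hS := h.bigS_CE hR hF hp2 ht
  obtain ⟨hA2, hAo, hAp⟩ := factsA hqo hq3 (by omega : 2 ≤ rk t) hn2
  obtain ⟨hv5, hvq2, hvq⟩ := hAp v hF.prime hv
  obtain ⟨hvq4, c, hco, hcn⟩ := cls_v h hL hR hF hvp hp2 ht hv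
  have hf1 : 1 ≤ f' := Nat.one_le_iff_ne_zero.2 hF.f_ne
  have hvo : v % 2 = 1 := by
    rcases hF.prime.eq_two_or_odd with h1 | h1
    · omega
    · exact h1
  have huo : v ^ f' % 2 = 1 := by rw [pow_mod_two hf1]; exact hvo
  have hu2 : 2 ≤ v ^ f' := hF.prime.two_le.trans (Nat.le_self_pow hF.f_ne v)
  obtain ⟨A, hA⟩ : ∃ A, A = ((p ^ f) ^ rk t + 1) / 2 := ⟨_, rfl⟩
  rw [← hA] at hv hA2 hAo hAp
  have hA0 : A ≠ 0 := by omega
  have hj0 : 2 * rk t ∈ JJ (rk t) := by rw [mem_JJ]; omega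
  obtain ⟨w, hw⟩ := h.exists_J hp2 ht hj0
  have hwv := h.ne_v_J hR hF hp2 ht hj0 hw.prime hw.cls_eq
  obtain ⟨hwG, hwS⟩ := h.good_J hR hF hp2 ht hj0 hw.prime hw.cls_eq
  have hw0' := hw0 w hw.prime hw.cls_eq
  -- the torus of `S`
  have hTF := top_facts_all hF.cla hF.prime hF.is
  have hm4 : 4 ≤ m := by
    have := hF.is
    rw [hm] at this
    exact this.1
  have htop : P1.top t' (2 * m) := by rw [hm]; exact Or.inl rfl
  have h8 : (v ^ f') ^ m % 8 = 1 := by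
    obtain ⟨k, hk⟩ : ∃ k, m = 2 * k := ⟨m / 2, by omega⟩
    have h9 : (v ^ f') ^ 2 % 8 = 1 := by
      have h10 : v ^ f' % 8 = 1 ∨ v ^ f' % 8 = 3 ∨ v ^ f' % 8 = 5 ∨ v ^ f' % 8 = 7 := by omega
      rcases h10 with h10 | h10 | h10 | h10 <;> rw [Nat.pow_mod, h10]
    rw [hk, pow_mul, Nat.pow_mod, h9, one_pow]
    rfl
  have hg : Nat.gcd 4 ((v ^ f') ^ m + 1) = 2 := by
    have : (v ^ f') ^ m + 1 = 2 * (4 * ((v ^ f') ^ m / 8) + 1) := by omega
    rw [this, show (4 : ℕ) = 2 * 2 by norm_num, Nat.gcd_mul_left]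
    have : Nat.gcd 2 (2 * 2 * ((v ^ f') ^ m / 8) + 1) = 1 := by
      have h11 : Nat.Coprime 2 (2 * 2 * ((v ^ f') ^ m / 8) + 1) := by
        rw [Nat.coprime_two_left, Nat.odd_iff]
        omega
      exact h11
    rw [this]
  have hP0 : ttor t' (v ^ f') (2 * m) = ((v ^ f') ^ m + 1) / 2 := by
    rw [hm]
    change (if 2 * m = 2 * m then _ else _) = _
    rw [if_pos rfl, hg]
  obtain ⟨P0, hP0'⟩ : ∃ P0, P0 = ((v ^ f') ^ m + 1) / 2 := ⟨_, rfl⟩
  rw [← hP0'] at hP0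
  have hP02 : 2 * P0 = (v ^ f') ^ m + 1 := by omega
  have hub : ∀ y : S, w ∣ orderOf y → orderOf y ∣ P0 := by
    intro y hy
    have := hTF.ub w hw.prime (fun hd => hwv ((Nat.prime_dvd_prime_iff_eq hw.prime hF.prime).1 hd))
      (by rw [hw0']; exact htop) y hy
    rwa [hw0', hP0] at this
  have hwP0 : w ∣ P0 := by
    have := Fact.mk hw.prime
    obtain ⟨x, hx⟩ := exists_prime_orderOf_dvd_card' (G := S) w hwS
    have h5 := hub x (by rw [hx])
    rwa [hx] at h5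
  have hPA : P0 ∣ A := by
    rw [hA]
    exact ordA (S := S) h hL hp2 ht hw.prime hw.cls_eq (by rw [← hP0]; exact hTF.elt _ htop) hwP0
  obtain ⟨h0, hh0⟩ := hPA
  -- the element of order `M`
  obtain ⟨j, M, hM, hAM⟩ := Nat.exists_eq_pow_mul_and_not_dvd hA0 v hF.prime.ne_one
  have htf := top_facts_all ht.cla h.prime hL
  have htopL : P1.top t (2 * rk t) := by
    obtain ⟨k, rfl | rfl, -⟩ := ht
    · exact Or.inl rfl
    · exact Or.inl rfl
  have htt : ttor t (p ^ f) (2 * rk t) = A := by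
    rw [hA]
    obtain ⟨k, rfl | rfl, -⟩ := ht
    · change (if 2 * k = 2 * k then _ else _) = _
      rw [if_pos rfl, two_dvd_sub_one hqo]
      rfl
    · change (if 2 * k = 2 * k then _ else _) = _
      rw [if_pos rfl, two_dvd_sub_one hqo]
      rfl
  obtain ⟨xA, hxA⟩ := htf.elt _ htopL
  rw [htt] at hxA
  have hvj : 0 < v ^ j := Nat.pow_pos hF.prime.pos
  obtain ⟨x, hx⟩ := (h.ord M).2 ⟨xA ^ (v ^ j), by
    rw [orderOf_pow, hxA, hAM, Nat.gcd_eq_right (Dvd.intro _ rfl), Nat.mul_div_cancel_left _ hvj]⟩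
  have hMA : M ∣ A := by rw [hAM]; exact Dvd.intro_left _ rfl
  have hcop : Nat.Coprime (orderOf x) (Nat.card K) := by
    rw [hx]
    by_contra hcon
    obtain ⟨r, hr, g1, g2⟩ := Nat.Prime.not_coprime_iff_dvd.1 hcon
    obtain ⟨k1, k2, k3⟩ := hAp r hr (g1.trans hMA)
    have hrv : r ≠ v := by rintro rfl; exact hM g1
    exact k2 (dvd_sq_of_cls (by omega) hr k3 (h.kprime_cls hR hF hS (by omega) hq3 hr hrv g2))
  obtain ⟨a, E, hE, hi, y, hy⟩ := order_fac (S := S) hcop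
  rw [hx] at hE
  -- `w ∣ E`
  have hwA : w ∣ A := by rw [hh0]; exact hwP0.mul_right _
  have hwM : w ∣ M := by
    rw [hAM] at hwA
    rcases hw.prime.dvd_mul.1 hwA with h1 | h1
    · exact absurd ((Nat.prime_dvd_prime_iff_eq hw.prime hF.prime).1 (hw.prime.dvd_of_dvd_pow h1)) hwv
    · exact h1
  have hwE : w ∣ E := by
    rw [hE] at hwM
    exact (hw.prime.dvd_mul.1 hwM).resolve_left fun h3 => hwG (Dvd.dvd.mul_left (h3.trans hi) _)
  have hEP := hub y (by rw [hy]; exact hwE)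
  rw [hy] at hEP
  have haf : a ∣ f' := by
    refine hF.dvd_f hi fun r hr hra => ?_
    obtain ⟨k1, k2, k3⟩ := hAp r hr (hra.trans ((Dvd.intro _ hE.symm).trans hMA))
    refine ⟨k1, fun hrd => ?_⟩
    rw [hm] at hrd
    exact hr.one_lt.ne' (Nat.dvd_one.1 (show r ∣ 1 from hrd))
  obtain ⟨z, hz⟩ := hEP
  have hE0 : 0 < E := by rw [← hy]; exact orderOf_pos y
  have h0d : h0 ∣ v ^ j * a := by
    refine ⟨z, ?_⟩
    have h5 : E * (v ^ j * a) = E * (h0 * z) := by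
      calc E * (v ^ j * a) = v ^ j * (a * E) := by ring
        _ = P0 * h0 := by rw [← hE, ← hAM, hh0]
        _ = _ := by rw [hz]; ring
    exact Nat.eq_of_mul_eq_mul_left hE0 h5
  have hvjb : v ^ j ≤ ((p ^ f) ^ 2 + 1) * c := by
    apply Nat.le_of_dvd (Nat.mul_pos (by positivity) (by omega))
    refine v_part hF.prime (by omega) hco hvq4 ?_
    rw [← pow_mul, ← hcn, ← hA2, hAM]
    exact ((Dvd.intro _ rfl).mul_left _)
  refine ⟨h0, ?_, ?_, ?_⟩
  · rw [← hP02, ← hA2, hh0]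
    ring
  · rw [hh0] at hv
    rcases hF.prime.dvd_mul.1 hv with h1 | h1
    · exfalso
      have h2 : v ∣ (v ^ f') ^ m + 1 := by rw [← hP02]; exact h1.mul_left 2
      have h3 : v ∣ (v ^ f') ^ m := dvd_pow (dvd_pow_self v (by omega)) (by omega)
      exact hF.prime.one_lt.ne' (Nat.dvd_one.1 ((Nat.dvd_add_right h3).1 h2))
    · exact h1
  · have h6 : 0 < v ^ j * a := Nat.mul_pos hvj (Nat.pos_of_dvd_of_pos haf hf1)
    calc h0 ≤ v ^ j * a := Nat.le_of_dvd h6 h0d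
      _ ≤ (((p ^ f) ^ 2 + 1) * c) * f' := Nat.mul_le_mul hvjb (Nat.le_of_dvd hf1 haf)
      _ = _ := by rw [hcn]; congr 2; omega

end Cfsg.Agent.R2.Spec.X5
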